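import Cfsg.Agent.Weyl.Cert

/-! Certified coset tables for the Weyl group of type G2 (generated data, checked by the kernel). -/

namespace CfsgLib.Weyl

def levG2_0_T : List (List ℕ) :=
  [[1, 0], [0, 1]]

def levG2_0_reps : List (List ℕ) :=
  [[], [0]]

def levG2_0_deds : List (ℕ × ℕ × ℕ) :=
  [(0, 0, 0)]

def levG2_0_pts : List (List ℤ) :=
  [[1, 0], [-1, 1]]

/-- Level 0 of the chain for G2. -/
def levelG2_0 : Level where
  node := 0
  T := levG2_0_T
  reps := levG2_0_reps
  deds := levG2_0_deds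
  pts := levG2_0_pts

def levG2_1_T : List (List ℕ) :=
  [[0, 1], [2, 0], [1, 3], [4, 2], [3, 5], [5, 4]]

def levG2_1_reps : List (List ℕ) :=
  [[], [1], [0, 1], [1, 0, 1], [0, 1, 0, 1], [1, 0, 1, 0, 1]]

def levG2_1_deds : List (ℕ × ℕ × ℕ) :=
  [(0, 0, 1), (0, 1, 0), (1, 0, 0), (2, 1, 0), (3, 0, 0), (4, 1, 0), (5, 0, 2)]

def levG2_1_pts : List (List ℤ) :=
  [[0, 1], [3, -1], [-3, 2], [3, -2], [-3, 1], [0, -1]]

/-- Level 1 of the chain for G2. -/
def levelG2_1 : Level where
  node := 1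
  T := levG2_1_T
  reps := levG2_1_reps
  deds := levG2_1_deds
  pts := levG2_1_pts

/-- The certificate for type G2. -/
def certG2 : Cert 2 where
  A := [[2, -3], [-1, 2]]
  levels := [levelG2_0, levelG2_1]

theorem certG2_good : certG2.Good CoxeterMatrix.G₂ where
  rels := by decide +kernel
  chain := by decide +kernel

end CfsgLib.Weyl
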