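import Cfsg.Agent.Weyl.Roots
import Cfsg.Agent.Weyl.DataG2
import Cfsg.Prelude.Def_ChevG2

/-! The action of W(G2) on the roots of `chevG2` (generated table, checked by the kernel). -/

namespace CfsgLib.Weyl

set_option maxHeartbeats 2000000

/-- The packed reflection table. -/
def reflTableG2 : RootTable where
  perms := [0xb060809040a010702030500, 0xa0b09070805060304020001]
  mask := 0xfc0

theorem rootG2_good :
    RootGood (D := Cfsg.Lie.chevG2) certG2 CoxeterMatrix.G₂ reflTableG2 where
  good := certG2_good
  roots := by decide +kernel
  pairs := by decide +kernel
  simples := by decide +kernel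
  braid := by decide +kernel
  levels := by decide +kernel

end CfsgLib.Weyl
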