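import Cfsg.Agent.Weyl.Cert

/-! Certified coset tables for the Weyl group of type B2 (generated data, checked by the kernel). -/

namespace CfsgLib.Weyl

def levB2_0_T : List (List ℕ) :=
  [[1, 0], [0, 1]]

def levB2_0_reps : List (List ℕ) :=
  [[], [0]]

def levB2_0_deds : List (ℕ × ℕ × ℕ) :=
  [(0, 0, 0)]

def levB2_0_pts : List (List ℤ) :=
  [[1, 0], [-1, 1]]

/-- Level 0 of the chain for B2. -/
def levelB2_0 : Level where
  node := 0
  T := levB2_0_T
  reps := levB2_0_reps
  deds := levB2_0_deds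
  pts := levB2_0_pts

def levB2_1_T : List (List ℕ) :=
  [[0, 1], [2, 0], [1, 3], [3, 2]]

def levB2_1_reps : List (List ℕ) :=
  [[], [1], [0, 1], [1, 0, 1]]

def levB2_1_deds : List (ℕ × ℕ × ℕ) :=
  [(0, 0, 1), (0, 1, 0), (1, 0, 0), (2, 1, 0), (3, 0, 2)]

def levB2_1_pts : List (List ℤ) :=
  [[0, 1], [2, -1], [-2, 1], [0, -1]]

/-- Level 1 of the chain for B2. -/
def levelB2_1 : Level where
  node := 1
  T := levB2_1_T
  reps := levB2_1_reps
  deds := levB2_1_deds
  pts := levB2_1_pts

/-- The certificate for type B2. -/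
def certB2 : Cert 2 where
  A := [[2, -2], [-1, 2]]
  levels := [levelB2_0, levelB2_1]

theorem certB2_good : certB2.Good (CoxeterMatrix.B 2) where
  rels := by decide +kernel
  chain := by decide +kernel

end CfsgLib.Weyl
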