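import Cfsg.Agent.Weyl.Roots
import Cfsg.Agent.Weyl.DataB2
import Cfsg.Prelude.Def_ChevB2

/-! The action of W(B2) on the roots of `chevB2` (generated table, checked by the kernel). -/

namespace CfsgLib.Weyl

set_option maxHeartbeats 2000000

/-- The packed reflection table. -/
def reflTableB2 : RootTable where
  perms := [0x406020700050103, 0x705060304010200]
  mask := 0xf0

theorem rootB2_good :
    RootGood (D := Cfsg.Lie.chevB2) certB2 (CoxeterMatrix.B 2) reflTableB2 where
  good := certB2_good
  roots := by decide +kernel
  pairs := by decide +kernel
  simples := by decide +kernel
  braid := by decide +kernel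
  levels := by decide +kernel

end CfsgLib.Weyl
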