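import Cfsg.Agent.Weyl.Cert
import Cfsg.Prelude.Def_ChevStructure

/-! Certified coset tables for the Weyl group of type D4 (generated data, checked by the kernel). -/

namespace CfsgLib.Weyl

def levD4_0_T : List (List ℕ) :=
  [[1, 0, 0, 0], [0, 1, 1, 1]]

def levD4_0_reps : List (List ℕ) :=
  [[], [0]]

def levD4_0_deds : List (ℕ × ℕ × ℕ) :=
  [(0, 0, 0)]

def levD4_0_pts : List (List ℤ) :=
  [[1, 0, 0, 0], [-1, 1, 0, 0]]

/-- Level 0 of the chain for D4. -/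
def levelD4_0 : Level where
  node := 0
  T := levD4_0_T
  reps := levD4_0_reps
  deds := levD4_0_deds
  pts := levD4_0_pts

def levD4_1_T : List (List ℕ) :=
  [[0, 1, 0, 0], [2, 0, 1, 1], [1, 2, 2, 2]]

def levD4_1_reps : List (List ℕ) :=
  [[], [1], [0, 1]]

def levD4_1_deds : List (ℕ × ℕ × ℕ) :=
  [(0, 0, 1), (0, 1, 0), (1, 0, 0), (2, 1, 5)]

def levD4_1_pts : List (List ℤ) :=
  [[0, 1, 0, 0], [1, -1, 1, 1], [-1, 0, 1, 1]]

/-- Level 1 of the chain for D4. -/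
def levelD4_1 : Level where
  node := 1
  T := levD4_1_T
  reps := levD4_1_reps
  deds := levD4_1_deds
  pts := levD4_1_pts

def levD4_2_T : List (List ℕ) :=
  [[0, 0, 1, 0], [1, 2, 0, 1], [3, 1, 2, 2], [2, 3, 3, 3]]

def levD4_2_reps : List (List ℕ) :=
  [[], [2], [1, 2], [0, 1, 2]]

def levD4_2_deds : List (ℕ × ℕ × ℕ) :=
  [(0, 0, 1), (0, 1, 1), (0, 2, 0), (1, 1, 0), (2, 0, 0), (1, 0, 3), (2, 2, 9), (3, 1, 5), (3, 2, 8)]

def levD4_2_pts : List (List ℤ) :=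
  [[0, 0, 1, 0], [0, 1, -1, 0], [1, -1, 0, 1], [-1, 0, 0, 1]]

/-- Level 2 of the chain for D4. -/
def levelD4_2 : Level where
  node := 2
  T := levD4_2_T
  reps := levD4_2_reps
  deds := levD4_2_deds
  pts := levD4_2_pts

def levD4_3_T : List (List ℕ) :=
  [[0, 0, 0, 1], [1, 2, 1, 0], [3, 1, 4, 2], [2, 3, 5, 3], [5, 4, 2, 4], [4, 6, 3, 5], [6, 5, 6, 7], [7, 7, 7, 6]]

def levD4_3_reps : List (List ℕ) :=
  [[], [3], [1, 3], [0, 1, 3], [2, 1, 3], [2, 0, 1, 3], [1, 2, 0, 1, 3], [3, 1, 2, 0, 1, 3]]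

def levD4_3_deds : List (ℕ × ℕ × ℕ) :=
  [(0, 0, 1), (0, 1, 1), (0, 2, 1), (0, 3, 0), (1, 1, 0), (2, 0, 0), (2, 2, 0), (3, 2, 0), (5, 1, 0), (6, 3, 0), (1, 0, 4), (1, 2, 10), (2, 3, 12), (3, 1, 5), (3, 3, 11), (4, 0, 3), (4, 1, 6), (4, 3, 13), (5, 3, 11), (6, 0, 2), (6, 2, 9), (7, 0, 4), (7, 1, 7), (7, 2, 10)]

def levD4_3_pts : List (List ℤ) :=
  [[0, 0, 0, 1], [0, 1, 0, -1], [1, -1, 1, 0], [-1, 0, 1, 0], [1, 0, -1, 0], [-1, 1, -1, 0], [0, -1, 0, 1], [0, 0, 0, -1]]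

/-- Level 3 of the chain for D4. -/
def levelD4_3 : Level where
  node := 3
  T := levD4_3_T
  reps := levD4_3_reps
  deds := levD4_3_deds
  pts := levD4_3_pts

/-- The certificate for type D4. -/
def certD4 : Cert 4 where
  A := [[2, -1, 0, 0], [-1, 2, -1, -1], [0, -1, 2, 0], [0, -1, 0, 2]]
  levels := [levelD4_0, levelD4_1, levelD4_2, levelD4_3]

theorem certD4_good : certD4.Good Cfsg.Lie.coxeterD4 where
  rels := by decide +kernel
  chain := by decide +kernel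

end CfsgLib.Weyl
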