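import Cfsg.Agent.Weyl.Roots
import Cfsg.Agent.Weyl.DataD4
import Cfsg.Prelude.Def_ChevD4

/-! The action of W(D4) on the roots of `chevD4` (generated table, checked by the kernel). -/

namespace CfsgLib.Weyl

set_option maxHeartbeats 2000000

/-- The packed reflection table. -/
def reflTableD4 : RootTable where
  perms := [0x1711100f0e05161514130d0c0b0a04030201120908070600, 0x161715141213110d0c09100f08070e0b0a06040503020001, 0x1714131615120f0e11100a0c0b0d07060908050201040300, 0x17151613141210110e0f0d0b0c0a08090607050304010200]
  mask := 0xfff000

theorem rootD4_good :
    RootGood (D := Cfsg.Lie.chevD4) certD4 Cfsg.Lie.coxeterD4 reflTableD4 where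
  good := certD4_good
  roots := by decide +kernel
  pairs := by decide +kernel
  simples := by decide +kernel
  braid := by decide +kernel
  levels := by decide +kernel

end CfsgLib.Weyl
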