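import Cfsg.Agent.Weyl.Cert

/-! Certified coset tables for the Weyl group of type E6 (generated data, checked by the kernel). -/

namespace CfsgLib.Weyl

def levE6_0_T : List (List ℕ) :=
  [[1, 0, 0, 0, 0, 0], [0, 1, 1, 1, 1, 1]]

def levE6_0_reps : List (List ℕ) :=
  [[], [0]]

def levE6_0_deds : List (ℕ × ℕ × ℕ) :=
  [(0, 0, 0)]

def levE6_0_pts : List (List ℤ) :=
  [[1, 0, 0, 0, 0, 0], [-1, 0, 1, 0, 0, 0]]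

/-- Level 0 of the chain for E6. -/
def levelE6_0 : Level where
  node := 0
  T := levE6_0_T
  reps := levE6_0_reps
  deds := levE6_0_deds
  pts := levE6_0_pts

def levE6_1_T : List (List ℕ) :=
  [[0, 0, 1, 0, 0, 0], [2, 1, 0, 1, 1, 1], [1, 2, 2, 2, 2, 2]]

def levE6_1_reps : List (List ℕ) :=
  [[], [2], [0, 2]]

def levE6_1_deds : List (ℕ × ℕ × ℕ) :=
  [(0, 0, 1), (0, 2, 0), (1, 0, 0), (2, 2, 12)]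

def levE6_1_pts : List (List ℤ) :=
  [[0, 0, 1, 0, 0, 0], [1, 0, -1, 1, 0, 0], [-1, 0, 0, 1, 0, 0]]

/-- Level 1 of the chain for E6. -/
def levelE6_1 : Level where
  node := 2
  T := levE6_1_T
  reps := levE6_1_reps
  deds := levE6_1_deds
  pts := levE6_1_pts

def levE6_2_T : List (List ℕ) :=
  [[0, 0, 0, 1, 0, 0], [1, 1, 2, 0, 1, 1], [3, 2, 1, 2, 2, 2], [2, 3, 3, 3, 3, 3]]

def levE6_2_reps : List (List ℕ) :=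
  [[], [3], [2, 3], [0, 2, 3]]

def levE6_2_deds : List (ℕ × ℕ × ℕ) :=
  [(0, 0, 1), (0, 2, 1), (0, 3, 0), (1, 2, 0), (2, 0, 0), (1, 0, 4), (2, 3, 19), (3, 2, 12), (3, 3, 17)]

def levE6_2_pts : List (List ℤ) :=
  [[0, 0, 0, 1, 0, 0], [0, 1, 1, -1, 1, 0], [1, 1, -1, 0, 1, 0], [-1, 1, 0, 0, 1, 0]]

/-- Level 2 of the chain for E6. -/
def levelE6_2 : Level where
  node := 3
  T := levE6_2_T
  reps := levE6_2_reps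
  deds := levE6_2_deds
  pts := levE6_2_pts

def levE6_3_T : List (List ℕ) :=
  [[0, 1, 0, 0, 0, 0], [1, 0, 1, 2, 1, 1], [2, 2, 3, 1, 2, 2], [4, 3, 2, 3, 3, 3], [3, 4, 4, 4, 4, 4]]

def levE6_3_reps : List (List ℕ) :=
  [[], [1], [3, 1], [2, 3, 1], [0, 2, 3, 1]]

def levE6_3_deds : List (ℕ × ℕ × ℕ) :=
  [(0, 0, 1), (0, 2, 1), (0, 3, 1), (0, 1, 0), (1, 3, 0), (2, 2, 0), (3, 0, 0), (1, 0, 2), (1, 2, 13), (2, 0, 4), (2, 1, 9), (3, 1, 8), (3, 3, 19), (4, 1, 7), (4, 2, 12), (4, 3, 17)]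

def levE6_3_pts : List (List ℤ) :=
  [[0, 1, 0, 0, 0, 0], [0, -1, 0, 1, 0, 0], [0, 0, 1, -1, 1, 0], [1, 0, -1, 0, 1, 0], [-1, 0, 0, 0, 1, 0]]

/-- Level 3 of the chain for E6. -/
def levelE6_3 : Level where
  node := 1
  T := levE6_3_T
  reps := levE6_3_reps
  deds := levE6_3_deds
  pts := levE6_3_pts

def levE6_4_T : List (List ℕ) :=
  [[0, 0, 0, 0, 1, 0], [1, 1, 1, 2, 0, 1], [2, 4, 3, 1, 2, 2], [5, 6, 2, 3, 3, 3], [4, 2, 6, 4, 4, 4], [3, 7, 5, 5, 5, 5], [7, 3, 4, 8, 6, 6], [6, 5, 7, 9, 7, 7], [9, 8, 8, 6, 10, 8], [8, 9, 11, 7, 12, 9], [12, 10, 10, 10, 8, 10], [11, 11, 9, 11, 13, 11], [10, 12, 13, 12, 9, 12], [13, 13, 12, 14, 11, 13], [14, 15, 14, 13, 14, 14], [15, 14, 15, 15, 15, 15]]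

def levE6_4_reps : List (List ℕ) :=
  [[], [4], [3, 4], [2, 3, 4], [1, 3, 4], [0, 2, 3, 4], [1, 2, 3, 4], [1, 0, 2, 3, 4], [3, 1, 2, 3, 4], [3, 1, 0, 2, 3, 4], [4, 3, 1, 2, 3, 4], [2, 3, 1, 0, 2, 3, 4], [4, 3, 1, 0, 2, 3, 4], [4, 2, 3, 1, 0, 2, 3, 4], [3, 4, 2, 3, 1, 0, 2, 3, 4], [1, 3, 4, 2, 3, 1, 0, 2, 3, 4]]

def levE6_4_deds : List (ℕ × ℕ × ℕ) :=
  [(0, 0, 1), (0, 2, 1), (0, 3, 1), (0, 1, 1), (0, 4, 0), (1, 3, 0), (2, 2, 0), (2, 1, 0), (3, 0, 0), (3, 1, 0), (5, 1, 0), (6, 3, 0), (7, 3, 0), (8, 4, 0), (9, 2, 0), (9, 4, 0), (11, 4, 0), (13, 3, 0), (14, 1, 0), (1, 0, 5), (1, 1, 10), (1, 2, 15), (2, 0, 4), (2, 4, 25), (3, 3, 19), (3, 4, 24), (4, 0, 2), (4, 2, 13), (4, 3, 18), (4, 4, 23), (5, 2, 12), (5, 3, 17), (5, 4, 22), (6, 0, 2), (6, 4, 23), (7, 2, 12), (7, 4, 22), (8, 0, 4), (8, 1,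 9), (8, 2, 14), (9, 1, 7), (10, 0, 5), (10, 1, 10), (10, 2, 15), (10, 3, 20), (11, 0, 3), (11, 1, 8), (11, 3, 19), (12, 1, 7), (12, 2, 15), (12, 3, 17), (13, 0, 3), (13, 1, 8), (14, 0, 4), (14, 2, 14), (14, 4, 25), (15, 0, 2), (15, 2, 13), (15, 3, 18), (15, 4, 23)]

def levE6_4_pts : List (List ℤ) :=
  [[0, 0, 0, 0, 1, 0], [0, 0, 0, 1, -1, 1], [0, 1, 1, -1, 0, 1], [1, 1, -1, 0, 0, 1], [0, -1, 1, 0, 0, 1], [-1, 1, 0, 0, 0, 1], [1, -1, -1, 1, 0, 1], [-1, -1, 0, 1, 0, 1], [1, 0, 0, -1, 1, 1], [-1, 0, 1, -1, 1, 1], [1, 0, 0, 0, -1, 2], [0, 0, -1, 0, 1, 1], [-1, 0, 1, 0, -1, 2], [0, 0, -1, 1, -1, 2], [0, 1, 0, -1, 0, 2], [0, -1, 0, 0, 0, 2]]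

/-- Level 4 of the chain for E6. -/
def levelE6_4 : Level where
  node := 4
  T := levE6_4_T
  reps := levE6_4_reps
  deds := levE6_4_deds
  pts := levE6_4_pts

def levE6_5_T : List (List ℕ) :=
  [[0, 0, 0, 0, 0, 1], [1, 1, 1, 1, 2, 0], [2, 2, 2, 3, 1, 2], [3, 5, 4, 2, 3, 3], [6, 7, 3, 4, 4, 4], [5, 3, 7, 5, 5, 5], [4, 8, 6, 6, 6, 6], [8, 4, 5, 9, 7, 7], [7, 6, 8, 10, 8, 8], [10, 9, 9, 7, 11, 9], [9, 10, 12, 8, 13, 10], [13, 11, 11, 11, 9, 14], [12, 12, 10, 12, 15, 12], [11, 13, 15, 13, 10, 16], [16, 14, 14, 14, 14, 11], [15, 15, 13, 17, 12, 18], [14, 16, 18, 16, 16, 13], [17, 19, 17, 15, 17, 20], [18, 18, 16, 20, 18, 15], [19, 17, 19, 19, 19, 21], [20, 21, 20, 18, 22, 17], [21, 20, 21, 21, 23, 19], [22, 23, 22, 22, 20, 22], [23, 22, 23, 24, 21, 23], [24, 24, 25, 23, 24, 24], [26, 25, 24,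 25, 25, 25], [25, 26, 26, 26, 26, 26]]

def levE6_5_reps : List (List ℕ) :=
  [[], [5], [4, 5], [3, 4, 5], [2, 3, 4, 5], [1, 3, 4, 5], [0, 2, 3, 4, 5], [1, 2, 3, 4, 5], [1, 0, 2, 3, 4, 5], [3, 1, 2, 3, 4, 5], [3, 1, 0, 2, 3, 4, 5], [4, 3, 1, 2, 3, 4, 5], [2, 3, 1, 0, 2, 3, 4, 5], [4, 3, 1, 0, 2, 3, 4, 5], [5, 4, 3, 1, 2, 3, 4, 5], [4, 2, 3, 1, 0, 2, 3, 4, 5], [5, 4, 3, 1, 0, 2, 3, 4, 5], [3, 4, 2, 3, 1, 0, 2, 3, 4, 5], [5, 4, 2, 3, 1, 0, 2, 3, 4, 5], [1, 3, 4, 2, 3, 1, 0, 2, 3, 4, 5], [5, 3, 4, 2, 3, 1, 0, 2, 3, 4, 5], [5, 1, 3, 4, 2, 3, 1, 0, 2, 3, 4, 5], [4, 5, 3, 4, 2, 3, 1, 0, 2, 3, 4, 5], [4, 5, 1, 3, 4, 2, 3, 1, 0, 2, 3, 4, 5], [3, 4, 5, 1, 3, 4, 2, 3, 1, 0, 2, 3, 4, 5], [2, 3, 4, 5, 1, 3, 4, 2, 3, 1, 0, 2, 3, 4, 5], [0, 2, 3, 4, 5, 1, 3, 4, 2, 3, 1, 0, 2, 3, 4, 5]]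

def levE6_5_dedsc0 : List (ℕ × ℕ × ℕ) :=
  [(0, 0, 1), (0, 2, 1), (0, 3, 1), (0, 1, 1), (0, 4, 1), (0, 5, 0), (1, 4, 0), (2, 3, 0), (3, 2, 0), (3, 1, 0), (4, 0, 0), (4, 1, 0), (6, 1, 0), (7, 3, 0), (8, 3, 0), (9, 4, 0), (10, 2, 0), (10, 4, 0), (11, 5, 0), (12, 4, 0), (13, 5, 0), (15, 3, 0), (15, 5, 0), (17, 1, 0), (17, 5, 0), (19, 5, 0), (20, 4, 0), (21, 4, 0), (23, 3, 0), (24, 2, 0), (25, 0, 0), (1, 0, 6), (1, 1, 11), (1, 2, 16), (1, 3, 21), (2, 0, 5), (2, 1, 10), (2, 2, 15), (2, 5, 31), (3, 0, 4), (3, 4, 25), (3, 5, 30), (4, 3, 19), (4, 4, 24), (4, 5, 29), (5, 0, 2), (5, 2, 13), (5, 3, 18), (5, 4, 23), (5, 5, 28), (6, 2, 12), (6, 3, 17), (6, 4, 22), (6, 5, 27), (7, 0, 2), (7, 4, 23), (7, 5, 28), (8, 2, 12), (8, 4, 22), (8, 5, 27), (9, 0, 4), (9, 1, 9), (9, 2, 14), (9, 5, 30), (10, 1,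 7), (10, 5, 27), (11, 0, 5), (11, 1, 10), (11, 2, 15), (11, 3, 20), (12, 0, 3), (12, 1, 8), (12, 3, 19), (12, 5, 29), (13, 1, 7), (13, 2, 15), (13, 3, 17), (14, 0, 6), (14, 1, 11), (14, 2, 16), (14, 3, 21), (14, 4, 26), (15, 0, 3), (15, 1, 8), (16, 1, 7), (16, 2, 16), (16, 3, 17), (16, 4, 22), (17, 0, 4), (17, 2, 14), (17, 4, 25), (18, 0, 3), (18, 1, 8), (18, 3, 21), (18, 4, 24), (19, 0, 2), (19, 2, 13), (19, 3, 18), (19, 4, 23), (20, 0, 4)]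

def levE6_5_dedsc1 : List (ℕ × ℕ × ℕ) :=
  [(20, 1, 11), (20, 2, 14), (21, 0, 2), (21, 2, 13), (21, 3, 18), (22, 0, 5), (22, 1, 10), (22, 2, 15), (22, 3, 20), (22, 5, 31), (23, 0, 2), (23, 2, 13), (23, 5, 28), (24, 0, 4), (24, 1, 9), (24, 4, 25), (24, 5, 30), (25, 1, 8), (25, 3, 19), (25, 4, 24), (25, 5, 29), (26, 1, 7), (26, 2, 12), (26, 3, 17), (26, 4, 22), (26, 5, 27)]

def levE6_5_deds : List (ℕ × ℕ × ℕ) :=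
  levE6_5_dedsc0 ++ levE6_5_dedsc1

def levE6_5_pts : List (List ℤ) :=
  [[0, 0, 0, 0, 0, 1], [0, 0, 0, 0, 1, -1], [0, 0, 0, 1, -1, 0], [0, 1, 1, -1, 0, 0], [1, 1, -1, 0, 0, 0], [0, -1, 1, 0, 0, 0], [-1, 1, 0, 0, 0, 0], [1, -1, -1, 1, 0, 0], [-1, -1, 0, 1, 0, 0], [1, 0, 0, -1, 1, 0], [-1, 0, 1, -1, 1, 0], [1, 0, 0, 0, -1, 1], [0, 0, -1, 0, 1, 0], [-1, 0, 1, 0, -1, 1], [1, 0, 0, 0, 0, -1], [0, 0, -1, 1, -1, 1], [-1, 0, 1, 0, 0, -1], [0, 1, 0, -1, 0, 1], [0, 0, -1, 1, 0, -1], [0, -1, 0, 0, 0, 1], [0, 1, 0, -1, 1, -1], [0, -1, 0, 0, 1, -1], [0, 1, 0, 0, -1, 0], [0, -1, 0, 1, -1, 0], [0, 0, 1, -1, 0, 0], [1, 0, -1, 0, 0, 0], [-1, 0, 0, 0, 0, 0]]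

/-- Level 5 of the chain for E6. -/
def levelE6_5 : Level where
  node := 5
  T := levE6_5_T
  reps := levE6_5_reps
  deds := levE6_5_deds
  pts := levE6_5_pts

/-- The certificate for type E6. -/
def certE6 : Cert 6 where
  A := [[2, 0, -1, 0, 0, 0], [0, 2, 0, -1, 0, 0], [-1, 0, 2, -1, 0, 0], [0, -1, -1, 2, -1, 0], [0, 0, 0, -1, 2, -1], [0, 0, 0, 0, -1, 2]]
  levels := [levelE6_0, levelE6_1, levelE6_2, levelE6_3, levelE6_4, levelE6_5]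

theorem certE6_good : certE6.Good CoxeterMatrix.E₆ where
  rels := by decide +kernel
  chain := by decide +kernel

end CfsgLib.Weyl
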