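import Cfsg.Agent.Weyl.Roots
import Cfsg.Agent.Weyl.DataE6
import Cfsg.Prelude.Def_ChevE6

/-! The action of W(E6) on the roots of `chevE6` (generated table, checked by the kernel). -/

namespace CfsgLib.Weyl

set_option maxHeartbeats 2000000

/-- The packed reflection table. -/
def reflTableE6 : RootTable where
  perms := [0x47464544433736353433322d2c2b2a0f4241403f3e3d31302f2e3c3b3a39292827262524232221201f1e0e0d0c0b191817160a0908070605381d1c1b1a1514131211100403020100, 0x46474544434241403c3b3a3f3e3d39383736352d2c2b292827193433322a31302f2625242322211817161d1514132e201f1e1c1b1a1211100f0e0a09080d0c0b0706050403020001, 0x47464241404544433f3e3d3c3b3a383937363531302f3433322e2928271d2d2c2b2625242322211c1b1a2a201f1e191514131817161211100e0f0d0c0b0a09080403020706050100, 0x4745464443423f3e41403d3c3b393a3837343336353231302e2f2d2c2a2b262520292824231f1e2722211c1d1b1a181917161512111413100f0d0e0c0b0a07060908050403010200, 0x47464445434142403f3d3e3c3a3b3938363735343233312f302e2d2b2c2a2927282422262125231f201e1d1b1c1a191718161415131210110f0e0c0d0b090a080705060402030100, 0x47464543444240413e3f3d3b3c3a393837353633343230312f2e2c2d2b2a282927252623242122201e1f1d1c1a1b191816171513141112100f0e0d0b0c0a08090607050304020100]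
  mask := 0xfffffffff000000000

theorem rootE6_good :
    RootGood (D := Cfsg.Lie.chevE6) certE6 CoxeterMatrix.E₆ reflTableE6 where
  good := certE6_good
  roots := by decide +kernel
  pairs := by decide +kernel
  simples := by decide +kernel
  braid := by decide +kernel
  levels := by decide +kernel

end CfsgLib.Weyl
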