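import Cfsg.Agent.Weyl.Cert

/-! Certified coset tables for the Weyl group of type E7 (generated data, checked by the kernel). -/

namespace CfsgLib.Weyl

def levE7_0_T : List (List ℕ) :=
  [[1, 0, 0, 0, 0, 0, 0], [0, 1, 1, 1, 1, 1, 1]]

def levE7_0_reps : List (List ℕ) :=
  [[], [0]]

def levE7_0_deds : List (ℕ × ℕ × ℕ) :=
  [(0, 0, 0)]

def levE7_0_pts : List (List ℤ) :=
  [[1, 0, 0, 0, 0, 0, 0], [-1, 0, 1, 0, 0, 0, 0]]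

/-- Level 0 of the chain for E7. -/
def levelE7_0 : Level where
  node := 0
  T := levE7_0_T
  reps := levE7_0_reps
  deds := levE7_0_deds
  pts := levE7_0_pts

def levE7_1_T : List (List ℕ) :=
  [[0, 0, 1, 0, 0, 0, 0], [2, 1, 0, 1, 1, 1, 1], [1, 2, 2, 2, 2, 2, 2]]

def levE7_1_reps : List (List ℕ) :=
  [[], [2], [0, 2]]

def levE7_1_deds : List (ℕ × ℕ × ℕ) :=
  [(0, 0, 1), (0, 2, 0), (1, 0, 0), (2, 2, 14)]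

def levE7_1_pts : List (List ℤ) :=
  [[0, 0, 1, 0, 0, 0, 0], [1, 0, -1, 1, 0, 0, 0], [-1, 0, 0, 1, 0, 0, 0]]

/-- Level 1 of the chain for E7. -/
def levelE7_1 : Level where
  node := 2
  T := levE7_1_T
  reps := levE7_1_reps
  deds := levE7_1_deds
  pts := levE7_1_pts

def levE7_2_T : List (List ℕ) :=
  [[0, 0, 0, 1, 0, 0, 0], [1, 1, 2, 0, 1, 1, 1], [3, 2, 1, 2, 2, 2, 2], [2, 3, 3, 3, 3, 3, 3]]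

def levE7_2_reps : List (List ℕ) :=
  [[], [3], [2, 3], [0, 2, 3]]

def levE7_2_deds : List (ℕ × ℕ × ℕ) :=
  [(0, 0, 1), (0, 2, 1), (0, 3, 0), (1, 2, 0), (2, 0, 0), (1, 0, 4), (2, 3, 22), (3, 2, 14), (3, 3, 20)]

def levE7_2_pts : List (List ℤ) :=
  [[0, 0, 0, 1, 0, 0, 0], [0, 1, 1, -1, 1, 0, 0], [1, 1, -1, 0, 1, 0, 0], [-1, 1, 0, 0, 1, 0, 0]]

/-- Level 2 of the chain for E7. -/
def levelE7_2 : Level where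
  node := 3
  T := levE7_2_T
  reps := levE7_2_reps
  deds := levE7_2_deds
  pts := levE7_2_pts

def levE7_3_T : List (List ℕ) :=
  [[0, 1, 0, 0, 0, 0, 0], [1, 0, 1, 2, 1, 1, 1], [2, 2, 3, 1, 2, 2, 2], [4, 3, 2, 3, 3, 3, 3], [3, 4, 4, 4, 4, 4, 4]]

def levE7_3_reps : List (List ℕ) :=
  [[], [1], [3, 1], [2, 3, 1], [0, 2, 3, 1]]

def levE7_3_deds : List (ℕ × ℕ × ℕ) :=
  [(0, 0, 1), (0, 2, 1), (0, 3, 1), (0, 1, 0), (1, 3, 0), (2, 2, 0), (3, 0, 0), (1, 0, 2), (1, 2, 15), (2, 0, 4), (2, 1, 10), (3, 1, 9), (3, 3, 22), (4, 1, 8), (4, 2, 14), (4, 3, 20)]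

def levE7_3_pts : List (List ℤ) :=
  [[0, 1, 0, 0, 0, 0, 0], [0, -1, 0, 1, 0, 0, 0], [0, 0, 1, -1, 1, 0, 0], [1, 0, -1, 0, 1, 0, 0], [-1, 0, 0, 0, 1, 0, 0]]

/-- Level 3 of the chain for E7. -/
def levelE7_3 : Level where
  node := 1
  T := levE7_3_T
  reps := levE7_3_reps
  deds := levE7_3_deds
  pts := levE7_3_pts

def levE7_4_T : List (List ℕ) :=
  [[0, 0, 0, 0, 1, 0, 0], [1, 1, 1, 2, 0, 1, 1], [2, 4, 3, 1, 2, 2, 2], [5, 6, 2, 3, 3, 3, 3], [4, 2, 6, 4, 4, 4, 4], [3, 7, 5, 5, 5, 5, 5], [7, 3, 4, 8, 6, 6, 6], [6, 5, 7, 9, 7, 7, 7], [9, 8, 8, 6, 10, 8, 8], [8, 9, 11, 7, 12, 9, 9], [12, 10, 10, 10, 8, 10, 10], [11, 11, 9, 11, 13, 11, 11], [10, 12, 13, 12, 9, 12, 12], [13, 13, 12, 14, 11, 13, 13], [14, 15, 14, 13, 14, 14, 14], [15, 14, 15, 15, 15, 15, 15]]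

def levE7_4_reps : List (List ℕ) :=
  [[], [4], [3, 4], [2, 3, 4], [1, 3, 4], [0, 2, 3, 4], [1, 2, 3, 4], [1, 0, 2, 3, 4], [3, 1, 2, 3, 4], [3, 1, 0, 2, 3, 4], [4, 3, 1, 2, 3, 4], [2, 3, 1, 0, 2, 3, 4], [4, 3, 1, 0, 2, 3, 4], [4, 2, 3, 1, 0, 2, 3, 4], [3, 4, 2, 3, 1, 0, 2, 3, 4], [1, 3, 4, 2, 3, 1, 0, 2, 3, 4]]

def levE7_4_deds : List (ℕ × ℕ × ℕ) :=
  [(0, 0, 1), (0, 2, 1), (0, 3, 1), (0, 1, 1), (0, 4, 0), (1, 3, 0), (2, 2, 0), (2, 1, 0), (3, 0, 0), (3, 1, 0), (5, 1, 0), (6, 3, 0), (7, 3, 0), (8, 4, 0), (9, 2, 0), (9, 4, 0), (11, 4, 0), (13, 3, 0), (14, 1, 0), (1, 0, 5), (1, 1, 11), (1, 2, 17), (2, 0, 4), (2, 4, 29), (3, 3, 22), (3, 4, 28), (4, 0, 2), (4, 2, 15), (4, 3, 21), (4, 4, 27), (5, 2, 14), (5, 3, 20), (5, 4, 26), (6, 0, 2), (6, 4, 27), (7, 2, 14),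 (7, 4, 26), (8, 0, 4), (8, 1, 10), (8, 2, 16), (9, 1, 8), (10, 0, 5), (10, 1, 11), (10, 2, 17), (10, 3, 23), (11, 0, 3), (11, 1, 9), (11, 3, 22), (12, 1, 8), (12, 2, 17), (12, 3, 20), (13, 0, 3), (13, 1, 9), (14, 0, 4), (14, 2, 16), (14, 4, 29), (15, 0, 2), (15, 2, 15), (15, 3, 21), (15, 4, 27)]

def levE7_4_pts : List (List ℤ) :=
  [[0, 0, 0, 0, 1, 0, 0], [0, 0, 0, 1, -1, 1, 0], [0, 1, 1, -1, 0, 1, 0], [1, 1, -1, 0, 0, 1, 0], [0, -1, 1, 0, 0, 1, 0], [-1, 1, 0, 0, 0, 1, 0], [1, -1, -1, 1, 0, 1, 0], [-1, -1, 0, 1, 0, 1, 0], [1, 0, 0, -1, 1, 1, 0], [-1, 0, 1, -1, 1, 1, 0], [1, 0, 0, 0, -1, 2, 0], [0, 0, -1, 0, 1, 1, 0], [-1, 0, 1, 0, -1, 2, 0], [0, 0, -1, 1, -1, 2, 0], [0, 1, 0, -1, 0, 2, 0], [0, -1, 0, 0, 0, 2, 0]]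

/-- Level 4 of the chain for E7. -/
def levelE7_4 : Level where
  node := 4
  T := levE7_4_T
  reps := levE7_4_reps
  deds := levE7_4_deds
  pts := levE7_4_pts

def levE7_5_T : List (List ℕ) :=
  [[0, 0, 0, 0, 0, 1, 0], [1, 1, 1, 1, 2, 0, 1], [2, 2, 2, 3, 1, 2, 2], [3, 5, 4, 2, 3, 3, 3], [6, 7, 3, 4, 4, 4, 4], [5, 3, 7, 5, 5, 5, 5], [4, 8, 6, 6, 6, 6, 6], [8, 4, 5, 9, 7, 7, 7], [7, 6, 8, 10, 8, 8, 8], [10, 9, 9, 7, 11, 9, 9], [9, 10, 12, 8, 13, 10, 10], [13, 11, 11, 11, 9, 14, 11], [12, 12, 10, 12, 15, 12, 12], [11, 13, 15, 13, 10, 16, 13], [16, 14, 14, 14, 14, 11, 14], [15, 15, 13, 17, 12, 18, 15], [14, 16, 18, 16, 16, 13, 16], [17, 19, 17, 15, 17, 20, 17], [18, 18, 16, 20, 18, 15, 18], [19, 17, 19, 19, 19, 21, 19], [20, 21, 20, 18, 22, 17, 20], [21, 20, 21,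 21, 23, 19, 21], [22, 23, 22, 22, 20, 22, 22], [23, 22, 23, 24, 21, 23, 23], [24, 24, 25, 23, 24, 24, 24], [26, 25, 24, 25, 25, 25, 25], [25, 26, 26, 26, 26, 26, 26]]

def levE7_5_reps : List (List ℕ) :=
  [[], [5], [4, 5], [3, 4, 5], [2, 3, 4, 5], [1, 3, 4, 5], [0, 2, 3, 4, 5], [1, 2, 3, 4, 5], [1, 0, 2, 3, 4, 5], [3, 1, 2, 3, 4, 5], [3, 1, 0, 2, 3, 4, 5], [4, 3, 1, 2, 3, 4, 5], [2, 3, 1, 0, 2, 3, 4, 5], [4, 3, 1, 0, 2, 3, 4, 5], [5, 4, 3, 1, 2, 3, 4, 5], [4, 2, 3, 1, 0, 2, 3, 4, 5], [5, 4, 3, 1, 0, 2, 3, 4, 5], [3, 4, 2, 3, 1, 0, 2, 3, 4, 5], [5, 4, 2, 3, 1, 0, 2, 3, 4, 5], [1, 3, 4, 2, 3, 1, 0, 2, 3, 4, 5], [5, 3, 4, 2, 3, 1, 0, 2, 3, 4, 5], [5, 1, 3, 4, 2, 3, 1, 0, 2, 3, 4, 5], [4, 5, 3, 4, 2, 3, 1, 0, 2, 3, 4, 5], [4, 5, 1, 3, 4, 2, 3, 1, 0, 2, 3, 4, 5],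 [3, 4, 5, 1, 3, 4, 2, 3, 1, 0, 2, 3, 4, 5], [2, 3, 4, 5, 1, 3, 4, 2, 3, 1, 0, 2, 3, 4, 5], [0, 2, 3, 4, 5, 1, 3, 4, 2, 3, 1, 0, 2, 3, 4, 5]]

def levE7_5_dedsc0 : List (ℕ × ℕ × ℕ) :=
  [(0, 0, 1), (0, 2, 1), (0, 3, 1), (0, 1, 1), (0, 4, 1), (0, 5, 0), (1, 4, 0), (2, 3, 0), (3, 2, 0), (3, 1, 0), (4, 0, 0), (4, 1, 0), (6, 1, 0), (7, 3, 0), (8, 3, 0), (9, 4, 0), (10, 2, 0), (10, 4, 0), (11, 5, 0), (12, 4, 0), (13, 5, 0), (15, 3, 0), (15, 5, 0), (17, 1, 0), (17, 5, 0), (19, 5, 0), (20, 4, 0), (21, 4, 0), (23, 3, 0), (24, 2, 0), (25, 0, 0), (1, 0, 6), (1, 1, 12), (1, 2, 18), (1, 3, 24), (2, 0, 5), (2, 1, 11), (2, 2, 17), (2, 5, 36), (3, 0, 4), (3, 4, 29), (3, 5, 35), (4, 3, 22), (4, 4, 28), (4, 5, 34), (5, 0, 2), (5, 2, 15), (5, 3, 21), (5, 4, 27), (5, 5, 33), (6,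 2, 14), (6, 3, 20), (6, 4, 26), (6, 5, 32), (7, 0, 2), (7, 4, 27), (7, 5, 33), (8, 2, 14), (8, 4, 26), (8, 5, 32), (9, 0, 4), (9, 1, 10), (9, 2, 16), (9, 5, 35), (10, 1, 8), (10, 5, 32), (11, 0, 5), (11, 1, 11), (11, 2, 17), (11, 3, 23), (12, 0, 3), (12, 1, 9), (12, 3, 22), (12, 5, 34), (13, 1, 8), (13, 2, 17), (13, 3, 20), (14, 0, 6), (14, 1, 12), (14, 2, 18), (14, 3, 24), (14, 4, 30), (15, 0, 3), (15, 1, 9), (16, 1, 8), (16, 2, 18), (16, 3, 20), (16, 4, 26), (17, 0, 4), (17, 2, 16), (17, 4, 29), (18, 0, 3), (18, 1, 9), (18, 3, 24), (18, 4, 28), (19, 0, 2), (19, 2, 15), (19, 3, 21), (19, 4, 27), (20, 0, 4)]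

def levE7_5_dedsc1 : List (ℕ × ℕ × ℕ) :=
  [(20, 1, 12), (20, 2, 16), (21, 0, 2), (21, 2, 15), (21, 3, 21), (22, 0, 5), (22, 1, 11), (22, 2, 17), (22, 3, 23), (22, 5, 36), (23, 0, 2), (23, 2, 15), (23, 5, 33), (24, 0, 4), (24, 1, 10), (24, 4, 29), (24, 5, 35), (25, 1, 9), (25, 3, 22), (25, 4, 28), (25, 5, 34), (26, 1, 8), (26, 2, 14), (26, 3, 20), (26, 4, 26), (26, 5, 32)]

def levE7_5_deds : List (ℕ × ℕ × ℕ) :=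
  levE7_5_dedsc0 ++ levE7_5_dedsc1

def levE7_5_pts : List (List ℤ) :=
  [[0, 0, 0, 0, 0, 1, 0], [0, 0, 0, 0, 1, -1, 1], [0, 0, 0, 1, -1, 0, 1], [0, 1, 1, -1, 0, 0, 1], [1, 1, -1, 0, 0, 0, 1], [0, -1, 1, 0, 0, 0, 1], [-1, 1, 0, 0, 0, 0, 1], [1, -1, -1, 1, 0, 0, 1], [-1, -1, 0, 1, 0, 0, 1], [1, 0, 0, -1, 1, 0, 1], [-1, 0, 1, -1, 1, 0, 1], [1, 0, 0, 0, -1, 1, 1], [0, 0, -1, 0, 1, 0, 1], [-1, 0, 1, 0, -1, 1, 1], [1, 0, 0, 0, 0, -1, 2], [0, 0, -1, 1, -1, 1, 1], [-1, 0, 1, 0, 0, -1, 2], [0, 1, 0, -1, 0, 1, 1], [0, 0, -1, 1, 0, -1, 2], [0, -1, 0, 0, 0, 1, 1], [0, 1, 0, -1, 1, -1, 2], [0, -1, 0, 0, 1, -1, 2], [0, 1, 0, 0, -1, 0, 2], [0, -1, 0, 1, -1, 0, 2], [0, 0, 1, -1, 0, 0, 2], [1, 0, -1, 0, 0, 0, 2], [-1, 0, 0, 0, 0, 0, 2]]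

/-- Level 5 of the chain for E7. -/
def levelE7_5 : Level where
  node := 5
  T := levE7_5_T
  reps := levE7_5_reps
  deds := levE7_5_deds
  pts := levE7_5_pts

def levE7_6_T : List (List ℕ) :=
  [[0, 0, 0, 0, 0, 0, 1], [1, 1, 1, 1, 1, 2, 0], [2, 2, 2, 2, 3, 1, 2], [3, 3, 3, 4, 2, 3, 3], [4, 6, 5, 3, 4, 4, 4], [7, 8, 4, 5, 5, 5, 5], [6, 4, 8, 6, 6, 6, 6], [5, 9, 7, 7, 7, 7, 7], [9, 5, 6, 10, 8, 8, 8], [8, 7, 9, 11, 9, 9, 9], [11, 10, 10, 8, 12, 10, 10], [10, 11, 13, 9, 14, 11, 11], [14, 12, 12, 12, 10, 15, 12], [13, 13, 11, 13, 16, 13, 13], [12, 14, 16, 14, 11, 17, 14], [17, 15, 15, 15, 15, 12, 18], [16, 16, 14, 19, 13, 20, 16], [15, 17, 20, 17, 17, 14, 21], [21, 18, 18, 18, 18, 18, 15], [19, 22, 19, 16, 19, 23, 19], [20, 20, 17, 23, 20, 16, 24], [18, 21, 24,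 21, 21, 21, 17], [22, 19, 22, 22, 22, 25, 22], [23, 25, 23, 20, 26, 19, 27], [24, 24, 21, 27, 24, 24, 20], [25, 23, 25, 25, 28, 22, 29], [26, 28, 26, 26, 23, 26, 30], [27, 29, 27, 24, 30, 27, 23], [28, 26, 28, 31, 25, 28, 32], [29, 27, 29, 29, 32, 29, 25], [30, 32, 30, 30, 27, 33, 26], [31, 31, 34, 28, 31, 31, 35], [32, 30, 32, 35, 29, 36, 28], [33, 36, 33, 33, 33, 30, 33], [37, 34, 31, 34, 34, 34, 38], [35, 35, 38, 32, 35, 39, 31], [36, 33, 36, 39, 36, 32, 36], [34, 37, 37, 37, 37, 37, 40], [40, 38, 35, 38, 38, 41, 34], [39, 39, 41, 36, 42, 35, 39], [38, 40, 40, 40, 40, 43, 37], [43, 41, 39, 41, 44, 38, 41], [42, 42, 44, 42, 39, 42, 42], [41, 43, 43, 43, 45, 40, 43], [45, 44, 42, 46, 41, 44, 44], [44, 45, 45, 47, 43, 45, 45], [47, 48, 46, 44, 46, 46, 46], [46,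 50, 49, 45, 47, 47, 47], [50, 46, 48, 48, 48, 48, 48], [49, 51, 47, 49, 49, 49, 49], [48, 47, 51, 50, 50, 50, 50], [51, 49, 50, 52, 51, 51, 51], [52, 52, 52, 51, 53, 52, 52], [53, 53, 53, 53, 52, 54, 53], [54, 54, 54, 54, 54, 53, 55], [55, 55, 55, 55, 55, 55, 54]]

def levE7_6_reps : List (List ℕ) :=
  [[], [6], [5, 6], [4, 5, 6], [3, 4, 5, 6], [2, 3, 4, 5, 6], [1, 3, 4, 5, 6], [0, 2, 3, 4, 5, 6], [1, 2, 3, 4, 5, 6], [1, 0, 2, 3, 4, 5, 6], [3, 1, 2, 3, 4, 5, 6], [3, 1, 0, 2, 3, 4, 5, 6], [4, 3, 1, 2, 3, 4, 5, 6], [2, 3, 1, 0, 2, 3, 4, 5, 6], [4, 3, 1, 0, 2, 3, 4, 5, 6], [5, 4, 3, 1, 2, 3, 4, 5, 6], [4, 2, 3, 1, 0, 2, 3, 4, 5, 6], [5, 4, 3, 1, 0, 2, 3, 4, 5, 6], [6, 5, 4, 3, 1, 2, 3, 4, 5, 6], [3, 4, 2, 3, 1, 0, 2, 3, 4, 5, 6], [5, 4, 2, 3, 1, 0, 2, 3, 4, 5, 6],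 [6, 5, 4, 3, 1, 0, 2, 3, 4, 5, 6], [1, 3, 4, 2, 3, 1, 0, 2, 3, 4, 5, 6], [5, 3, 4, 2, 3, 1, 0, 2, 3, 4, 5, 6], [6, 5, 4, 2, 3, 1, 0, 2, 3, 4, 5, 6], [5, 1, 3, 4, 2, 3, 1, 0, 2, 3, 4, 5, 6], [4, 5, 3, 4, 2, 3, 1, 0, 2, 3, 4, 5, 6], [6, 5, 3, 4, 2, 3, 1, 0, 2, 3, 4, 5, 6], [4, 5, 1, 3, 4, 2, 3, 1, 0, 2, 3, 4, 5, 6], [6, 5, 1, 3, 4, 2, 3, 1, 0, 2, 3, 4, 5, 6], [6, 4, 5, 3, 4, 2, 3, 1, 0, 2, 3, 4, 5, 6], [3, 4, 5, 1, 3, 4, 2, 3, 1, 0, 2, 3, 4, 5, 6], [6, 4, 5, 1, 3, 4, 2, 3, 1, 0, 2, 3, 4, 5, 6], [5, 6, 4, 5, 3, 4, 2, 3, 1, 0, 2, 3, 4, 5, 6], [2, 3, 4, 5, 1, 3, 4, 2, 3, 1, 0, 2, 3, 4, 5, 6], [6, 3, 4, 5, 1, 3, 4, 2, 3, 1, 0, 2, 3, 4, 5, 6], [5, 6, 4, 5, 1, 3, 4, 2, 3, 1, 0, 2, 3, 4, 5, 6], [0, 2, 3, 4, 5, 1, 3, 4, 2, 3, 1, 0, 2, 3, 4, 5, 6], [6, 2, 3, 4, 5, 1, 3,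 4, 2, 3, 1, 0, 2, 3, 4, 5, 6], [5, 6, 3, 4, 5, 1, 3, 4, 2, 3, 1, 0, 2, 3, 4, 5, 6], [6, 0, 2, 3, 4, 5, 1, 3, 4, 2, 3, 1, 0, 2, 3, 4, 5, 6], [5, 6, 2, 3, 4, 5, 1, 3, 4, 2, 3, 1, 0, 2, 3, 4, 5, 6], [4, 5, 6, 3, 4, 5, 1, 3, 4, 2, 3, 1, 0, 2, 3, 4, 5, 6], [5, 6, 0, 2, 3, 4, 5, 1, 3, 4, 2, 3, 1, 0, 2, 3, 4, 5, 6], [4, 5, 6, 2, 3, 4, 5, 1, 3, 4, 2, 3, 1, 0, 2, 3, 4, 5, 6], [4, 5, 6, 0, 2, 3, 4, 5, 1, 3, 4, 2, 3, 1, 0, 2, 3, 4, 5, 6], [3, 4, 5, 6, 2, 3, 4, 5, 1, 3, 4, 2, 3, 1, 0, 2, 3, 4, 5, 6], [3, 4, 5, 6, 0, 2, 3, 4, 5, 1, 3, 4, 2, 3, 1, 0, 2, 3, 4, 5, 6], [1, 3, 4, 5, 6, 2, 3, 4, 5, 1, 3, 4, 2, 3, 1, 0, 2, 3, 4, 5, 6], [2, 3, 4, 5, 6, 0, 2, 3, 4, 5, 1, 3, 4, 2, 3, 1, 0, 2, 3, 4, 5, 6], [1, 3, 4, 5, 6, 0, 2, 3, 4, 5, 1, 3, 4, 2, 3, 1, 0, 2, 3, 4, 5, 6], [1, 2, 3,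 4, 5, 6, 0, 2, 3, 4, 5, 1, 3, 4, 2, 3, 1, 0, 2, 3, 4, 5, 6], [3, 1, 2, 3, 4, 5, 6, 0, 2, 3, 4, 5, 1, 3, 4, 2, 3, 1, 0, 2, 3, 4, 5, 6], [4, 3, 1, 2, 3, 4, 5, 6, 0, 2, 3, 4, 5, 1, 3, 4, 2, 3, 1, 0, 2, 3, 4, 5, 6], [5, 4, 3, 1, 2, 3, 4, 5, 6, 0, 2, 3, 4, 5, 1, 3, 4, 2, 3, 1, 0, 2, 3, 4, 5, 6], [6, 5, 4, 3, 1, 2, 3, 4, 5, 6, 0, 2, 3, 4, 5, 1, 3, 4, 2, 3, 1, 0, 2, 3, 4, 5, 6]]

def levE7_6_dedsc0 : List (ℕ × ℕ × ℕ) :=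
  [(0, 0, 1), (0, 2, 1), (0, 3, 1), (0, 1, 1), (0, 4, 1), (0, 5, 1), (0, 6, 0), (1, 5, 0), (2, 4, 0), (3, 3, 0), (4, 2, 0), (4, 1, 0), (5, 0, 0), (5, 1, 0), (7, 1, 0), (8, 3, 0), (9, 3, 0), (10, 4, 0), (11, 2, 0), (11, 4, 0), (12, 5, 0), (13, 4, 0), (14, 5, 0), (15, 6, 0), (16, 3, 0), (16, 5, 0), (17, 6, 0), (19, 1, 0), (19, 5, 0), (20, 6, 0), (22, 5, 0), (23, 4, 0), (23, 6, 0), (25, 4, 0), (25, 6, 0), (26, 6, 0), (28, 3, 0), (28, 6, 0), (30, 5, 0), (31, 2, 0), (31, 6, 0), (32, 5, 0), (34, 0, 0), (34, 6, 0), (35, 5, 0), (37, 6, 0), (38, 5, 0), (39, 4, 0), (40, 5, 0), (41, 4, 0), (43, 4, 0), (44, 3, 0), (45, 3, 0), (46, 1, 0), (47, 2, 0), (47, 1, 0), (49, 1, 0), (51, 3, 0), (52, 4, 0), (53, 5, 0), (54, 6, 0), (1, 0, 7), (1, 1, 13), (1, 2, 19), (1, 3, 25), (1,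 4, 31), (2, 0, 6), (2, 1, 12), (2, 2, 18), (2, 3, 24), (2, 6, 43), (3, 0, 5), (3, 1, 11), (3, 2, 17), (3, 5, 36), (3, 6, 42), (4, 0, 4), (4, 4, 29), (4, 5, 35), (4, 6, 41), (5, 3, 22), (5, 4, 28), (5, 5, 34), (5, 6, 40), (6, 0, 2), (6, 2, 15), (6, 3, 21), (6, 4, 27), (6, 5, 33), (6, 6, 39), (7, 2, 14), (7, 3, 20), (7, 4, 26), (7, 5, 32), (7, 6, 38), (8, 0, 2), (8, 4, 27), (8, 5, 33), (8, 6, 39), (9, 2, 14)]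

def levE7_6_dedsc1 : List (ℕ × ℕ × ℕ) :=
  [(9, 4, 26), (9, 5, 32), (9, 6, 38), (10, 0, 4), (10, 1, 10), (10, 2, 16), (10, 5, 35), (10, 6, 41), (11, 1, 8), (11, 5, 32), (11, 6, 38), (12, 0, 5), (12, 1, 11), (12, 2, 17), (12, 3, 23), (12, 6, 42), (13, 0, 3), (13, 1, 9), (13, 3, 22), (13, 5, 34), (13, 6, 40), (14, 1, 8), (14, 2, 17), (14, 3, 20), (14, 6, 38), (15, 0, 6), (15, 1, 12), (15, 2, 18), (15, 3, 24), (15, 4, 30), (16, 0, 3), (16, 1, 9), (16, 6, 40), (17, 1, 8), (17, 2, 18), (17, 3, 20), (17, 4, 26), (18, 0, 7), (18, 1, 13), (18, 2, 19), (18, 3, 25), (18, 4, 31), (18, 5, 37), (19, 0, 4), (19, 2, 16), (19, 4, 29), (19, 6, 41), (20, 0, 3), (20, 1, 9), (20, 3, 24), (20, 4, 28), (21, 1, 8), (21, 2, 19), (21, 3, 20), (21, 4, 26), (21, 5, 32), (22, 0, 2), (22,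 2, 15), (22, 3, 21), (22, 4, 27), (22, 6, 39), (23, 0, 4), (23, 1, 12), (23, 2, 16), (24, 0, 3), (24, 1, 9), (24, 3, 25), (24, 4, 28), (24, 5, 34), (25, 0, 2), (25, 2, 15), (25, 3, 21), (26, 0, 5), (26, 1, 11), (26, 2, 17), (26, 3, 23), (26, 5, 36), (27, 0, 4), (27, 1, 13), (27, 2, 16), (27, 4, 31), (27, 5, 35), (28, 0, 2), (28, 2, 15), (28, 5, 33), (29, 0, 2), (29, 2, 15), (29, 3, 21), (29, 4, 31), (29, 5, 33), (30, 0, 5), (30, 1, 11), (30, 2, 17), (30, 3, 23), (31, 0, 4), (31, 1, 10), (31, 4, 29), (31, 5, 35), (32, 0, 2), (32, 2, 15)]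

def levE7_6_dedsc2 : List (ℕ × ℕ × ℕ) :=
  [(32, 3, 25), (33, 0, 6), (33, 1, 12), (33, 2, 18), (33, 3, 24), (33, 4, 30), (33, 6, 43), (34, 1, 9), (34, 3, 22), (34, 4, 28), (34, 5, 34), (35, 0, 4), (35, 1, 10), (35, 2, 19), (35, 4, 29), (36, 0, 2), (36, 2, 15), (36, 3, 24), (36, 4, 27), (36, 6, 39), (37, 1, 8), (37, 2, 14), (37, 3, 20), (37, 4, 26), (37, 5, 32), (38, 0, 7), (38, 1, 9), (38, 3, 22), (38, 4, 28), (39, 0, 4), (39, 1, 10), (39, 2, 18), (39, 6, 41), (40, 1, 8), (40, 2, 14), (40, 3, 20), (40, 4, 26), (41, 0, 6), (41, 1, 9), (41, 3, 22), (41, 6, 40), (42, 0, 5), (42, 1, 11), (42, 2, 17), (42, 3, 23), (42, 5, 36), (42, 6, 42), (43, 1, 8), (43, 2, 14), (43, 3, 20), (43, 6, 38), (44, 0, 5), (44, 1, 9), (44, 5, 34), (44, 6, 40), (45, 1, 8), (45, 2, 14),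 (45, 5, 32), (45, 6, 38), (46, 0, 4), (46, 2, 16), (46, 4, 29), (46, 5, 35), (46, 6, 41), (47, 4, 26), (47, 5, 32), (47, 6, 38), (48, 0, 2), (48, 2, 15), (48, 3, 21), (48, 4, 27), (48, 5, 33), (48, 6, 39), (49, 0, 3), (49, 3, 22), (49, 4, 28), (49, 5, 34), (49, 6, 40), (50, 2, 15), (50, 3, 20), (50, 4, 26), (50, 5, 32), (50, 6, 38), (51, 0, 2), (51, 4, 27), (51, 5, 33), (51, 6, 39), (52, 0, 4), (52, 1, 10), (52, 2, 16), (52, 5, 35), (52, 6, 41), (53, 0, 5), (53, 1, 11), (53, 2, 17), (53, 3, 23), (53, 6, 42), (54, 0, 6), (54, 1, 12), (54, 2, 18)]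

def levE7_6_dedsc3 : List (ℕ × ℕ × ℕ) :=
  [(54, 3, 24), (54, 4, 30), (55, 0, 7), (55, 1, 13), (55, 2, 19), (55, 3, 25), (55, 4, 31), (55, 5, 37)]

def levE7_6_deds : List (ℕ × ℕ × ℕ) :=
  levE7_6_dedsc0 ++ levE7_6_dedsc1 ++ levE7_6_dedsc2 ++ levE7_6_dedsc3

def levE7_6_pts : List (List ℤ) :=
  [[0, 0, 0, 0, 0, 0, 1], [0, 0, 0, 0, 0, 1, -1], [0, 0, 0, 0, 1, -1, 0], [0, 0, 0, 1, -1, 0, 0], [0, 1, 1, -1, 0, 0, 0], [1, 1, -1, 0, 0, 0, 0], [0, -1, 1, 0, 0, 0, 0], [-1, 1, 0, 0, 0, 0, 0], [1, -1, -1, 1, 0, 0, 0], [-1, -1, 0, 1, 0, 0, 0], [1, 0, 0, -1, 1, 0, 0], [-1, 0, 1, -1, 1, 0, 0], [1, 0, 0, 0, -1, 1, 0], [0, 0, -1, 0, 1, 0, 0], [-1, 0, 1, 0, -1, 1, 0], [1, 0, 0, 0, 0, -1, 1], [0, 0, -1, 1, -1, 1, 0], [-1, 0, 1, 0, 0, -1, 1], [1, 0, 0, 0, 0, 0, -1], [0, 1, 0,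 -1, 0, 1, 0], [0, 0, -1, 1, 0, -1, 1], [-1, 0, 1, 0, 0, 0, -1], [0, -1, 0, 0, 0, 1, 0], [0, 1, 0, -1, 1, -1, 1], [0, 0, -1, 1, 0, 0, -1], [0, -1, 0, 0, 1, -1, 1], [0, 1, 0, 0, -1, 0, 1], [0, 1, 0, -1, 1, 0, -1], [0, -1, 0, 1, -1, 0, 1], [0, -1, 0, 0, 1, 0, -1], [0, 1, 0, 0, -1, 1, -1], [0, 0, 1, -1, 0, 0, 1], [0, -1, 0, 1, -1, 1, -1], [0, 1, 0, 0, 0, -1, 0], [1, 0, -1, 0, 0, 0, 1], [0, 0, 1, -1, 0, 1, -1], [0, -1, 0, 1, 0, -1, 0], [-1, 0, 0, 0, 0, 0, 1], [1, 0, -1, 0, 0, 1, -1], [0, 0, 1, -1, 1, -1, 0], [-1, 0, 0, 0, 0, 1, -1], [1, 0, -1, 0, 1, -1, 0], [0, 0, 1, 0, -1, 0, 0], [-1, 0, 0, 0, 1, -1, 0], [1, 0, -1, 1, -1, 0, 0], [-1, 0, 0, 1, -1, 0, 0], [1, 1, 0, -1, 0, 0, 0], [-1, 1, 1, -1, 0, 0, 0], [1, -1, 0, 0, 0, 0, 0], [0, 1, -1, 0, 0, 0, 0], [-1, -1, 1, 0,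 0, 0, 0], [0, -1, -1, 1, 0, 0, 0], [0, 0, 0, -1, 1, 0, 0], [0, 0, 0, 0, -1, 1, 0], [0, 0, 0, 0, 0, -1, 1], [0, 0, 0, 0, 0, 0, -1]]

/-- Level 6 of the chain for E7. -/
def levelE7_6 : Level where
  node := 6
  T := levE7_6_T
  reps := levE7_6_reps
  deds := levE7_6_deds
  pts := levE7_6_pts

/-- The certificate for type E7. -/
def certE7 : Cert 7 where
  A := [[2, 0, -1, 0, 0, 0, 0], [0, 2, 0, -1, 0, 0, 0], [-1, 0, 2, -1, 0, 0, 0], [0, -1, -1, 2, -1, 0, 0], [0, 0, 0, -1, 2, -1, 0], [0, 0, 0, 0, -1, 2, -1], [0, 0, 0, 0, 0, -1, 2]]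
  levels := [levelE7_0, levelE7_1, levelE7_2, levelE7_3, levelE7_4, levelE7_5, levelE7_6]

theorem certE7_good : certE7.Good CoxeterMatrix.E₇ where
  rels := by decide +kernel
  chain := by decide +kernel

end CfsgLib.Weyl
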