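import Cfsg.Agent.Weyl.Cert

/-! Certified coset tables for the Weyl group of type F4 (generated data, checked by the kernel). -/

namespace CfsgLib.Weyl

def levF4_0_T : List (List ℕ) :=
  [[1, 0, 0, 0], [0, 1, 1, 1]]

def levF4_0_reps : List (List ℕ) :=
  [[], [0]]

def levF4_0_deds : List (ℕ × ℕ × ℕ) :=
  [(0, 0, 0)]

def levF4_0_pts : List (List ℤ) :=
  [[1, 0, 0, 0], [-1, 1, 0, 0]]

/-- Level 0 of the chain for F4. -/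
def levelF4_0 : Level where
  node := 0
  T := levF4_0_T
  reps := levF4_0_reps
  deds := levF4_0_deds
  pts := levF4_0_pts

def levF4_1_T : List (List ℕ) :=
  [[0, 1, 0, 0], [2, 0, 1, 1], [1, 2, 2, 2]]

def levF4_1_reps : List (List ℕ) :=
  [[], [1], [0, 1]]

def levF4_1_deds : List (ℕ × ℕ × ℕ) :=
  [(0, 0, 1), (0, 1, 0), (1, 0, 0), (2, 1, 5)]

def levF4_1_pts : List (List ℤ) :=
  [[0, 1, 0, 0], [1, -1, 1, 0], [-1, 0, 1, 0]]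

/-- Level 1 of the chain for F4. -/
def levelF4_1 : Level where
  node := 1
  T := levF4_1_T
  reps := levF4_1_reps
  deds := levF4_1_deds
  pts := levF4_1_pts

def levF4_2_T : List (List ℕ) :=
  [[0, 0, 1, 0], [1, 2, 0, 1], [3, 1, 4, 2], [2, 3, 5, 3], [5, 4, 2, 4], [4, 6, 3, 5], [6, 5, 7, 6], [7, 7, 6, 7]]

def levF4_2_reps : List (List ℕ) :=
  [[], [2], [1, 2], [0, 1, 2], [2, 1, 2], [2, 0, 1, 2], [1, 2, 0, 1, 2], [2, 1, 2, 0, 1, 2]]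

def levF4_2_deds : List (ℕ × ℕ × ℕ) :=
  [(0, 0, 1), (0, 1, 1), (0, 2, 0), (1, 1, 0), (2, 0, 0), (2, 2, 0), (3, 2, 0), (5, 1, 0), (6, 2, 0), (1, 0, 3), (3, 1, 5), (4, 0, 3), (4, 1, 6), (6, 0, 2), (7, 0, 3), (7, 1, 6)]

def levF4_2_pts : List (List ℤ) :=
  [[0, 0, 1, 0], [0, 2, -1, 1], [2, -2, 1, 1], [-2, 0, 1, 1], [2, 0, -1, 2], [-2, 2, -1, 2], [0, -2, 1, 2], [0, 0, -1, 3]]

/-- Level 2 of the chain for F4. -/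
def levelF4_2 : Level where
  node := 2
  T := levF4_2_T
  reps := levF4_2_reps
  deds := levF4_2_deds
  pts := levF4_2_pts

def levF4_3_T : List (List ℕ) :=
  [[0, 0, 0, 1], [1, 1, 2, 0], [2, 3, 1, 2], [4, 2, 5, 3], [3, 4, 6, 4], [6, 5, 3, 7], [5, 8, 4, 9], [9, 7, 7, 5], [8, 6, 10, 11], [7, 11, 9, 6], [10, 10, 8, 12], [11, 9, 13, 8], [12, 12, 14, 10], [13, 15, 11, 14], [14, 16, 12, 13], [17, 13, 15, 16], [18, 14, 19, 15], [15, 17, 17, 18], [16, 18, 20, 17], [20, 19, 16, 19], [19, 21, 18, 20], [21, 20, 22, 21], [22, 22, 21, 23], [23, 23, 23, 22]]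

def levF4_3_reps : List (List ℕ) :=
  [[], [3], [2, 3], [1, 2, 3], [0, 1, 2, 3], [2, 1, 2, 3], [2, 0, 1, 2, 3], [3, 2, 1, 2, 3], [1, 2, 0, 1, 2, 3], [3, 2, 0, 1, 2, 3], [2, 1, 2, 0, 1, 2, 3], [3, 1, 2, 0, 1, 2, 3], [3, 2, 1, 2, 0, 1, 2, 3], [2, 3, 1, 2, 0, 1, 2, 3], [2, 3, 2, 1, 2, 0, 1, 2, 3], [1, 2, 3, 1, 2, 0, 1, 2, 3], [1, 2, 3, 2, 1, 2, 0, 1, 2, 3], [0, 1, 2, 3, 1, 2, 0, 1, 2, 3], [0, 1, 2, 3, 2, 1, 2, 0, 1, 2, 3], [2, 1, 2, 3, 2, 1, 2, 0, 1, 2, 3], [2, 0, 1, 2, 3, 2, 1, 2, 0, 1, 2, 3], [1, 2, 0, 1, 2, 3, 2, 1, 2, 0, 1, 2, 3], [2, 1, 2, 0, 1, 2, 3, 2, 1, 2, 0, 1, 2, 3], [3, 2, 1, 2, 0, 1, 2, 3, 2, 1, 2, 0, 1, 2, 3]]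

def levF4_3_deds : List (ℕ × ℕ × ℕ) :=
  [(0, 0, 1), (0, 1, 1), (0, 2, 1), (0, 3, 0), (1, 2, 0), (2, 1, 0), (3, 0, 0), (3, 2, 0), (4, 2, 0), (5, 3, 0), (6, 1, 0), (6, 3, 0), (8, 2, 0), (8, 3, 0), (10, 3, 0), (11, 2, 0), (12, 2, 0), (13, 1, 0), (14, 1, 0), (15, 0, 0), (16, 0, 0), (16, 2, 0), (18, 2, 0), (20, 1, 0), (21, 2, 0), (22, 3, 0), (1, 0, 4), (1, 1, 7), (2, 0, 3), (2, 3, 13), (3, 3, 12), (4, 1, 5), (4, 3, 11), (5, 0, 3), (5, 1, 6), (7, 0, 4), (7, 1, 7), (7, 2, 10), (8, 0, 2), (9, 1, 7), (9, 2, 8), (10, 0, 3), (10, 1, 6), (11, 0, 2), (12, 0, 4), (12, 1, 7), (13, 0, 3), (13, 3, 13), (14, 0, 3), (15, 2, 9), (15, 3, 12), (17, 1, 5), (17, 2, 8), (17, 3, 11), (18, 1, 5), (19, 0, 3), (19, 1, 6), (19, 3, 13), (20, 3, 11), (21, 0, 2), (21, 3, 12), (22, 0, 3), (22, 1, 6), (23, 0, 4), (23, 1, 7), (23, 2, 10)]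

def levF4_3_pts : List (List ℤ) :=
  [[0, 0, 0, 1], [0, 0, 1, -1], [0, 2, -1, 0], [2, -2, 1, 0], [-2, 0, 1, 0], [2, 0, -1, 1], [-2, 2, -1, 1], [2, 0, 0, -1], [0, -2, 1, 1], [-2, 2, 0, -1], [0, 0, -1, 2], [0, -2, 2, -1], [0, 0, 1, -2], [0, 2, -2, 1], [0, 2, -1, -1], [2, -2, 0, 1], [2, -2, 1, -1], [-2, 0, 0, 1], [-2, 0, 1, -1], [2, 0, -1, 0], [-2, 2, -1, 0], [0, -2, 1, 0], [0, 0, -1, 1], [0, 0, 0, -1]]

/-- Level 3 of the chain for F4. -/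
def levelF4_3 : Level where
  node := 3
  T := levF4_3_T
  reps := levF4_3_reps
  deds := levF4_3_deds
  pts := levF4_3_pts

/-- The certificate for type F4. -/
def certF4 : Cert 4 where
  A := [[2, -1, 0, 0], [-1, 2, -2, 0], [0, -1, 2, -1], [0, 0, -1, 2]]
  levels := [levelF4_0, levelF4_1, levelF4_2, levelF4_3]

theorem certF4_good : certF4.Good CoxeterMatrix.F₄ where
  rels := by decide +kernel
  chain := by decide +kernel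

end CfsgLib.Weyl
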