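import Cfsg.Agent.Weyl.Roots
import Cfsg.Agent.Weyl.DataF4
import Cfsg.Prelude.Def_ChevF4

/-! The action of W(F4) on the roots of `chevF4` (generated table, checked by the kernel). -/

namespace CfsgLib.Weyl

set_option maxHeartbeats 2000000

/-- The packed reflection table. -/
def reflTableF4 : RootTable where
  perms := [0x2f2e2d28201f1e2c2726251d1c1b0e2b2a292423221a19181716150d0c0b060504211413120a09080311100f07020100, 0x2f2e2b2c2d2a292728242326252122201a191d1c141f1e181711101b131216150f0d0e0a090c0b070806050203040100, 0x2f2d2e2c2a2b2928262725242223211f201e1d1b1c18161a151917131412110f100e0c0d0b0a08090706040503010200, 0x2e2f2d2c2b292a2827252623242221201e1f1c1d1b191a1718151614121310110f0e0d0b0c090a080705060403020001]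
  mask := 0xffffff000000

theorem rootF4_good :
    RootGood (D := Cfsg.Lie.chevF4) certF4 CoxeterMatrix.F₄ reflTableF4 where
  good := certF4_good
  roots := by decide +kernel
  pairs := by decide +kernel
  simples := by decide +kernel
  braid := by decide +kernel
  levels := by decide +kernel

end CfsgLib.Weyl
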