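import Cfsg.Agent.Weyl.Poincare
import Cfsg.Agent.Weyl.RootB2
import Cfsg.Agent.Weyl.RootG2
import Cfsg.Agent.Weyl.RootD4
import Cfsg.Agent.Weyl.RootF4
import Cfsg.Agent.Weyl.RootE6
import Cfsg.Agent.Weyl.RootE7
import Cfsg.Agent.Weyl.RootE8

/-! Poincaré polynomials of the exceptional Weyl groups as products over the degrees. -/

namespace CfsgLib.Weyl

theorem poincareB2 {S : Type*} [CommSemiring S] [hF : Fintype (CoxeterMatrix.B 2).Group] (q : S) :
    ∑ w : (CoxeterMatrix.B 2).Group, q ^ (CoxeterMatrix.B 2).toCoxeterSystem.length w =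
      (([2, 4] : List ℕ).map fun d => ∑ i ∈ Finset.range d, q ^ i).prod :=
  @RootGood.sum_pow_length_degrees S _ _ _ _ _ rootB2_good hF q _ (by decide +kernel)

theorem poincareG2 {S : Type*} [CommSemiring S] [hF : Fintype CoxeterMatrix.G₂.Group] (q : S) :
    ∑ w : CoxeterMatrix.G₂.Group, q ^ CoxeterMatrix.G₂.toCoxeterSystem.length w =
      (([2, 6] : List ℕ).map fun d => ∑ i ∈ Finset.range d, q ^ i).prod :=
  @RootGood.sum_pow_length_degrees S _ _ _ _ _ rootG2_good hF q _ (by decide +kernel)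

theorem poincareD4 {S : Type*} [CommSemiring S] [hF : Fintype Cfsg.Lie.coxeterD4.Group] (q : S) :
    ∑ w : Cfsg.Lie.coxeterD4.Group, q ^ Cfsg.Lie.coxeterD4.toCoxeterSystem.length w =
      (([2, 4, 4, 6] : List ℕ).map fun d => ∑ i ∈ Finset.range d, q ^ i).prod :=
  @RootGood.sum_pow_length_degrees S _ _ _ _ _ rootD4_good hF q _ (by decide +kernel)

theorem poincareF4 {S : Type*} [CommSemiring S] [hF : Fintype CoxeterMatrix.F₄.Group] (q : S) :
    ∑ w : CoxeterMatrix.F₄.Group, q ^ CoxeterMatrix.F₄.toCoxeterSystem.length w =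
      (([2, 6, 8, 12] : List ℕ).map fun d => ∑ i ∈ Finset.range d, q ^ i).prod :=
  @RootGood.sum_pow_length_degrees S _ _ _ _ _ rootF4_good hF q _ (by decide +kernel)

theorem poincareE6 {S : Type*} [CommSemiring S] [hF : Fintype CoxeterMatrix.E₆.Group] (q : S) :
    ∑ w : CoxeterMatrix.E₆.Group, q ^ CoxeterMatrix.E₆.toCoxeterSystem.length w =
      (([2, 5, 6, 8, 9, 12] : List ℕ).map fun d => ∑ i ∈ Finset.range d, q ^ i).prod :=
  @RootGood.sum_pow_length_degrees S _ _ _ _ _ rootE6_good hF q _ (by decide +kernel)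

theorem poincareE7 {S : Type*} [CommSemiring S] [hF : Fintype CoxeterMatrix.E₇.Group] (q : S) :
    ∑ w : CoxeterMatrix.E₇.Group, q ^ CoxeterMatrix.E₇.toCoxeterSystem.length w =
      (([2, 6, 8, 10, 12, 14, 18] : List ℕ).map fun d => ∑ i ∈ Finset.range d, q ^ i).prod :=
  @RootGood.sum_pow_length_degrees S _ _ _ _ _ rootE7_good hF q _ (by decide +kernel)

theorem poincareE8 {S : Type*} [CommSemiring S] [hF : Fintype CoxeterMatrix.E₈.Group] (q : S) :
    ∑ w : CoxeterMatrix.E₈.Group, q ^ CoxeterMatrix.E₈.toCoxeterSystem.length w =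
      (([2, 8, 12, 14, 18, 20, 24, 30] : List ℕ).map fun d => ∑ i ∈ Finset.range d, q ^ i).prod :=
  @RootGood.sum_pow_length_degrees S _ _ _ _ _ rootE8_good hF q _ (by decide +kernel)

end CfsgLib.Weyl
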