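import Cfsg.Agent.Weyl.Cert
import Cfsg.Prelude.Def_ChevStructure
import Mathlib.GroupTheory.Coxeter.Length
import Mathlib.Algebra.BigOperators.Fin

/-!
# The action of a finite Weyl group on the roots of a `ChevalleyDatum`

From a certificate `Cert` (weight lattice) and a table `R` of the simple reflections on the roots,
`RootGood` is a decidable condition giving: the permutation action of the presented Coxeter group
on the root indices (`rootPerm`), its faithfulness, and `length = number of inversions`.
-/

namespace CfsgLib.Weyl

open Cfsg.Lie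

variable {D : ChevalleyDatum}

/-- The coefficient of a root on a fundamental coroot. -/
def corootAt (D : ChevalleyDatum) (r k : ℕ) : ℤ := (D.coroot.getD r #[]).getD k 0

/-- The height of a coroot. -/
def corootHt (D : ChevalleyDatum) (r : ℕ) : ℤ := ∑ k : Fin D.rank, corootAt D r k

/-- A packed table of the simple reflections on the roots: `perms[i]` holds the image of `r` in
bits `8r … 8r+7`, and bit `r` of `mask` says whether `r` is positive. -/
structure RootTable where
  perms : List ℕ
  mask : ℕ

/-- Apply a simple reflection to a root index. -/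
def rstep (R : RootTable) (i r : ℕ) : ℕ := (R.perms.getD i 0 >>> (8 * r)) % 256

/-- Apply a word (rightmost letter first) to a root index. -/
def rwalk (R : RootTable) : List ℕ → ℕ → ℕ
  | [], r => r
  | a :: w, r => rstep R a (rwalk R w r)

/-- A root index is positive. -/
def PosIdx {D : ChevalleyDatum} (r : Fin D.nroots) : Prop := 0 < corootHt D r

instance decPosIdx {D : ChevalleyDatum} (r : Fin D.nroots) : Decidable (PosIdx r) :=
  inferInstanceAs (Decidable (_ < _))

/-- The pairing between a weight and the coroot of a root. -/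
def rootPair {D : ChevalleyDatum} (v : Fin D.rank → ℤ) (r : Fin D.nroots) : ℤ :=
  ∑ k, v k * corootAt D r k

/-- Facts about a single root. -/
def rootOk (D : ChevalleyDatum) (R : RootTable) (r : ℕ) : Bool :=
  decide (D.neg r < D.nroots) && decide (D.neg (D.neg r) = r) &&
  decide (D.IsPosRoot r ↔ 0 < corootHt D r) && decide (corootHt D (D.neg r) = -corootHt D r) &&
  decide (corootHt D r ≠ 0) && decide (R.mask.testBit r = decide (0 < corootHt D r)) &&
  (List.finRange D.rank).all (fun k => decide (0 < corootHt D r → 0 ≤ corootAt D r k) &&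
    decide (corootAt D (D.neg r) k = -corootAt D r k)) &&
  (List.range D.rank).all fun i =>
    decide (rstep R i r = D.reflectRoot i r) && decide (rstep R i r < D.nroots) &&
    decide (rstep R i (rstep R i r) = r) && decide (rstep R i (D.neg r) = D.neg (rstep R i r)) &&
    (decide (r = D.simple i) || !R.mask.testBit r || R.mask.testBit (rstep R i r))

/-- Invariance of the pairing between weights and coroots. -/
def pairOk (C : Cert D.rank) (R : RootTable) (r : ℕ) : Bool :=
  (List.finRange D.rank).all fun i => (List.finRange D.rank).all fun k =>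
    decide (corootAt D (rstep R i r) k -
      (if k = i then ((List.finRange D.rank).map fun l : Fin D.rank =>
        C.a l i * corootAt D (rstep R i r) l).sum else 0) = corootAt D r k)

/-- Facts about a simple root. -/
def simpleOk (C : Cert D.rank) (R : RootTable) (i : Fin D.rank) : Bool :=
  decide (D.simple i < D.nroots) && decide (rstep R i (D.simple i) = D.neg (D.simple i)) &&
  (List.finRange D.rank).all fun k =>
    decide (corootAt D (D.simple i) k = if k = i then 1 else 0) &&
      decide (C.a k i = D.cartan k (D.simple i))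

/-- The braid relations hold on the roots. -/
def braidOk (D : ChevalleyDatum) (M : CoxeterMatrix (Fin D.rank)) (R : RootTable) : Bool :=
  (List.finRange D.rank).all fun i => (List.finRange D.rank).all fun j =>
    (List.range D.nroots).all fun r => decide ((fun x => rstep R i (rstep R j x))^[M i j] r = r)

/-- Every representative word is built along the orbit with increasing length, every row but the
first has a negative coordinate, and representatives keep the roots of the smaller system
positive. -/
def levelRootOk (D : ChevalleyDatum) (R : RootTable) (base : List ℕ) (L : Level) : Bool :=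
  (List.range L.T.length).all fun i =>
    (match L.reps.getD i [] with
      | [] => decide (i = 0)
      | j :: w => decide (j < D.rank) && decide (w = L.reps.getD (step L.T j i) []) &&
          decide (step L.T j i < L.T.length) &&
          decide (0 < (L.pts.getD (step L.T j i) []).getD j 0) &&
          (List.range D.rank).any (fun k => decide ((L.pts.getD i []).getD k 0 < 0))) &&
    base.all fun j => R.mask.testBit (rwalk R (L.reps.getD i []) (D.simple j))

/-- The root checks along a chain. -/
def chainRootOk (D : ChevalleyDatum) (R : RootTable) : List ℕ → List Level → Bool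
  | _, [] => true
  | base, L :: Ls => levelRootOk D R base L && chainRootOk D R (base ++ [L.node]) Ls

/-- A certificate together with a reflection table is good for a datum. -/
structure RootGood (C : Cert D.rank) (M : CoxeterMatrix (Fin D.rank)) (R : RootTable) :
    Prop where
  good : C.Good M
  roots : (List.range D.nroots).all (rootOk D R) = true
  pairs : (List.range D.nroots).all (pairOk C R) = true
  simples : (List.finRange D.rank).all (simpleOk C R) = true
  braid : braidOk D M R = true
  levels : chainRootOk D R [] C.levels = true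

namespace RootGood

variable {C : Cert D.rank} {M : CoxeterMatrix (Fin D.rank)} {R : RootTable}
  (h : RootGood C M R)
include h

theorem mask_iff {r : ℕ} (hr : r < D.nroots) :
    R.mask.testBit r = true ↔ 0 < corootHt D r := by
  have := List.all_eq_true.mp h.roots r (List.mem_range.mpr hr)
  simp only [rootOk, Bool.and_eq_true, decide_eq_true_eq] at this
  rw [this.1.1.2, decide_eq_true_eq]

theorem root_facts {r : ℕ} (hr : r < D.nroots) :
    D.neg r < D.nroots ∧ D.neg (D.neg r) = r ∧ (D.IsPosRoot r ↔ 0 < corootHt D r) ∧
    corootHt D (D.neg r) = -corootHt D r ∧ corootHt D r ≠ 0 ∧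
    (∀ k : Fin D.rank, 0 < corootHt D r → 0 ≤ corootAt D r k) ∧
    ∀ i < D.rank, rstep R i r = D.reflectRoot i r ∧ rstep R i r < D.nroots ∧
      rstep R i (rstep R i r) = r ∧ rstep R i (D.neg r) = D.neg (rstep R i r) ∧
      (r = D.simple i ∨ (0 < corootHt D r → 0 < corootHt D (rstep R i r))) := by
  have := List.all_eq_true.mp h.roots r (List.mem_range.mpr hr)
  simp only [rootOk, Bool.and_eq_true, Bool.or_eq_true, Bool.not_eq_true', decide_eq_true_eq,
    List.all_eq_true, List.mem_finRange, forall_const, List.mem_range, and_assoc] at this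
  obtain ⟨h1, h2, h3, h4, h5, -, h6, h7⟩ := this
  refine ⟨h1, h2, h3, h4, h5, fun k => (h6 k).1, fun i hi => ?_⟩
  obtain ⟨g1, g2, g3, g4, g5⟩ := h7 i hi
  refine ⟨g1, g2, g3, g4, ?_⟩
  rw [← h.mask_iff hr, ← h.mask_iff g2]
  rcases g5 with (g | g) | g
  · exact Or.inl g
  · exact Or.inr fun hp => absurd hp (by simp [g])
  · exact Or.inr fun _ => g

theorem simple_facts (i : Fin D.rank) :
    D.simple i < D.nroots ∧ rstep R i (D.simple i) = D.neg (D.simple i) ∧
    (∀ k : Fin D.rank, corootAt D (D.simple i) k = if k = i then 1 else 0) ∧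
    ∀ k : Fin D.rank, C.a k i = D.cartan k (D.simple i) := by
  have := List.all_eq_true.mp h.simples i (List.mem_finRange i)
  simp only [simpleOk, Bool.and_eq_true, decide_eq_true_eq, List.all_eq_true, List.mem_finRange,
    forall_const] at this
  exact ⟨this.1.1, this.1.2, fun k => (this.2 k).1, fun k => (this.2 k).2⟩

/-- A simple reflection on the root indices. -/
def rootFun (i : Fin D.rank) (r : Fin D.nroots) : Fin D.nroots :=
  ⟨rstep R i r, ((h.root_facts r.2).2.2.2.2.2.2 i i.2).2.1⟩

theorem rootFun_invol (i : Fin D.rank) : Function.Involutive (h.rootFun i) := fun r =>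
  Fin.ext ((h.root_facts r.2).2.2.2.2.2.2 i i.2).2.2.1

theorem liftable_roots :
    M.IsLiftable fun i => (h.rootFun_invol i).toPerm (h.rootFun i) := by
  intro i j
  refine Equiv.ext fun r => Fin.ext ?_
  have hb : (fun x => rstep R i (rstep R j x))^[M i j] (r : ℕ) = r := by
    have := h.braid
    simp only [braidOk, List.all_eq_true, List.mem_finRange, forall_const, List.mem_range,
      decide_eq_true_eq] at this
    exact this i j r r.2
  rw [Equiv.Perm.coe_pow, Equiv.Perm.one_apply]
  conv_rhs => rw [← hb]
  exact Function.Semiconj.iterate_right (f := fun x : Fin D.nroots => (x : ℕ))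
    (fun x => rfl) _ r

/-- The action of the Coxeter group on the root indices. -/
def rootPerm : M.Group →* Equiv.Perm (Fin D.nroots) :=
  M.toCoxeterSystem.lift ⟨_, h.liftable_roots⟩

theorem rootPerm_simple_apply (i : Fin D.rank) (r : Fin D.nroots) :
    (h.rootPerm (M.simple i) r : ℕ) = D.reflectRoot i r := by
  rw [rootPerm, ← CoxeterMatrix.toCoxeterSystem_simple,
    M.toCoxeterSystem.lift_apply_simple h.liftable_roots i]
  exact ((h.root_facts r.2).2.2.2.2.2.2 i i.2).1

theorem rootPerm_simple_step (i : Fin D.rank) (r : Fin D.nroots) :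
    (h.rootPerm (M.simple i) r : ℕ) = rstep R i r := by
  rw [h.rootPerm_simple_apply]; exact (((h.root_facts r.2).2.2.2.2.2.2 i i.2).1).symm

theorem pos_iff (r : Fin D.nroots) : PosIdx r ↔ D.IsPosRoot r := ((h.root_facts r.2).2.2.1).symm

/-- The negative of a root. -/
def negRoot (r : Fin D.nroots) : Fin D.nroots := ⟨D.neg r, (h.root_facts r.2).1⟩

theorem negRoot_negRoot (r : Fin D.nroots) : h.negRoot (h.negRoot r) = r :=
  Fin.ext (h.root_facts r.2).2.1

theorem pos_negRoot (r : Fin D.nroots) : PosIdx (h.negRoot r) ↔ ¬ PosIdx r := by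
  have h1 := (h.root_facts r.2).2.2.2.1
  have h2 := (h.root_facts r.2).2.2.2.2.1
  simp only [PosIdx, negRoot]
  omega

/-- A fundamental root. -/
def simpleRoot (i : Fin D.rank) : Fin D.nroots := ⟨D.simple i, (h.simple_facts i).1⟩

theorem pos_simpleRoot (i : Fin D.rank) : PosIdx (h.simpleRoot i) := by
  simp only [PosIdx, simpleRoot, corootHt, (h.simple_facts i).2.2.1]
  simp

theorem rootPerm_neg (w : M.Group) (r : Fin D.nroots) :
    h.rootPerm w (h.negRoot r) = h.negRoot (h.rootPerm w r) := by
  induction w using M.toCoxeterSystem.simple_induction_left generalizing r with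
  | one => simp
  | mul_simple_left w i ih => ?_
  simp only [map_mul, Equiv.Perm.mul_apply, ih, CoxeterMatrix.toCoxeterSystem_simple]
  apply Fin.ext
  rw [h.rootPerm_simple_step]
  show _ = D.neg _
  rw [h.rootPerm_simple_step]
  exact ((h.root_facts (h.rootPerm w r).2).2.2.2.2.2.2 i i.2).2.2.2.1

theorem pair_simple (v : Fin D.rank → ℤ) (i : Fin D.rank) :
    rootPair v (h.simpleRoot i) = v i := by
  simp only [rootPair, simpleRoot, (h.simple_facts i).2.2.1]
  simp

omit h in
theorem pair_simple_coroot (r : Fin D.nroots) (k : Fin D.rank) :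
    rootPair (Pi.single k 1) r = corootAt D r k := by
  simp [rootPair, Pi.single_apply]

theorem pair_neg (v : Fin D.rank → ℤ) (r : Fin D.nroots) :
    rootPair v (h.negRoot r) = -rootPair v r := by
  simp only [rootPair, negRoot, ← Finset.sum_neg_distrib]
  refine Finset.sum_congr rfl fun k _ => ?_
  have := List.all_eq_true.mp h.roots r (List.mem_range.mpr r.2)
  simp only [rootOk, Bool.and_eq_true, decide_eq_true_eq, List.all_eq_true, List.mem_finRange,
    forall_const] at this
  rw [(this.1.2 k).2, mul_neg]

omit h in
theorem pair_one (r : Fin D.nroots) : rootPair 1 r = corootHt D r := by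
  simp [rootPair, corootHt]

theorem pair_rep (w : M.Group) (v : Fin D.rank → ℤ) (r : Fin D.nroots) :
    rootPair (h.good.rep w v) (h.rootPerm w r) = rootPair v r := by
  induction w using M.toCoxeterSystem.simple_induction_left generalizing v r with
  | one => simp
  | mul_simple_left w i ih => ?_
  simp only [map_mul, Module.End.mul_apply, Equiv.Perm.mul_apply,
    CoxeterMatrix.toCoxeterSystem_simple, h.good.rep_simple]
  rw [← ih v r]
  generalize h.good.rep w v = u
  generalize h.rootPerm w r = x
  simp only [rootPair, h.rootPerm_simple_step]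
  have hx := List.all_eq_true.mp h.pairs x (List.mem_range.mpr x.2)
  simp only [pairOk, List.all_eq_true, List.mem_finRange, forall_const, decide_eq_true_eq] at hx
  conv_lhs => rw [pi_eq_sum_univ' u]
  simp only [map_sum, map_smul, Finset.sum_apply, Pi.smul_apply, smul_eq_mul, Finset.sum_mul]
  rw [Finset.sum_comm]
  refine Finset.sum_congr rfl fun k _ => ?_
  have hval : ∀ l : Fin D.rank, C.refl i (Pi.single k 1) l =
      (Pi.single k 1 : Fin D.rank → ℤ) l - (Pi.single k 1 : Fin D.rank → ℤ) i * C.a l i := by
    intro l
    show C.reflFun i _ l = _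
    simp only [Cert.reflFun]
    split
    · next h0 => simp [h0]
    · rfl
  rw [← hx i k, mul_sub, ← Fin.sum_univ_def, mul_ite, mul_zero]
  simp only [hval, mul_assoc, sub_mul, mul_sub, Finset.sum_sub_distrib]
  congr 1
  · simp [Pi.single_apply]
  · split
    · next hki => subst hki; simp [Finset.mul_sum]
    · next hki => simp [Ne.symm hki]

theorem pair_symm (w : M.Group) (v : Fin D.rank → ℤ) (r : Fin D.nroots) :
    rootPair v (h.rootPerm w r) = rootPair (h.good.rep w⁻¹ v) r := by
  conv_lhs => rw [show v = h.good.rep w (h.good.rep w⁻¹ v) by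
    rw [← Module.End.mul_apply, ← map_mul, mul_inv_cancel, map_one, Module.End.one_apply]]
  rw [h.pair_rep]

/-- The Coxeter group acts faithfully on the roots. -/
theorem rootPerm_injective : Function.Injective h.rootPerm := by
  rw [injective_iff_map_eq_one]
  intro w hw
  apply h.good.rep_injective
  rw [map_one]
  refine LinearMap.ext fun v => funext fun i => ?_
  rw [← h.pair_simple (h.good.rep w v) i, Module.End.one_apply, ← h.pair_simple v i]
  conv_rhs => rw [← h.pair_rep w v (h.simpleRoot i), hw, Equiv.Perm.one_apply]

/-- The positive roots made negative by `w`. -/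
def invSet (w : M.Group) : Finset (Fin D.nroots) :=
  Finset.univ.filter fun r => PosIdx r ∧ ¬ PosIdx (h.rootPerm w r)

theorem mem_invSet {w : M.Group} {r : Fin D.nroots} :
    r ∈ h.invSet w ↔ PosIdx r ∧ ¬ PosIdx (h.rootPerm w r) := by simp [invSet]

theorem pos_simple_apply {i : Fin D.rank} {r : Fin D.nroots} (hr : r ≠ h.simpleRoot i)
    (hp : PosIdx r) : PosIdx (h.rootPerm (M.simple i) r) := by
  show 0 < corootHt D _
  rw [h.rootPerm_simple_step]
  exact (((h.root_facts r.2).2.2.2.2.2.2 i i.2).2.2.2.2.resolve_left
    fun he => hr (Fin.ext he)) hp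

theorem rootPerm_simple_simpleRoot (i : Fin D.rank) :
    h.rootPerm (M.simple i) (h.simpleRoot i) = h.negRoot (h.simpleRoot i) := by
  apply Fin.ext
  rw [h.rootPerm_simple_step]
  exact (h.simple_facts i).2.1

theorem simple_apply_apply (i : Fin D.rank) (r : Fin D.nroots) :
    h.rootPerm (M.simple i) (h.rootPerm (M.simple i) r) = r := by
  rw [← Equiv.Perm.mul_apply, ← map_mul, ← CoxeterMatrix.toCoxeterSystem_simple,
    M.toCoxeterSystem.simple_mul_simple_self, map_one, Equiv.Perm.one_apply]

theorem simpleRoot_mem_iff (w : M.Group) (i : Fin D.rank) :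
    h.simpleRoot i ∈ h.invSet (w * M.simple i) ↔ PosIdx (h.rootPerm w (h.simpleRoot i)) := by
  simp [mem_invSet, pos_simpleRoot, rootPerm_simple_simpleRoot, rootPerm_neg, pos_negRoot]

theorem erase_card (w : M.Group) (i : Fin D.rank) :
    ((h.invSet (w * M.simple i)).erase (h.simpleRoot i)).card =
      ((h.invSet w).erase (h.simpleRoot i)).card := by
  refine Finset.card_bij' (fun r _ => h.rootPerm (M.simple i) r)
    (fun r _ => h.rootPerm (M.simple i) r) ?_ ?_ (fun r _ => h.simple_apply_apply i r)
    (fun r _ => h.simple_apply_apply i r)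
  all_goals
    intro r hr
    simp only [Finset.mem_erase, mem_invSet, map_mul, Equiv.Perm.mul_apply] at hr ⊢
    obtain ⟨hne, hp, hn⟩ := hr
    refine ⟨fun he => ?_, h.pos_simple_apply hne hp, ?_⟩
    · have he' := congrArg (h.rootPerm (M.simple i)) he
      rw [h.simple_apply_apply, h.rootPerm_simple_simpleRoot] at he'
      rw [he'] at hp
      exact (h.pos_negRoot _).mp hp (h.pos_simpleRoot i)
    · first | exact hn | rwa [h.simple_apply_apply]

theorem card_inv_mul_simple (w : M.Group) (i : Fin D.rank) :
    (PosIdx (h.rootPerm w (h.simpleRoot i)) →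
      (h.invSet (w * M.simple i)).card = (h.invSet w).card + 1) ∧
    (¬ PosIdx (h.rootPerm w (h.simpleRoot i)) →
      (h.invSet (w * M.simple i)).card + 1 = (h.invSet w).card) := by
  have he := h.erase_card w i
  constructor
  · intro hp
    have h1 : h.simpleRoot i ∈ h.invSet (w * M.simple i) := (h.simpleRoot_mem_iff w i).mpr hp
    have h2 : h.simpleRoot i ∉ h.invSet w := fun hm => (h.mem_invSet.mp hm).2 hp
    rw [Finset.erase_eq_of_notMem h2] at he
    rw [← he, Finset.card_erase_add_one h1]
  · intro hp
    have h1 : h.simpleRoot i ∉ h.invSet (w * M.simple i) :=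
      fun hm => hp ((h.simpleRoot_mem_iff w i).mp hm)
    have h2 : h.simpleRoot i ∈ h.invSet w := h.mem_invSet.mpr ⟨h.pos_simpleRoot i, hp⟩
    rw [Finset.erase_eq_of_notMem h1] at he
    rw [he, Finset.card_erase_add_one h2]

omit h in
theorem exists_coeff_pos {r : Fin D.nroots} (hr : PosIdx r) :
    ∃ k : Fin D.rank, 0 < corootAt D r k := by
  by_contra hc
  simp only [not_exists, not_lt] at hc
  exact absurd hr (not_lt.mpr (Finset.sum_nonpos fun k _ => hc k))

theorem pos_of_pos_on_simples {w : M.Group} {r : Fin D.nroots} (hr : PosIdx r)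
    (hw : ∀ k : Fin D.rank, corootAt D r k ≠ 0 → PosIdx (h.rootPerm w (h.simpleRoot k))) :
    PosIdx (h.rootPerm w r) := by
  show 0 < corootHt D _
  rw [← pair_one, h.pair_symm]
  have hv : ∀ k : Fin D.rank, corootAt D r k ≠ 0 → 0 < h.good.rep w⁻¹ 1 k := by
    intro k hk
    rw [← h.pair_simple (h.good.rep w⁻¹ 1) k, ← h.pair_symm, pair_one]
    exact hw k hk
  obtain ⟨k, hk⟩ := exists_coeff_pos hr
  refine Finset.sum_pos' (fun l _ => ?_) ⟨k, Finset.mem_univ k, mul_pos (hv k hk.ne') hk⟩
  rcases eq_or_ne (corootAt D r l) 0 with he | he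
  · simp [he]
  · exact (mul_nonneg (hv l he).le ((h.root_facts r.2).2.2.2.2.2.1 l hr))

theorem invSet_eq_empty {w : M.Group}
    (hw : ∀ i : Fin D.rank, PosIdx (h.rootPerm w (h.simpleRoot i))) : h.invSet w = ∅ := by
  ext r
  simp only [mem_invSet, Finset.notMem_empty, iff_false, not_and, not_not]
  exact fun hr => h.pos_of_pos_on_simples hr fun k _ => hw k

theorem mem_base_of_inv_empty {base : List ℕ} {L : Level} (hL : L.ok C M base = true)
    (hR : levelRootOk D R base L = true) (hb : ∀ j ∈ base, j < D.rank) {g : M.Group}
    (hg : g ∈ genSub (simpleNat M) (base ++ [L.node])) (he : h.invSet g = ∅) :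
    g ∈ genSub (simpleNat M) base := by
  obtain ⟨hT, hnode, hinj, hw, -⟩ := Cert.Good.level_facts hL
  have h0 : toVec D.rank (L.pts.getD 0 []) = Pi.single ⟨L.node, hnode⟩ 1 := by
    funext k; rw [hw k, Pi.single_apply]; simp [Fin.ext_iff]
  obtain ⟨i, hi, hgi⟩ := exists_row (simpleNat_mul_self M) (wordProd_relWords M) hT hg
  have hfixd := base_fix h.good.repFun (fun r => toVec D.rank (L.pts.getD r []))
    (h.good.level_hfix hL hb) (QuotientGroup.eq.mp hgi.symm)
  have happ := congrArg (h.good.repFun (wordProd (simpleNat M) (L.reps.getD i []))) hfixd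
  change (h.good.repFun _ * h.good.repFun _) _ = _ at happ
  rw [← map_mul, mul_inv_cancel_left, rep_apply hT h.good.repFun
    (fun r => toVec D.rank (L.pts.getD r [])) (h.good.level_hP hL hb) hi] at happ
  change h.good.rep g (toVec D.rank (L.pts.getD 0 [])) = toVec D.rank (L.pts.getD i []) at happ
  suffices hi0 : i = 0 by
    rw [hi0, h0] at happ
    exact h.good.level_stab hL hb hnode hg happ
  by_contra hi0
  have hrow := List.all_eq_true.mp hR i (List.mem_range.mpr hi)
  rw [Bool.and_eq_true] at hrow
  replace hrow := hrow.1
  rcases hrep : L.reps.getD i [] with _ | ⟨j, w⟩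
  · rw [hrep] at hrow; simp [hi0] at hrow
  · rw [hrep] at hrow
    simp only [Bool.and_eq_true, List.any_eq_true, decide_eq_true_eq, List.mem_range] at hrow
    obtain ⟨k, hk, hneg⟩ := hrow.2
    change toVec D.rank (L.pts.getD i []) ⟨k, hk⟩ < 0 at hneg
    rw [← happ, ← h.pair_simple (h.good.rep g _) ⟨k, hk⟩] at hneg
    have hpos : PosIdx (h.rootPerm g⁻¹ (h.simpleRoot ⟨k, hk⟩)) := by
      by_contra hn
      have hm : h.negRoot (h.rootPerm g⁻¹ (h.simpleRoot ⟨k, hk⟩)) ∈ h.invSet g := by
        rw [mem_invSet, h.pos_negRoot, h.rootPerm_neg, h.pos_negRoot, ← Equiv.Perm.mul_apply,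
          ← map_mul, mul_inv_cancel, map_one]
        exact ⟨hn, by simp [h.pos_simpleRoot]⟩
      rw [he] at hm
      simp at hm
    rw [h0, show g = g⁻¹⁻¹ by simp, ← h.pair_symm] at hneg
    have := (h.root_facts (h.rootPerm g⁻¹ (h.simpleRoot ⟨k, hk⟩)).2).2.2.2.2.2.1
      ⟨L.node, hnode⟩ hpos
    simp only [rootPair, Pi.single_apply, ite_mul, one_mul, zero_mul, Finset.sum_ite_eq',
      Finset.mem_univ, if_true] at hneg
    exact absurd hneg (not_lt.mpr this)

theorem eq_one_of_inv_empty_aux : ∀ (Ls : List Level) (base : List ℕ),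
    chainOk C M base Ls = true → chainRootOk D R base Ls = true → (∀ j ∈ base, j < D.rank) →
    ∀ g : M.Group, h.invSet g = ∅ → g ∈ genSub (simpleNat M) base := by
  intro Ls
  induction Ls with
  | nil =>
    intro base hc _ _ g _
    simp only [chainOk, List.all_eq_true, List.mem_range, List.contains_iff_mem] at hc
    simp [genSub_all M hc]
  | cons L Ls ih =>
    intro base hc hr hb g hg
    simp only [chainOk, Bool.and_eq_true] at hc
    simp only [chainRootOk, Bool.and_eq_true] at hr
    have hb' : ∀ j ∈ base ++ [L.node], j < D.rank := by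
      intro j hj
      rcases List.mem_append.mp hj with h' | h'
      · exact hb j h'
      · rw [List.mem_singleton.mp h']; exact (Cert.Good.level_facts hc.1).2.1
    exact h.mem_base_of_inv_empty hc.1 hr.1 hb (ih _ hc.2 hr.2 hb' g hg) hg

/-- An element keeping all positive roots positive is trivial. -/
theorem eq_one_of_invSet_empty {g : M.Group} (hg : h.invSet g = ∅) : g = 1 := by
  simpa [genSub] using h.eq_one_of_inv_empty_aux C.levels [] h.good.chain h.levels (by simp) g hg

/-- Length equals the number of positive roots made negative. -/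
theorem length_eq_card_invSet (w : M.Group) :
    M.toCoxeterSystem.length w = (h.invSet w).card := by
  refine le_antisymm ?_ ?_
  · induction hn : (h.invSet w).card using Nat.strong_induction_on generalizing w with
    | _ n ih =>
      by_cases hw : w = 1
      · subst hw; simp
      · obtain ⟨i, hi⟩ : ∃ i, ¬ PosIdx (h.rootPerm w (h.simpleRoot i)) :=
          not_forall.mp fun hall => hw (h.eq_one_of_invSet_empty (h.invSet_eq_empty hall))
        have hc := (h.card_inv_mul_simple w i).2 hi
        have := ih (n - 1) (by omega) (w * M.simple i) (by omega)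
        have hlen := M.toCoxeterSystem.length_mul_simple w i
        rw [CoxeterMatrix.toCoxeterSystem_simple] at hlen
        omega
  · obtain ⟨ω, hω, rfl⟩ := M.toCoxeterSystem.exists_isReduced w
    rw [show M.toCoxeterSystem.length _ = ω.length from hω]
    clear hω
    induction ω using List.reverseRecOn with
    | nil =>
      simp only [CoxeterSystem.wordProd_nil, List.length_nil, nonpos_iff_eq_zero,
        Finset.card_eq_zero]
      exact h.invSet_eq_empty fun i => by simp [h.pos_simpleRoot]
    | append_singleton ω i ih =>
      rw [CoxeterSystem.wordProd_append, CoxeterSystem.wordProd_singleton, List.length_append,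
        List.length_singleton, CoxeterMatrix.toCoxeterSystem_simple]
      by_cases hp : PosIdx (h.rootPerm (M.toCoxeterSystem.wordProd ω) (h.simpleRoot i))
      · rw [(h.card_inv_mul_simple _ i).1 hp]; omega
      · have := (h.card_inv_mul_simple _ i).2 hp; omega

/-- Right descents. -/
theorem length_mul_simple_lt_iff (w : M.Group) (i : Fin D.rank) :
    M.toCoxeterSystem.length (w * M.simple i) < M.toCoxeterSystem.length w ↔
      ¬ PosIdx (h.rootPerm w (h.simpleRoot i)) := by
  rw [h.length_eq_card_invSet, h.length_eq_card_invSet]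
  by_cases hp : PosIdx (h.rootPerm w (h.simpleRoot i))
  · have := (h.card_inv_mul_simple w i).1 hp
    simp [hp, this]
  · have := (h.card_inv_mul_simple w i).2 hp
    simp [hp]; omega

theorem card_group_ne_zero : Nat.card M.Group ≠ 0 := by
  rw [h.good.card_group, ne_eq, List.prod_eq_zero_iff]
  have key : ∀ (Ls : List Level) (base : List ℕ), chainOk C M base Ls = true →
      0 ∉ Ls.map fun L => L.T.length := by
    intro Ls
    induction Ls with
    | nil => simp
    | cons L Ls ih =>
      intro base hc
      simp only [chainOk, Bool.and_eq_true] at hc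
      simp only [List.map_cons, List.mem_cons, not_or]
      refine ⟨?_, ih _ hc.2⟩
      have := (Cert.Good.level_facts hc.1).1
      simp only [checkTable, Bool.and_eq_true, decide_eq_true_eq] at this
      omega
  exact key _ [] h.good.chain

theorem finite_group : Finite M.Group := Nat.finite_of_card_ne_zero h.card_group_ne_zero

/-- There is an element making every positive root negative. -/
theorem exists_longest : ∃ w : M.Group, ∀ r, PosIdx r → ¬ PosIdx (h.rootPerm w r) := by
  have := h.finite_group
  obtain ⟨w, hw⟩ := Finite.exists_max fun w => (h.invSet w).card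
  refine ⟨w, fun r hr hpos => ?_⟩
  have hall : ∀ i, ¬ PosIdx (h.rootPerm w (h.simpleRoot i)) := by
    intro i hi
    have := hw (w * M.simple i)
    simp only [(h.card_inv_mul_simple w i).1 hi] at this
    omega
  have hneg : 0 < corootHt D (h.rootPerm w r) := hpos
  rw [← pair_one, h.pair_symm] at hneg
  refine absurd hneg (not_lt.mpr (Finset.sum_nonpos fun k _ => ?_))
  refine mul_nonpos_of_nonpos_of_nonneg ?_ ((h.root_facts r.2).2.2.2.2.2.1 k hr)
  rw [← h.pair_simple (h.good.rep w⁻¹ 1) k, ← h.pair_symm, pair_one]
  exact not_lt.mp (hall k)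

end RootGood

end CfsgLib.Weyl
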