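import Cfsg.Agent.Weyl.Roots

/-!
# Poincaré polynomials of finite Weyl groups

`∑_w q^(length w)` is computed from the chain: each level contributes the generating function of
the lengths of its representative words.  Polynomials are lists of coefficients.
-/

namespace CfsgLib.Weyl

open Cfsg.Lie

variable {S : Type*} [CommSemiring S]

/-- Evaluate a coefficient list. -/
def evalList (q : S) : List ℕ → S
  | [] => 0
  | a :: l => a + q * evalList q l

/-- Add coefficient lists. -/
def addList : List ℕ → List ℕ → List ℕ
  | [], m => m
  | l, [] => l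
  | a :: l, b :: m => (a + b) :: addList l m

/-- Multiply coefficient lists. -/
def mulList : List ℕ → List ℕ → List ℕ
  | [], _ => []
  | a :: l, m => addList (m.map (a * ·)) (0 :: mulList l m)

theorem evalList_addList (q : S) : ∀ l m : List ℕ,
    evalList q (addList l m) = evalList q l + evalList q m
  | [], m => by simp [addList, evalList]
  | a :: l, [] => by simp [addList, evalList]
  | a :: l, b :: m => by
    simp only [addList, evalList, evalList_addList q l m]
    push_cast; ring

theorem evalList_map_mul (q : S) (a : ℕ) : ∀ m : List ℕ,
    evalList q (m.map (a * ·)) = a * evalList q m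
  | [] => by simp [evalList]
  | b :: m => by
    simp only [List.map_cons, evalList, evalList_map_mul q a m]
    push_cast; ring

theorem evalList_mulList (q : S) : ∀ l m : List ℕ,
    evalList q (mulList l m) = evalList q l * evalList q m
  | [], m => by simp [mulList, evalList]
  | a :: l, m => by
    simp only [mulList, evalList_addList, evalList_map_mul, evalList, evalList_mulList q l m]
    push_cast; ring

/-- The product of a list of coefficient lists. -/
def prodList : List (List ℕ) → List ℕ
  | [] => [1]
  | l :: ls => mulList l (prodList ls)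

theorem evalList_prodList (q : S) : ∀ ls : List (List ℕ),
    evalList q (prodList ls) = (ls.map (evalList q)).prod
  | [] => by simp [prodList, evalList]
  | l :: ls => by simp [prodList, evalList_mulList, evalList_prodList q ls]

/-- The coefficient list of `∑ q^k` over a list of exponents. -/
def countList : List ℕ → List ℕ
  | [] => []
  | k :: ks => addList (List.replicate k 0 ++ [1]) (countList ks)

theorem evalList_monomial (q : S) : ∀ k : ℕ, evalList q (List.replicate k 0 ++ [1]) = q ^ k
  | 0 => by simp [evalList]
  | k + 1 => by
    simp [List.replicate_succ, evalList, evalList_monomial q k, pow_succ']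

theorem evalList_countList (q : S) : ∀ ks : List ℕ,
    evalList q (countList ks) = (ks.map (q ^ ·)).sum
  | [] => by simp [countList, evalList]
  | k :: ks => by
    simp [countList, evalList_addList, evalList_monomial, evalList_countList q ks]

theorem evalList_replicate_one (q : S) : ∀ d : ℕ,
    evalList q (List.replicate d 1) = ∑ i ∈ Finset.range d, q ^ i
  | 0 => by simp [evalList]
  | d + 1 => by
    simp [List.replicate_succ, evalList, evalList_replicate_one q d, Finset.sum_range_succ',
      Finset.mul_sum, pow_succ', add_comm]

/-- The length generating function of one level. -/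
def levelPoly (L : Level) : List ℕ :=
  countList ((List.range L.T.length).map fun r => (L.reps.getD r []).length)

variable {D : ChevalleyDatum}

namespace RootGood

variable {C : Cert D.rank} {M : CoxeterMatrix (Fin D.rank)} {R : RootTable}
  (h : RootGood C M R)
include h

theorem rootPerm_wordProd (w : List ℕ) (hw : ∀ j ∈ w, j < D.rank) (r : Fin D.nroots) :
    (h.rootPerm (wordProd (simpleNat M) w) r : ℕ) = rwalk R w r := by
  induction w with
  | nil => simp [wordProd, rwalk]
  | cons a w ih =>
    simp only [wordProd, List.map_cons, List.prod_cons, map_mul, Equiv.Perm.mul_apply, rwalk]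
    rw [show simpleNat M a = M.simple ⟨a, hw a List.mem_cons_self⟩ from
      simpleNat_of_lt M ⟨a, _⟩, h.rootPerm_simple_step]
    congr 1
    exact ih fun j hj => hw j (List.mem_cons_of_mem _ hj)

theorem rep_single_of_mem {base : List ℕ} {k : Fin D.rank} (hk : (k : ℕ) ∉ base) {g : M.Group}
    (hg : g ∈ genSub (simpleNat M) base) : h.good.rep g (Pi.single k 1) = Pi.single k 1 := by
  induction hg using Subgroup.closure_induction with
  | mem x hx =>
    obtain ⟨j, hj, rfl⟩ := hx
    unfold simpleNat
    split
    · next hlt =>
      rw [h.good.rep_simple]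
      funext l
      have hz : (Pi.single k 1 : Fin D.rank → ℤ) ⟨j, hlt⟩ = 0 := by
        rw [Pi.single_apply, if_neg]
        intro he
        exact hk (by rw [← he]; exact hj)
      show C.reflFun _ _ l = _
      simp [Cert.reflFun, hz]
    · rw [map_one]; rfl
  | one => rw [map_one]; rfl
  | mul x y _ _ hx hy => rw [map_mul, Module.End.mul_apply, hy, hx]
  | inv x _ hx =>
    conv_lhs => rw [← hx, ← Module.End.mul_apply, ← map_mul, inv_mul_cancel, map_one]
    rfl

theorem length_rep {base : List ℕ} {L : Level} (hL : L.ok C M base = true)
    (hR : levelRootOk D R base L = true) (hb : ∀ j ∈ base, j < D.rank) :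
    ∀ i < L.T.length, M.toCoxeterSystem.length (wordProd (simpleNat M) (L.reps.getD i [])) =
      (L.reps.getD i []).length := by
  obtain ⟨hT, hnode, -, hw, -⟩ := Cert.Good.level_facts hL
  intro i hi
  induction hn : (L.reps.getD i []).length using Nat.strong_induction_on generalizing i with
  | _ n ih =>
    subst hn
    have hrow := List.all_eq_true.mp hR i (List.mem_range.mpr hi)
    rw [Bool.and_eq_true] at hrow
    replace hrow := hrow.1
    rcases hrep : L.reps.getD i [] with _ | ⟨j, w⟩
    · simp [wordProd]
    · rw [hrep] at hrow
      simp only [Bool.and_eq_true, decide_eq_true_eq] at hrow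
      obtain ⟨⟨⟨⟨hj, hw'⟩, hlt⟩, hpos⟩, -⟩ := hrow
      have hlen := ih w.length (by rw [hrep]; simp) (step L.T j i) hlt (by rw [hw'])
      rw [← hw'] at hlen
      set u := wordProd (simpleNat M) w with hu
      have happly : h.good.rep u (toVec D.rank (L.pts.getD 0 [])) =
          toVec D.rank (L.pts.getD (step L.T j i) []) := by
        rw [hu, hw']
        exact rep_apply hT h.good.repFun (fun r => toVec D.rank (L.pts.getD r []))
          (h.good.level_hP hL hb) hlt
      change 0 < toVec D.rank (L.pts.getD (step L.T j i) []) ⟨j, hj⟩ at hpos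
      rw [← happly, ← h.pair_simple (h.good.rep u _) ⟨j, hj⟩, show u = u⁻¹⁻¹ by simp,
        ← h.pair_symm] at hpos
      have hp : PosIdx (h.rootPerm u⁻¹ (h.simpleRoot ⟨j, hj⟩)) := by
        by_contra hn
        set x := h.rootPerm u⁻¹ (h.simpleRoot ⟨j, hj⟩) with hx
        have hxn := (h.pos_negRoot x).mpr hn
        have hc : ∀ k : Fin D.rank, corootAt D x k = -corootAt D (h.negRoot x) k := by
          intro k
          rw [← pair_simple_coroot x k, ← pair_simple_coroot (h.negRoot x) k]
          rw [h.pair_neg, neg_neg]
        rw [rootPair] at hpos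
        refine absurd hpos (not_lt.mpr (Finset.sum_nonpos fun k _ => ?_))
        have h0 : (0 : ℤ) ≤ toVec D.rank (L.pts.getD 0 []) k := by rw [hw k]; split <;> simp
        have := (h.root_facts (h.negRoot x).2).2.2.2.2.2.1 k hxn
        rw [hc k, mul_neg, neg_nonpos]
        exact mul_nonneg h0 this
      have hstep : M.toCoxeterSystem.length (u⁻¹ * M.simple ⟨j, hj⟩) =
          M.toCoxeterSystem.length u⁻¹ + 1 := by
        rw [h.length_eq_card_invSet, h.length_eq_card_invSet]
        exact (h.card_inv_mul_simple _ _).1 hp
      have he : wordProd (simpleNat M) (j :: w) = (u⁻¹ * M.simple ⟨j, hj⟩)⁻¹ := by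
        rw [mul_inv_rev, inv_inv, ← CoxeterMatrix.toCoxeterSystem_simple,
          M.toCoxeterSystem.inv_simple, hu]
        simp [wordProd, simpleNat, hj]
      rw [he, CoxeterSystem.length_inv, hstep, CoxeterSystem.length_inv, hlen, List.length_cons]

theorem length_mul_rep {base : List ℕ} {L : Level} {i : ℕ}
    (hR : levelRootOk D R base L = true)
    (hT : ∀ j ∈ L.reps.getD i [], j < D.rank) (hi : i < L.T.length) {g : M.Group}
    (hg : g ∈ genSub (simpleNat M) base) :
    M.toCoxeterSystem.length (wordProd (simpleNat M) (L.reps.getD i []) * g) =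
      M.toCoxeterSystem.length (wordProd (simpleNat M) (L.reps.getD i [])) +
        M.toCoxeterSystem.length g := by
  set u := wordProd (simpleNat M) (L.reps.getD i []) with hu
  have hrow := List.all_eq_true.mp hR i (List.mem_range.mpr hi)
  rw [Bool.and_eq_true] at hrow
  have hbase : ∀ j ∈ base, ∀ hj : j < D.rank, PosIdx (h.rootPerm u (h.simpleRoot ⟨j, hj⟩)) := by
    intro j hj hj'
    have := List.all_eq_true.mp hrow.2 j hj
    show 0 < corootHt D _
    rw [← h.mask_iff (h.rootPerm u (h.simpleRoot ⟨j, hj'⟩)).2, hu, h.rootPerm_wordProd _ hT]
    exact this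
  have key : ∀ s : Fin D.nroots, PosIdx s → ¬ PosIdx (h.rootPerm g s) →
      PosIdx (h.rootPerm u (h.negRoot (h.rootPerm g s))) := by
    intro s hs hn
    refine h.pos_of_pos_on_simples ((h.pos_negRoot _).mpr hn) fun k hk => ?_
    by_cases hkb : (k : ℕ) ∈ base
    · exact hbase k hkb k.2
    · exfalso
      apply hk
      have h1 : corootAt D (h.rootPerm g s) k = corootAt D s k := by
        rw [← pair_simple_coroot, ← pair_simple_coroot s k, h.pair_symm,
          h.rep_single_of_mem hkb (inv_mem hg)]
      have h2 := (h.root_facts s.2).2.2.2.2.2.1 k hs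
      have h3 := (h.root_facts (h.negRoot (h.rootPerm g s)).2).2.2.2.2.2.1 k
        ((h.pos_negRoot _).mpr hn)
      have h4 : rootPair (Pi.single k 1) (h.negRoot (h.rootPerm g s)) =
          -rootPair (Pi.single k 1) (h.rootPerm g s) := h.pair_neg _ _
      rw [pair_simple_coroot, pair_simple_coroot] at h4
      omega
  simp only [h.length_eq_card_invSet]
  have e : (h.invSet (u * g)).card = (h.invSet g).card + (h.invSet u).card := by
    rw [← Finset.card_image_of_injective (h.invSet u) (h.rootPerm g).symm.injective,
      ← Finset.card_union_of_disjoint]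
    · congr 1
      ext r
      simp only [Finset.mem_union, Finset.mem_image, mem_invSet, map_mul, Equiv.Perm.mul_apply,
        Equiv.symm_apply_eq]
      constructor
      · rintro ⟨hr, hn⟩
        by_cases hp : PosIdx (h.rootPerm g r)
        · exact Or.inr ⟨_, ⟨hp, hn⟩, rfl⟩
        · exact Or.inl ⟨hr, hp⟩
      · rintro (⟨hr, hn⟩ | ⟨x, ⟨hx, hxn⟩, rfl⟩)
        · refine ⟨hr, fun hp => ?_⟩
          have := key r hr hn
          rw [h.rootPerm_neg, h.pos_negRoot] at this
          exact this hp
        · refine ⟨?_, hxn⟩
          by_contra hn
          have hpos := (h.pos_negRoot _).mpr hn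
          have hneg : ¬ PosIdx (h.rootPerm g (h.negRoot r)) := by
            rw [h.rootPerm_neg, h.pos_negRoot]; simpa using hx
          have := key _ hpos hneg
          simp only [h.rootPerm_neg, h.negRoot_negRoot] at this
          exact hxn this
    · rw [Finset.disjoint_left]
      intro r hr hr'
      simp only [Finset.mem_image, mem_invSet, Equiv.symm_apply_eq] at hr hr'
      obtain ⟨x, ⟨hx, -⟩, rfl⟩ := hr'
      exact hr.2 hx
  rw [e, add_comm]

theorem sum_genSub_aux [Fintype M.Group] (q : S) : ∀ (Ls : List Level) (base : List ℕ),
    chainOk C M base Ls = true → chainRootOk D R base Ls = true → (∀ j ∈ base, j < D.rank) →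
    ∀ [DecidablePred (· ∈ genSub (simpleNat M) base)],
    ∑ w : M.Group, q ^ M.toCoxeterSystem.length w =
      (Ls.map fun L => evalList q (levelPoly L)).prod *
        ∑ g ∈ Finset.univ.filter (· ∈ genSub (simpleNat M) base),
          q ^ M.toCoxeterSystem.length g := by
  intro Ls
  induction Ls with
  | nil =>
    intro base hc _ _ _
    simp only [chainOk, List.all_eq_true, List.mem_range, List.contains_iff_mem] at hc
    rw [List.map_nil, List.prod_nil, one_mul, Finset.filter_true_of_mem]
    simp [genSub_all M hc]
  | cons L Ls ih =>
    intro base hc hr hb _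
    classical
    simp only [chainOk, Bool.and_eq_true] at hc
    simp only [chainRootOk, Bool.and_eq_true] at hr
    obtain ⟨hT, hnode, hinj, -⟩ := Cert.Good.level_facts hc.1
    have hb' : ∀ j ∈ base ++ [L.node], j < D.rank := by
      intro j hj
      rcases List.mem_append.mp hj with h' | h'
      · exact hb j h'
      · rw [List.mem_singleton.mp h']; exact hnode
    have hlt : ∀ i < L.T.length, ∀ j ∈ L.reps.getD i [], j < D.rank := by
      intro i hi j hj
      simp only [checkTable, Bool.and_eq_true, List.all_eq_true, List.contains_iff_mem,
        List.mem_range] at hT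
      exact hb' j ((hT.1.2 i hi).1.1 j hj)
    rw [ih _ hc.2 hr.2 hb', List.map_cons, List.prod_cons, mul_comm (evalList q (levelPoly L)),
      mul_assoc]
    congr 1
    rw [levelPoly, evalList_countList, List.map_map,
      show ((List.range L.T.length).map ((q ^ ·) ∘ fun r => (L.reps.getD r []).length)).sum =
        ∑ i : Fin L.T.length, q ^ (L.reps.getD i []).length by
        rw [← List.sum_ofFn, List.ofFn_eq_map, ← List.map_coe_finRange_eq_range, List.map_map]
        rfl,
      Finset.sum_mul_sum, ← Finset.sum_product']
    symm
    refine Finset.sum_bij (fun p _ => wordProd (simpleNat M) (L.reps.getD p.1 []) * p.2)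
      ?_ ?_ ?_ ?_
    · intro p hp
      simp only [Finset.mem_product, Finset.mem_filter, Finset.mem_univ, true_and] at hp ⊢
      exact mul_mem (rep_mem hT p.1.2) (genSub_base_le hT hp)
    · intro p hp p' hp' he
      simp only [Finset.mem_product, Finset.mem_filter, Finset.mem_univ, true_and] at hp hp'
      have h1 := congrArg (fun g => h.good.repFun g (toVec D.rank (L.pts.getD 0 []))) he
      simp only [map_mul] at h1
      change h.good.repFun _ (h.good.repFun p.2 _) =
        h.good.repFun _ (h.good.repFun p'.2 _) at h1
      rw [base_fix h.good.repFun (fun r => toVec D.rank (L.pts.getD r []))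
          (h.good.level_hfix hc.1 hb) hp,
        base_fix h.good.repFun (fun r => toVec D.rank (L.pts.getD r []))
          (h.good.level_hfix hc.1 hb) hp',
        rep_apply hT h.good.repFun (fun r => toVec D.rank (L.pts.getD r []))
          (h.good.level_hP hc.1 hb) p.1.2,
        rep_apply hT h.good.repFun (fun r => toVec D.rank (L.pts.getD r []))
          (h.good.level_hP hc.1 hb) p'.1.2] at h1
      have h2 : p.1 = p'.1 := Fin.ext (hinj _ p.1.2 _ p'.1.2 h1)
      rw [h2] at he
      exact Prod.ext h2 (mul_left_cancel he)
    · intro g hg
      simp only [Finset.mem_filter, Finset.mem_univ, true_and] at hg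
      obtain ⟨i, hi, hgi⟩ := exists_row (simpleNat_mul_self M) (wordProd_relWords M) hT hg
      exact ⟨(⟨i, hi⟩, (wordProd (simpleNat M) (L.reps.getD i []))⁻¹ * g),
        by simpa using QuotientGroup.eq.mp hgi.symm, mul_inv_cancel_left _ _⟩
    · intro p hp
      simp only [Finset.mem_product, Finset.mem_filter, Finset.mem_univ, true_and] at hp
      rw [h.length_mul_rep hr.1 (hlt _ p.1.2) p.1.2 hp,
        h.length_rep hc.1 hr.1 hb _ p.1.2, pow_add]

/-- The Poincaré polynomial of the Weyl group. -/
theorem sum_pow_length [Fintype M.Group] (q : S) :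
    ∑ w : M.Group, q ^ M.toCoxeterSystem.length w =
      (C.levels.map fun L => evalList q (levelPoly L)).prod := by
  classical
  rw [h.sum_genSub_aux q C.levels [] h.good.chain h.levels (by simp)]
  convert mul_one _
  rw [Finset.sum_eq_single 1] <;> simp [genSub]

/-- The Poincaré polynomial as a product over the degrees, once the coefficient lists agree. -/
theorem sum_pow_length_degrees [Fintype M.Group] (q : S) (degs : List ℕ)
    (hd : prodList (C.levels.map levelPoly) = prodList (degs.map fun d => List.replicate d 1)) :
    ∑ w : M.Group, q ^ M.toCoxeterSystem.length w =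
      (degs.map fun d => ∑ i ∈ Finset.range d, q ^ i).prod := by
  rw [h.sum_pow_length q]
  have := congrArg (evalList q) hd
  simpa [evalList_prodList, List.map_map, Function.comp_def, evalList_replicate_one] using this

end RootGood

end CfsgLib.Weyl
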