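import Cfsg.Agent.Weyl.Cert

/-! Certified coset tables for the Weyl group of type E8 (generated data, checked by the kernel). -/

namespace CfsgLib.Weyl

set_option maxHeartbeats 2000000

def levE8_0_T : List (List ℕ) :=
  [[1, 0, 0, 0, 0, 0, 0, 0], [0, 1, 1, 1, 1, 1, 1, 1]]

def levE8_0_reps : List (List ℕ) :=
  [[], [0]]

def levE8_0_deds : List (ℕ × ℕ × ℕ) :=
  [(0, 0, 0)]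

def levE8_0_pts : List (List ℤ) :=
  [[1, 0, 0, 0, 0, 0, 0, 0], [-1, 0, 1, 0, 0, 0, 0, 0]]

/-- Level 0 of the chain for E8. -/
def levelE8_0 : Level where
  node := 0
  T := levE8_0_T
  reps := levE8_0_reps
  deds := levE8_0_deds
  pts := levE8_0_pts

def levE8_1_T : List (List ℕ) :=
  [[0, 0, 1, 0, 0, 0, 0, 0], [2, 1, 0, 1, 1, 1, 1, 1], [1, 2, 2, 2, 2, 2, 2, 2]]

def levE8_1_reps : List (List ℕ) :=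
  [[], [2], [0, 2]]

def levE8_1_deds : List (ℕ × ℕ × ℕ) :=
  [(0, 0, 1), (0, 2, 0), (1, 0, 0), (2, 2, 16)]

def levE8_1_pts : List (List ℤ) :=
  [[0, 0, 1, 0, 0, 0, 0, 0], [1, 0, -1, 1, 0, 0, 0, 0], [-1, 0, 0, 1, 0, 0, 0, 0]]

/-- Level 1 of the chain for E8. -/
def levelE8_1 : Level where
  node := 2
  T := levE8_1_T
  reps := levE8_1_reps
  deds := levE8_1_deds
  pts := levE8_1_pts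

def levE8_2_T : List (List ℕ) :=
  [[0, 0, 0, 1, 0, 0, 0, 0], [1, 1, 2, 0, 1, 1, 1, 1], [3, 2, 1, 2, 2, 2, 2, 2], [2, 3, 3, 3, 3, 3, 3, 3]]

def levE8_2_reps : List (List ℕ) :=
  [[], [3], [2, 3], [0, 2, 3]]

def levE8_2_deds : List (ℕ × ℕ × ℕ) :=
  [(0, 0, 1), (0, 2, 1), (0, 3, 0), (1, 2, 0), (2, 0, 0), (1, 0, 4), (2, 3, 25), (3, 2, 16), (3, 3, 23)]

def levE8_2_pts : List (List ℤ) :=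
  [[0, 0, 0, 1, 0, 0, 0, 0], [0, 1, 1, -1, 1, 0, 0, 0], [1, 1, -1, 0, 1, 0, 0, 0], [-1, 1, 0, 0, 1, 0, 0, 0]]

/-- Level 2 of the chain for E8. -/
def levelE8_2 : Level where
  node := 3
  T := levE8_2_T
  reps := levE8_2_reps
  deds := levE8_2_deds
  pts := levE8_2_pts

def levE8_3_T : List (List ℕ) :=
  [[0, 1, 0, 0, 0, 0, 0, 0], [1, 0, 1, 2, 1, 1, 1, 1], [2, 2, 3, 1, 2, 2, 2, 2], [4, 3, 2, 3, 3, 3, 3, 3], [3, 4, 4, 4, 4, 4, 4, 4]]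

def levE8_3_reps : List (List ℕ) :=
  [[], [1], [3, 1], [2, 3, 1], [0, 2, 3, 1]]

def levE8_3_deds : List (ℕ × ℕ × ℕ) :=
  [(0, 0, 1), (0, 2, 1), (0, 3, 1), (0, 1, 0), (1, 3, 0), (2, 2, 0), (3, 0, 0), (1, 0, 2), (1, 2, 17), (2, 0, 4), (2, 1, 11), (3, 1, 10), (3, 3, 25), (4, 1, 9), (4, 2, 16), (4, 3, 23)]

def levE8_3_pts : List (List ℤ) :=
  [[0, 1, 0, 0, 0, 0, 0, 0], [0, -1, 0, 1, 0, 0, 0, 0], [0, 0, 1, -1, 1, 0, 0, 0], [1, 0, -1, 0, 1, 0, 0, 0], [-1, 0, 0, 0, 1, 0, 0, 0]]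

/-- Level 3 of the chain for E8. -/
def levelE8_3 : Level where
  node := 1
  T := levE8_3_T
  reps := levE8_3_reps
  deds := levE8_3_deds
  pts := levE8_3_pts

def levE8_4_T : List (List ℕ) :=
  [[0, 0, 0, 0, 1, 0, 0, 0], [1, 1, 1, 2, 0, 1, 1, 1], [2, 4, 3, 1, 2, 2, 2, 2], [5, 6, 2, 3, 3, 3, 3, 3], [4, 2, 6, 4, 4, 4, 4, 4], [3, 7, 5, 5, 5, 5, 5, 5], [7, 3, 4, 8, 6, 6, 6, 6], [6, 5, 7, 9, 7, 7, 7, 7], [9, 8, 8, 6, 10, 8, 8, 8], [8, 9, 11, 7, 12, 9, 9, 9], [12, 10, 10, 10, 8, 10, 10, 10], [11, 11, 9, 11, 13, 11, 11, 11], [10, 12, 13, 12, 9, 12, 12, 12], [13, 13, 12, 14, 11, 13, 13, 13], [14, 15, 14, 13, 14, 14, 14, 14], [15, 14, 15, 15, 15, 15, 15, 15]]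

def levE8_4_reps : List (List ℕ) :=
  [[], [4], [3, 4], [2, 3, 4], [1, 3, 4], [0, 2, 3, 4], [1, 2, 3, 4], [1, 0, 2, 3, 4], [3, 1, 2, 3, 4], [3, 1, 0, 2, 3, 4], [4, 3, 1, 2, 3, 4], [2, 3, 1, 0, 2, 3, 4], [4, 3, 1, 0, 2, 3, 4], [4, 2, 3, 1, 0, 2, 3, 4], [3, 4, 2, 3, 1, 0, 2, 3, 4], [1, 3, 4, 2, 3, 1, 0, 2, 3, 4]]

def levE8_4_deds : List (ℕ × ℕ × ℕ) :=
  [(0, 0, 1), (0, 2, 1), (0, 3, 1), (0, 1, 1), (0, 4, 0), (1, 3, 0), (2, 2, 0), (2, 1, 0), (3, 0, 0), (3, 1, 0), (5, 1, 0), (6, 3, 0), (7, 3, 0), (8, 4, 0), (9, 2, 0), (9, 4, 0), (11, 4, 0), (13, 3, 0), (14, 1, 0), (1, 0, 5), (1, 1, 12), (1, 2, 19), (2, 0, 4), (2, 4, 33), (3, 3, 25), (3, 4, 32), (4, 0, 2), (4, 2, 17), (4, 3, 24), (4, 4, 31), (5, 2, 16), (5, 3, 23), (5, 4, 30), (6, 0, 2), (6, 4,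 31), (7, 2, 16), (7, 4, 30), (8, 0, 4), (8, 1, 11), (8, 2, 18), (9, 1, 9), (10, 0, 5), (10, 1, 12), (10, 2, 19), (10, 3, 26), (11, 0, 3), (11, 1, 10), (11, 3, 25), (12, 1, 9), (12, 2, 19), (12, 3, 23), (13, 0, 3), (13, 1, 10), (14, 0, 4), (14, 2, 18), (14, 4, 33), (15, 0, 2), (15, 2, 17), (15, 3, 24), (15, 4, 31)]

def levE8_4_pts : List (List ℤ) :=
  [[0, 0, 0, 0, 1, 0, 0, 0], [0, 0, 0, 1, -1, 1, 0, 0], [0, 1, 1, -1, 0, 1, 0, 0], [1, 1, -1, 0, 0, 1, 0, 0], [0, -1, 1, 0, 0, 1, 0, 0], [-1, 1, 0, 0, 0, 1, 0, 0], [1, -1, -1, 1, 0, 1, 0, 0], [-1, -1, 0, 1, 0, 1, 0, 0], [1, 0, 0, -1, 1, 1, 0, 0], [-1, 0, 1, -1, 1, 1, 0, 0], [1, 0, 0, 0, -1, 2, 0, 0], [0, 0, -1, 0, 1, 1, 0, 0], [-1, 0, 1, 0, -1, 2, 0, 0], [0, 0, -1, 1, -1, 2, 0, 0], [0, 1, 0, -1, 0,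 2, 0, 0], [0, -1, 0, 0, 0, 2, 0, 0]]

/-- Level 4 of the chain for E8. -/
def levelE8_4 : Level where
  node := 4
  T := levE8_4_T
  reps := levE8_4_reps
  deds := levE8_4_deds
  pts := levE8_4_pts

def levE8_5_T : List (List ℕ) :=
  [[0, 0, 0, 0, 0, 1, 0, 0], [1, 1, 1, 1, 2, 0, 1, 1], [2, 2, 2, 3, 1, 2, 2, 2], [3, 5, 4, 2, 3, 3, 3, 3], [6, 7, 3, 4, 4, 4, 4, 4], [5, 3, 7, 5, 5, 5, 5, 5], [4, 8, 6, 6, 6, 6, 6, 6], [8, 4, 5, 9, 7, 7, 7, 7], [7, 6, 8, 10, 8, 8, 8, 8], [10, 9, 9, 7, 11, 9, 9, 9], [9, 10, 12, 8, 13, 10, 10, 10], [13, 11, 11, 11, 9, 14, 11, 11], [12, 12, 10, 12, 15, 12, 12, 12], [11, 13, 15, 13, 10, 16, 13, 13], [16, 14, 14, 14, 14, 11, 14, 14], [15, 15, 13, 17, 12, 18, 15, 15], [14, 16, 18, 16, 16, 13, 16, 16], [17, 19, 17, 15, 17,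 20, 17, 17], [18, 18, 16, 20, 18, 15, 18, 18], [19, 17, 19, 19, 19, 21, 19, 19], [20, 21, 20, 18, 22, 17, 20, 20], [21, 20, 21, 21, 23, 19, 21, 21], [22, 23, 22, 22, 20, 22, 22, 22], [23, 22, 23, 24, 21, 23, 23, 23], [24, 24, 25, 23, 24, 24, 24, 24], [26, 25, 24, 25, 25, 25, 25, 25], [25, 26, 26, 26, 26, 26, 26, 26]]

def levE8_5_reps : List (List ℕ) :=
  [[], [5], [4, 5], [3, 4, 5], [2, 3, 4, 5], [1, 3, 4, 5], [0, 2, 3, 4, 5], [1, 2, 3, 4, 5], [1, 0, 2, 3, 4, 5], [3, 1, 2, 3, 4, 5], [3, 1, 0, 2, 3, 4, 5], [4, 3, 1, 2, 3, 4, 5], [2, 3, 1, 0, 2, 3, 4, 5], [4, 3, 1, 0, 2, 3, 4, 5], [5, 4, 3, 1, 2, 3, 4, 5], [4, 2, 3, 1, 0, 2, 3, 4, 5], [5, 4, 3, 1, 0, 2, 3, 4, 5], [3, 4, 2, 3, 1, 0, 2, 3, 4, 5], [5, 4, 2, 3, 1, 0, 2, 3, 4, 5], [1, 3, 4, 2, 3, 1,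 0, 2, 3, 4, 5], [5, 3, 4, 2, 3, 1, 0, 2, 3, 4, 5], [5, 1, 3, 4, 2, 3, 1, 0, 2, 3, 4, 5], [4, 5, 3, 4, 2, 3, 1, 0, 2, 3, 4, 5], [4, 5, 1, 3, 4, 2, 3, 1, 0, 2, 3, 4, 5], [3, 4, 5, 1, 3, 4, 2, 3, 1, 0, 2, 3, 4, 5], [2, 3, 4, 5, 1, 3, 4, 2, 3, 1, 0, 2, 3, 4, 5], [0, 2, 3, 4, 5, 1, 3, 4, 2, 3, 1, 0, 2, 3, 4, 5]]

def levE8_5_dedsc0 : List (ℕ × ℕ × ℕ) :=
  [(0, 0, 1), (0, 2, 1), (0, 3, 1), (0, 1, 1), (0, 4, 1), (0, 5, 0), (1, 4, 0), (2, 3, 0), (3, 2, 0), (3, 1, 0), (4, 0, 0), (4, 1, 0), (6, 1, 0), (7, 3, 0), (8, 3, 0), (9, 4, 0), (10, 2, 0), (10, 4, 0), (11, 5, 0), (12, 4, 0), (13, 5, 0), (15, 3, 0), (15, 5, 0), (17, 1, 0), (17, 5, 0), (19, 5, 0), (20, 4, 0), (21, 4, 0), (23, 3, 0), (24, 2, 0), (25, 0, 0), (1, 0, 6), (1, 1, 13), (1, 2, 20), (1, 3,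 27), (2, 0, 5), (2, 1, 12), (2, 2, 19), (2, 5, 41), (3, 0, 4), (3, 4, 33), (3, 5, 40), (4, 3, 25), (4, 4, 32), (4, 5, 39), (5, 0, 2), (5, 2, 17), (5, 3, 24), (5, 4, 31), (5, 5, 38), (6, 2, 16), (6, 3, 23), (6, 4, 30), (6, 5, 37), (7, 0, 2), (7, 4, 31), (7, 5, 38), (8, 2, 16), (8, 4, 30), (8, 5, 37), (9, 0, 4), (9, 1, 11), (9, 2, 18), (9, 5, 40), (10, 1, 9), (10, 5, 37), (11, 0, 5), (11, 1, 12), (11, 2, 19), (11, 3, 26), (12, 0, 3), (12, 1, 10), (12, 3, 25), (12, 5, 39), (13, 1, 9), (13, 2, 19), (13, 3, 23), (14, 0, 6), (14, 1, 13), (14, 2, 20), (14, 3, 27), (14, 4, 34), (15, 0, 3), (15, 1, 10), (16, 1, 9), (16, 2, 20), (16, 3, 23), (16, 4, 30), (17, 0, 4), (17, 2, 18), (17, 4, 33), (18, 0, 3), (18, 1, 10), (18, 3, 27), (18, 4, 32), (19, 0, 2),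 (19, 2, 17), (19, 3, 24), (19, 4, 31), (20, 0, 4)]

def levE8_5_dedsc1 : List (ℕ × ℕ × ℕ) :=
  [(20, 1, 13), (20, 2, 18), (21, 0, 2), (21, 2, 17), (21, 3, 24), (22, 0, 5), (22, 1, 12), (22, 2, 19), (22, 3, 26), (22, 5, 41), (23, 0, 2), (23, 2, 17), (23, 5, 38), (24, 0, 4), (24, 1, 11), (24, 4, 33), (24, 5, 40), (25, 1, 10), (25, 3, 25), (25, 4, 32), (25, 5, 39), (26, 1, 9), (26, 2, 16), (26, 3, 23), (26, 4, 30), (26, 5, 37)]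

def levE8_5_deds : List (ℕ × ℕ × ℕ) :=
  levE8_5_dedsc0 ++ levE8_5_dedsc1

def levE8_5_pts : List (List ℤ) :=
  [[0, 0, 0, 0, 0, 1, 0, 0], [0, 0, 0, 0, 1, -1, 1, 0], [0, 0, 0, 1, -1, 0, 1, 0], [0, 1, 1, -1, 0, 0, 1, 0], [1, 1, -1, 0, 0, 0, 1, 0], [0, -1, 1, 0, 0, 0, 1, 0], [-1, 1, 0, 0, 0, 0, 1, 0], [1, -1, -1, 1, 0, 0, 1, 0], [-1, -1, 0, 1, 0, 0, 1, 0], [1, 0, 0, -1, 1, 0, 1, 0], [-1, 0, 1, -1, 1, 0, 1, 0], [1, 0, 0, 0, -1, 1, 1, 0], [0, 0, -1, 0, 1, 0, 1, 0], [-1, 0, 1, 0, -1, 1, 1, 0], [1, 0, 0, 0, 0, -1, 2, 0], [0, 0, -1, 1, -1, 1, 1, 0], [-1, 0, 1, 0, 0, -1, 2, 0], [0, 1, 0, -1, 0, 1, 1, 0], [0, 0, -1, 1, 0, -1, 2, 0], [0, -1, 0, 0, 0, 1, 1, 0], [0, 1, 0, -1, 1, -1, 2, 0], [0, -1, 0, 0, 1, -1, 2, 0], [0, 1, 0, 0, -1, 0, 2, 0], [0, -1, 0,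 1, -1, 0, 2, 0], [0, 0, 1, -1, 0, 0, 2, 0], [1, 0, -1, 0, 0, 0, 2, 0], [-1, 0, 0, 0, 0, 0, 2, 0]]

/-- Level 5 of the chain for E8. -/
def levelE8_5 : Level where
  node := 5
  T := levE8_5_T
  reps := levE8_5_reps
  deds := levE8_5_deds
  pts := levE8_5_pts

def levE8_6_T : List (List ℕ) :=
  [[0, 0, 0, 0, 0, 0, 1, 0], [1, 1, 1, 1, 1, 2, 0, 1], [2, 2, 2, 2, 3, 1, 2, 2], [3, 3, 3, 4, 2, 3, 3, 3], [4, 6, 5, 3, 4, 4, 4, 4], [7, 8, 4, 5, 5, 5, 5, 5], [6, 4, 8, 6, 6, 6, 6, 6], [5, 9, 7, 7, 7, 7, 7, 7], [9, 5, 6, 10, 8, 8, 8, 8], [8, 7, 9, 11, 9, 9, 9, 9], [11, 10, 10, 8, 12, 10, 10, 10], [10, 11, 13, 9, 14, 11, 11, 11], [14, 12, 12, 12, 10, 15, 12, 12], [13, 13, 11, 13, 16, 13, 13, 13], [12, 14, 16, 14, 11, 17, 14, 14], [17, 15, 15, 15, 15, 12, 18,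 15], [16, 16, 14, 19, 13, 20, 16, 16], [15, 17, 20, 17, 17, 14, 21, 17], [21, 18, 18, 18, 18, 18, 15, 18], [19, 22, 19, 16, 19, 23, 19, 19], [20, 20, 17, 23, 20, 16, 24, 20], [18, 21, 24, 21, 21, 21, 17, 21], [22, 19, 22, 22, 22, 25, 22, 22], [23, 25, 23, 20, 26, 19, 27, 23], [24, 24, 21, 27, 24, 24, 20, 24], [25, 23, 25, 25, 28, 22, 29, 25], [26, 28, 26, 26, 23, 26, 30, 26], [27, 29, 27, 24, 30, 27, 23, 27], [28, 26, 28, 31, 25, 28, 32, 28], [29, 27, 29, 29, 32, 29, 25, 29], [30, 32, 30, 30, 27, 33, 26, 30], [31, 31, 34, 28, 31, 31, 35, 31], [32, 30, 32, 35, 29, 36, 28, 32], [33, 36, 33, 33, 33, 30, 33, 33], [37, 34, 31, 34, 34, 34, 38, 34], [35, 35, 38, 32, 35, 39, 31, 35], [36, 33, 36, 39, 36, 32, 36, 36], [34, 37, 37, 37, 37, 37, 40, 37],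 [40, 38, 35, 38, 38, 41, 34, 38], [39, 39, 41, 36, 42, 35, 39, 39], [38, 40, 40, 40, 40, 43, 37, 40], [43, 41, 39, 41, 44, 38, 41, 41], [42, 42, 44, 42, 39, 42, 42, 42], [41, 43, 43, 43, 45, 40, 43, 43], [45, 44, 42, 46, 41, 44, 44, 44], [44, 45, 45, 47, 43, 45, 45, 45], [47, 48, 46, 44, 46, 46, 46, 46], [46, 50, 49, 45, 47, 47, 47, 47], [50, 46, 48, 48, 48, 48, 48, 48], [49, 51, 47, 49, 49, 49, 49, 49], [48, 47, 51, 50, 50, 50, 50, 50], [51, 49, 50, 52, 51, 51, 51, 51], [52, 52, 52, 51, 53, 52, 52, 52], [53, 53, 53, 53, 52, 54, 53, 53], [54, 54, 54, 54, 54, 53, 55, 54], [55, 55, 55, 55, 55, 55, 54, 55]]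

def levE8_6_reps : List (List ℕ) :=
  [[], [6], [5, 6], [4, 5, 6], [3, 4, 5, 6], [2, 3, 4, 5, 6], [1, 3, 4, 5, 6], [0, 2, 3, 4, 5, 6], [1, 2, 3, 4, 5, 6], [1, 0, 2, 3, 4, 5, 6], [3, 1, 2, 3, 4, 5, 6], [3, 1, 0, 2, 3, 4, 5, 6], [4, 3, 1, 2, 3, 4, 5, 6], [2, 3, 1, 0, 2, 3, 4, 5, 6], [4, 3, 1, 0, 2, 3, 4, 5, 6], [5, 4, 3, 1, 2, 3, 4, 5, 6], [4, 2, 3, 1, 0, 2, 3, 4, 5, 6], [5, 4, 3, 1, 0, 2, 3, 4, 5, 6], [6, 5, 4, 3, 1, 2, 3, 4, 5, 6], [3, 4, 2, 3, 1, 0, 2, 3, 4, 5, 6], [5, 4, 2, 3, 1, 0, 2, 3, 4, 5, 6], [6, 5, 4, 3, 1, 0, 2, 3, 4, 5, 6], [1, 3, 4, 2, 3, 1, 0, 2, 3, 4, 5, 6], [5, 3, 4, 2, 3, 1, 0, 2, 3, 4, 5, 6], [6, 5, 4, 2, 3, 1, 0, 2, 3, 4, 5, 6], [5, 1, 3, 4, 2, 3, 1, 0, 2, 3, 4, 5, 6], [4, 5, 3, 4, 2, 3, 1, 0, 2, 3, 4, 5, 6], [6, 5, 3, 4, 2,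 3, 1, 0, 2, 3, 4, 5, 6], [4, 5, 1, 3, 4, 2, 3, 1, 0, 2, 3, 4, 5, 6], [6, 5, 1, 3, 4, 2, 3, 1, 0, 2, 3, 4, 5, 6], [6, 4, 5, 3, 4, 2, 3, 1, 0, 2, 3, 4, 5, 6], [3, 4, 5, 1, 3, 4, 2, 3, 1, 0, 2, 3, 4, 5, 6], [6, 4, 5, 1, 3, 4, 2, 3, 1, 0, 2, 3, 4, 5, 6], [5, 6, 4, 5, 3, 4, 2, 3, 1, 0, 2, 3, 4, 5, 6], [2, 3, 4, 5, 1, 3, 4, 2, 3, 1, 0, 2, 3, 4, 5, 6], [6, 3, 4, 5, 1, 3, 4, 2, 3, 1, 0, 2, 3, 4, 5, 6], [5, 6, 4, 5, 1, 3, 4, 2, 3, 1, 0, 2, 3, 4, 5, 6], [0, 2, 3, 4, 5, 1, 3, 4, 2, 3, 1, 0, 2, 3, 4, 5, 6], [6, 2, 3, 4, 5, 1, 3, 4, 2, 3, 1, 0, 2, 3, 4, 5, 6], [5, 6, 3, 4, 5, 1, 3, 4, 2, 3, 1, 0, 2, 3, 4, 5, 6], [6, 0, 2, 3, 4, 5, 1, 3, 4, 2, 3, 1, 0, 2, 3, 4, 5, 6], [5, 6, 2, 3, 4, 5, 1, 3, 4, 2, 3, 1, 0, 2, 3, 4, 5, 6], [4, 5, 6, 3, 4, 5, 1, 3, 4, 2, 3,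 1, 0, 2, 3, 4, 5, 6], [5, 6, 0, 2, 3, 4, 5, 1, 3, 4, 2, 3, 1, 0, 2, 3, 4, 5, 6], [4, 5, 6, 2, 3, 4, 5, 1, 3, 4, 2, 3, 1, 0, 2, 3, 4, 5, 6], [4, 5, 6, 0, 2, 3, 4, 5, 1, 3, 4, 2, 3, 1, 0, 2, 3, 4, 5, 6], [3, 4, 5, 6, 2, 3, 4, 5, 1, 3, 4, 2, 3, 1, 0, 2, 3, 4, 5, 6], [3, 4, 5, 6, 0, 2, 3, 4, 5, 1, 3, 4, 2, 3, 1, 0, 2, 3, 4, 5, 6], [1, 3, 4, 5, 6, 2, 3, 4, 5, 1, 3, 4, 2, 3, 1, 0, 2, 3, 4, 5, 6], [2, 3, 4, 5, 6, 0, 2, 3, 4, 5, 1, 3, 4, 2, 3, 1, 0, 2, 3, 4, 5, 6], [1, 3, 4, 5, 6, 0, 2, 3, 4, 5, 1, 3, 4, 2, 3, 1, 0, 2, 3, 4, 5, 6], [1, 2, 3, 4, 5, 6, 0, 2, 3, 4, 5, 1, 3, 4, 2, 3, 1, 0, 2, 3, 4, 5, 6], [3, 1, 2, 3, 4, 5, 6, 0, 2, 3, 4, 5, 1, 3, 4, 2, 3, 1, 0, 2, 3, 4, 5, 6], [4, 3, 1, 2, 3, 4, 5, 6, 0, 2, 3, 4, 5, 1, 3, 4, 2, 3, 1, 0, 2, 3, 4, 5, 6],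 [5, 4, 3, 1, 2, 3, 4, 5, 6, 0, 2, 3, 4, 5, 1, 3, 4, 2, 3, 1, 0, 2, 3, 4, 5, 6], [6, 5, 4, 3, 1, 2, 3, 4, 5, 6, 0, 2, 3, 4, 5, 1, 3, 4, 2, 3, 1, 0, 2, 3, 4, 5, 6]]

def levE8_6_dedsc0 : List (ℕ × ℕ × ℕ) :=
  [(0, 0, 1), (0, 2, 1), (0, 3, 1), (0, 1, 1), (0, 4, 1), (0, 5, 1), (0, 6, 0), (1, 5, 0), (2, 4, 0), (3, 3, 0), (4, 2, 0), (4, 1, 0), (5, 0, 0), (5, 1, 0), (7, 1, 0), (8, 3, 0), (9, 3, 0), (10, 4, 0), (11, 2, 0), (11, 4, 0), (12, 5, 0), (13, 4, 0), (14, 5, 0), (15, 6, 0), (16, 3, 0), (16, 5, 0), (17, 6, 0), (19, 1, 0), (19, 5, 0), (20, 6, 0), (22, 5, 0), (23, 4, 0), (23, 6, 0), (25, 4, 0), (25, 6, 0), (26, 6, 0), (28, 3, 0), (28, 6, 0), (30, 5, 0), (31, 2, 0), (31, 6, 0), (32, 5, 0), (34, 0, 0), (34, 6, 0), (35, 5, 0), (37, 6, 0), (38, 5, 0),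 (39, 4, 0), (40, 5, 0), (41, 4, 0), (43, 4, 0), (44, 3, 0), (45, 3, 0), (46, 1, 0), (47, 2, 0), (47, 1, 0), (49, 1, 0), (51, 3, 0), (52, 4, 0), (53, 5, 0), (54, 6, 0), (1, 0, 7), (1, 1, 14), (1, 2, 21), (1, 3, 28), (1, 4, 35), (2, 0, 6), (2, 1, 13), (2, 2, 20), (2, 3, 27), (2, 6, 49), (3, 0, 5), (3, 1, 12), (3, 2, 19), (3, 5, 41), (3, 6, 48), (4, 0, 4), (4, 4, 33), (4, 5, 40), (4, 6, 47), (5, 3, 25), (5, 4, 32), (5, 5, 39), (5, 6, 46), (6, 0, 2), (6, 2, 17), (6, 3, 24), (6, 4, 31), (6, 5, 38), (6, 6, 45), (7, 2, 16), (7, 3, 23), (7, 4, 30), (7, 5, 37), (7, 6, 44), (8, 0, 2), (8, 4, 31), (8, 5, 38), (8, 6, 45), (9, 2, 16)]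

def levE8_6_dedsc1 : List (ℕ × ℕ × ℕ) :=
  [(9, 4, 30), (9, 5, 37), (9, 6, 44), (10, 0, 4), (10, 1, 11), (10, 2, 18), (10, 5, 40), (10, 6, 47), (11, 1, 9), (11, 5, 37), (11, 6, 44), (12, 0, 5), (12, 1, 12), (12, 2, 19), (12, 3, 26), (12, 6, 48), (13, 0, 3), (13, 1, 10), (13, 3, 25), (13, 5, 39), (13, 6, 46), (14, 1, 9), (14, 2, 19), (14, 3, 23), (14, 6, 44), (15, 0, 6), (15, 1, 13), (15, 2, 20), (15, 3, 27), (15, 4, 34), (16, 0, 3), (16, 1, 10), (16, 6, 46), (17, 1, 9), (17, 2, 20), (17, 3, 23), (17, 4, 30), (18, 0, 7), (18, 1, 14), (18, 2, 21), (18, 3, 28), (18, 4, 35), (18, 5, 42), (19, 0, 4), (19, 2, 18), (19, 4, 33), (19, 6, 47), (20, 0, 3), (20, 1, 10), (20, 3, 27), (20, 4, 32), (21, 1, 9), (21, 2, 21), (21, 3, 23), (21, 4, 30), (21, 5,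 37), (22, 0, 2), (22, 2, 17), (22, 3, 24), (22, 4, 31), (22, 6, 45), (23, 0, 4), (23, 1, 13), (23, 2, 18), (24, 0, 3), (24, 1, 10), (24, 3, 28), (24, 4, 32), (24, 5, 39), (25, 0, 2), (25, 2, 17), (25, 3, 24), (26, 0, 5), (26, 1, 12), (26, 2, 19), (26, 3, 26), (26, 5, 41), (27, 0, 4), (27, 1, 14), (27, 2, 18), (27, 4, 35), (27, 5, 40), (28, 0, 2), (28, 2, 17), (28, 5, 38), (29, 0, 2), (29, 2, 17), (29, 3, 24), (29, 4, 35), (29, 5, 38), (30, 0, 5), (30, 1, 12), (30, 2, 19), (30, 3, 26), (31, 0, 4), (31, 1, 11), (31, 4, 33), (31, 5, 40), (32, 0, 2), (32, 2, 17)]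

def levE8_6_dedsc2 : List (ℕ × ℕ × ℕ) :=
  [(32, 3, 28), (33, 0, 6), (33, 1, 13), (33, 2, 20), (33, 3, 27), (33, 4, 34), (33, 6, 49), (34, 1, 10), (34, 3, 25), (34, 4, 32), (34, 5, 39), (35, 0, 4), (35, 1, 11), (35, 2, 21), (35, 4, 33), (36, 0, 2), (36, 2, 17), (36, 3, 27), (36, 4, 31), (36, 6, 45), (37, 1, 9), (37, 2, 16), (37, 3, 23), (37, 4, 30), (37, 5, 37), (38, 0, 7), (38, 1, 10), (38, 3, 25), (38, 4, 32), (39, 0, 4), (39, 1, 11), (39, 2, 20), (39, 6, 47), (40, 1, 9), (40, 2, 16), (40, 3, 23), (40, 4, 30), (41, 0, 6), (41, 1, 10), (41, 3, 25), (41, 6, 46), (42, 0, 5), (42, 1, 12), (42, 2, 19), (42, 3, 26), (42, 5, 41), (42, 6, 48), (43, 1, 9), (43, 2, 16), (43, 3, 23), (43, 6, 44), (44, 0, 5), (44, 1, 10), (44, 5, 39), (44, 6, 46), (45,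 1, 9), (45, 2, 16), (45, 5, 37), (45, 6, 44), (46, 0, 4), (46, 2, 18), (46, 4, 33), (46, 5, 40), (46, 6, 47), (47, 4, 30), (47, 5, 37), (47, 6, 44), (48, 0, 2), (48, 2, 17), (48, 3, 24), (48, 4, 31), (48, 5, 38), (48, 6, 45), (49, 0, 3), (49, 3, 25), (49, 4, 32), (49, 5, 39), (49, 6, 46), (50, 2, 17), (50, 3, 23), (50, 4, 30), (50, 5, 37), (50, 6, 44), (51, 0, 2), (51, 4, 31), (51, 5, 38), (51, 6, 45), (52, 0, 4), (52, 1, 11), (52, 2, 18), (52, 5, 40), (52, 6, 47), (53, 0, 5), (53, 1, 12), (53, 2, 19), (53, 3, 26), (53, 6, 48), (54, 0, 6), (54, 1, 13), (54, 2, 20)]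

def levE8_6_dedsc3 : List (ℕ × ℕ × ℕ) :=
  [(54, 3, 27), (54, 4, 34), (55, 0, 7), (55, 1, 14), (55, 2, 21), (55, 3, 28), (55, 4, 35), (55, 5, 42)]

def levE8_6_deds : List (ℕ × ℕ × ℕ) :=
  levE8_6_dedsc0 ++ levE8_6_dedsc1 ++ levE8_6_dedsc2 ++ levE8_6_dedsc3

def levE8_6_pts : List (List ℤ) :=
  [[0, 0, 0, 0, 0, 0, 1, 0], [0, 0, 0, 0, 0, 1, -1, 1], [0, 0, 0, 0, 1, -1, 0, 1], [0, 0, 0, 1, -1, 0, 0, 1], [0, 1, 1, -1, 0, 0, 0, 1], [1, 1, -1, 0, 0, 0, 0, 1], [0, -1, 1, 0, 0, 0, 0, 1], [-1, 1, 0, 0, 0, 0, 0, 1], [1, -1, -1, 1, 0, 0, 0, 1], [-1, -1, 0, 1, 0, 0, 0, 1], [1, 0, 0, -1, 1, 0, 0, 1], [-1, 0, 1, -1, 1, 0, 0, 1], [1, 0, 0, 0, -1, 1, 0, 1], [0, 0, -1, 0, 1, 0, 0, 1], [-1, 0, 1, 0, -1, 1, 0, 1], [1, 0, 0, 0, 0, -1, 1, 1], [0, 0, -1, 1, -1, 1,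 0, 1], [-1, 0, 1, 0, 0, -1, 1, 1], [1, 0, 0, 0, 0, 0, -1, 2], [0, 1, 0, -1, 0, 1, 0, 1], [0, 0, -1, 1, 0, -1, 1, 1], [-1, 0, 1, 0, 0, 0, -1, 2], [0, -1, 0, 0, 0, 1, 0, 1], [0, 1, 0, -1, 1, -1, 1, 1], [0, 0, -1, 1, 0, 0, -1, 2], [0, -1, 0, 0, 1, -1, 1, 1], [0, 1, 0, 0, -1, 0, 1, 1], [0, 1, 0, -1, 1, 0, -1, 2], [0, -1, 0, 1, -1, 0, 1, 1], [0, -1, 0, 0, 1, 0, -1, 2], [0, 1, 0, 0, -1, 1, -1, 2], [0, 0, 1, -1, 0, 0, 1, 1], [0, -1, 0, 1, -1, 1, -1, 2], [0, 1, 0, 0, 0, -1, 0, 2], [1, 0, -1, 0, 0, 0, 1, 1], [0, 0, 1, -1, 0, 1, -1, 2], [0, -1, 0, 1, 0, -1, 0, 2], [-1, 0, 0, 0, 0, 0, 1, 1], [1, 0, -1, 0, 0, 1, -1, 2], [0, 0, 1, -1, 1, -1, 0, 2], [-1, 0, 0, 0, 0, 1, -1, 2], [1, 0, -1, 0, 1, -1, 0, 2], [0, 0, 1, 0, -1, 0, 0, 2], [-1, 0, 0, 0, 1, -1, 0, 2],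 [1, 0, -1, 1, -1, 0, 0, 2], [-1, 0, 0, 1, -1, 0, 0, 2], [1, 1, 0, -1, 0, 0, 0, 2], [-1, 1, 1, -1, 0, 0, 0, 2], [1, -1, 0, 0, 0, 0, 0, 2], [0, 1, -1, 0, 0, 0, 0, 2], [-1, -1, 1, 0, 0, 0, 0, 2], [0, -1, -1, 1, 0, 0, 0, 2], [0, 0, 0, -1, 1, 0, 0, 2], [0, 0, 0, 0, -1, 1, 0, 2], [0, 0, 0, 0, 0, -1, 1, 2], [0, 0, 0, 0, 0, 0, -1, 3]]

/-- Level 6 of the chain for E8. -/
def levelE8_6 : Level where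
  node := 6
  T := levE8_6_T
  reps := levE8_6_reps
  deds := levE8_6_deds
  pts := levE8_6_pts

def levE8_7_Tc0 : List (List ℕ) :=
  [[0, 0, 0, 0, 0, 0, 0, 1], [1, 1, 1, 1, 1, 1, 2, 0], [2, 2, 2, 2, 2, 3, 1, 2], [3, 3, 3, 3, 4, 2, 3, 3], [4, 4, 4, 5, 3, 4, 4, 4], [5, 7, 6, 4, 5, 5, 5, 5], [8, 9, 5, 6, 6, 6, 6, 6], [7, 5, 9, 7, 7, 7, 7, 7], [6, 10, 8, 8, 8, 8, 8, 8], [10, 6, 7, 11, 9, 9, 9, 9], [9, 8, 10, 12, 10, 10, 10, 10], [12, 11, 11, 9, 13, 11, 11, 11], [11, 12, 14, 10, 15, 12, 12, 12], [15, 13, 13, 13, 11, 16, 13, 13], [14, 14, 12, 14, 17, 14, 14, 14], [13, 15, 17, 15, 12, 18, 15, 15], [18, 16, 16, 16, 16, 13, 19, 16], [17, 17, 15, 20, 14, 21, 17, 17], [16, 18, 21, 18, 18, 15, 22, 18], [22, 19, 19, 19, 19, 19, 16, 23], [20, 24, 20, 17,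 20, 25, 20, 20], [21, 21, 18, 25, 21, 17, 26, 21], [19, 22, 26, 22, 22, 22, 18, 27], [27, 23, 23, 23, 23, 23, 23, 19], [24, 20, 24, 24, 24, 28, 24, 24], [25, 28, 25, 21, 29, 20, 30, 25], [26, 26, 22, 30, 26, 26, 21, 31], [23, 27, 31, 27, 27, 27, 27, 22], [28, 25, 28, 28, 32, 24, 33, 28], [29, 32, 29, 29, 25, 29, 34, 29], [30, 33, 30, 26, 34, 30, 25, 35], [31, 31, 27, 35, 31, 31, 31, 26], [32, 29, 32, 36, 28, 32, 37, 32], [33, 30, 33, 33, 37, 33, 28, 38], [34, 37, 34, 34, 30, 39, 29, 40], [35, 38, 35, 31, 40, 35, 35, 30], [36, 36, 41, 32, 36, 36, 42, 36], [37, 34, 37, 42, 33, 43, 32, 44], [38, 35, 38, 38, 44, 38, 38, 33], [39, 43, 39, 39, 39, 34, 39, 45], [40, 44, 40, 40, 35, 45, 40, 34], [46, 41, 36, 41, 41, 41, 47, 41], [42, 42, 47, 37, 42,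 48, 36, 49], [43, 39, 43, 48, 43, 37, 43, 50], [44, 40, 44, 49, 38, 50, 44, 37], [45, 50, 45, 45, 45, 40, 51, 39], [41, 46, 46, 46, 46, 46, 52, 46], [52, 47, 42, 47, 47, 53, 41, 54], [48, 48, 53, 43, 55, 42, 48, 56], [49, 49, 54, 44, 49, 56, 49, 42], [50, 45, 50, 56, 50, 44, 57, 43], [51, 57, 51, 51, 51, 51, 45, 51], [47, 52, 52, 52, 52, 58, 46, 59], [58, 53, 48, 53, 60, 47, 53, 61], [59, 54, 49, 54, 54, 61, 54, 47], [55, 55, 60, 55, 48, 55, 55, 62], [56, 56, 61, 50, 62, 49, 63, 48], [57, 51, 57, 63, 57, 57, 50, 57], [53, 58, 58, 58, 64, 52, 58, 65], [54, 59, 59, 59, 59, 65, 59, 52]]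

def levE8_7_Tc1 : List (List ℕ) :=
  [[64, 60, 55, 66, 53, 60, 60, 67], [65, 61, 56, 61, 67, 54, 68, 53], [62, 62, 67, 62, 56, 62, 69, 55], [63, 63, 68, 57, 69, 63, 56, 63], [60, 64, 64, 70, 58, 64, 64, 71], [61, 65, 65, 65, 71, 59, 72, 58], [70, 73, 66, 60, 66, 66, 66, 74], [71, 67, 62, 74, 61, 67, 75, 60], [72, 68, 63, 68, 75, 68, 61, 68], [69, 69, 75, 69, 63, 76, 62, 69], [66, 78, 77, 64, 70, 70, 70, 79], [67, 71, 71, 79, 65, 71, 80, 64], [68, 72, 72, 72, 80, 72, 65, 72], [78, 66, 73, 73, 73, 73, 73, 81], [79, 81, 74, 67, 74, 74, 82, 66], [80, 75, 69, 82, 68, 83, 67, 75], [76, 76, 83, 76, 76, 69, 76, 76], [77, 84, 70, 77, 77, 77, 77, 85], [73, 70, 84, 78, 78, 78, 78, 86], [74, 86, 85, 71, 79, 79, 87, 70], [75, 80, 80, 87, 72, 88, 71, 80],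 [86, 74, 81, 81, 81, 81, 89, 73], [87, 89, 82, 75, 82, 90, 74, 82], [88, 83, 76, 90, 83, 75, 83, 83], [84, 77, 78, 91, 84, 84, 84, 92], [85, 92, 79, 85, 85, 85, 93, 77], [81, 79, 92, 86, 86, 86, 94, 78], [82, 94, 93, 80, 87, 95, 79, 87], [83, 88, 88, 95, 88, 80, 88, 88], [94, 82, 89, 89, 89, 96, 81, 89], [95, 96, 90, 83, 97, 82, 90, 90], [91, 91, 91, 84, 98, 91, 91, 99], [92, 85, 86, 99, 92, 92, 100, 84], [93, 100, 87, 93, 93, 101, 85, 93], [89, 87, 100, 94, 94, 102, 86, 94], [90, 102, 101, 88, 103, 87, 95, 95], [102, 90, 96, 96, 104, 89, 96, 96], [103, 104, 97, 97, 90, 97, 97, 97], [98, 98, 98, 98, 91, 105, 98, 106], [99, 99, 99, 92, 106, 99, 107, 91], [100, 93, 94, 107, 100, 108, 92, 100], [101, 108, 95, 101, 109, 93, 101, 101], [96, 95, 108,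 102, 110, 94, 102, 102], [97, 110, 109, 103, 95, 103, 103, 103], [110, 97, 104, 111, 96, 104, 104, 104], [105, 105, 105, 105, 105, 98, 112, 113], [106, 106, 106, 106, 99, 113, 114, 98], [107, 107, 107, 100, 114, 115, 99, 107], [108, 101, 102, 115, 116, 100, 108, 108], [109, 116, 103, 117, 101, 109, 109, 109], [104, 103, 116, 118, 102, 110, 110, 110], [118, 111, 119, 104, 111, 111, 111, 111], [112, 112, 112, 112, 112, 112, 105, 120], [113, 113, 113, 113, 113, 106, 121, 105], [114, 114, 114, 114, 107, 122, 106, 114], [115, 115, 115, 108, 123, 107, 115, 115], [116, 109, 110, 124, 108, 116, 116, 116], [117, 125, 117, 109, 117, 117, 117, 117], [111, 118, 126, 110, 118, 118, 118, 118], [127, 119, 111, 119, 119, 119, 119, 119]]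

def levE8_7_Tc2 : List (List ℕ) :=
  [[120, 120, 120, 120, 120, 120, 128, 112], [121, 121, 121, 121, 121, 129, 113, 128], [122, 122, 122, 122, 130, 114, 129, 122], [123, 123, 123, 131, 115, 130, 123, 123], [124, 133, 132, 116, 131, 124, 124, 124], [125, 117, 125, 133, 125, 125, 125, 125], [134, 126, 118, 132, 126, 126, 126, 126], [119, 127, 134, 127, 127, 127, 127, 127], [128, 128, 128, 128, 128, 135, 120, 121], [129, 129, 129, 129, 136, 121, 122, 135], [130, 130, 130, 137, 122, 123, 136, 130], [131, 139, 138, 123, 124, 137, 131, 131], [140, 141, 124, 126, 138, 132, 132, 132], [133, 124, 141, 125, 139, 133, 133, 133], [126, 134, 127, 140, 134, 134, 134, 134], [135, 135, 135, 135, 142, 128, 135, 129], [136, 136, 136, 143, 129, 136, 130, 142],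 [137, 145, 144, 130, 137, 131, 143, 137], [146, 147, 131, 138, 132, 144, 138, 138], [139, 131, 147, 139, 133, 145, 139, 139], [132, 148, 140, 134, 146, 140, 140, 140], [148, 132, 133, 141, 147, 141, 141, 141], [142, 142, 142, 149, 135, 142, 142, 136], [143, 151, 150, 136, 143, 143, 137, 149], [152, 153, 137, 144, 144, 138, 150, 144], [145, 137, 153, 145, 145, 139, 151, 145], [138, 154, 146, 146, 140, 152, 146, 146], [154, 138, 139, 155, 141, 153, 147, 147], [141, 140, 148, 148, 154, 148, 148, 148], [149, 157, 156, 142, 149, 149, 149, 143], [158, 159, 143, 150, 150, 150, 144, 156], [151, 143, 159, 151, 151, 151, 145, 157], [144, 160, 152, 152, 152, 146, 158, 152], [160, 144, 145, 161, 153, 147, 159, 153], [147, 146, 154, 162, 148, 160, 154, 154],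 [162, 155, 155, 147, 155, 161, 155, 155], [163, 164, 149, 156, 156, 156, 156, 150], [157, 149, 164, 157, 157, 157, 157, 151], [150, 165, 158, 158, 158, 158, 152, 163], [165, 150, 151, 166, 159, 159, 153, 164], [153, 152, 160, 167, 160, 154, 165, 160], [167, 161, 161, 153, 168, 155, 166, 161], [155, 162, 169, 154, 162, 167, 162, 162], [156, 170, 163, 163, 163, 163, 163, 158], [170, 156, 157, 171, 164, 164, 164, 159], [159, 158, 165, 172, 165, 165, 160, 170], [172, 166, 166, 159, 173, 166, 161, 171], [161, 167, 174, 160, 175, 162, 172, 167], [175, 168, 168, 168, 161, 168, 173, 168], [169, 169, 162, 169, 169, 174, 169, 169], [164, 163, 170, 176, 170, 170, 170, 165], [176, 171, 171, 164, 177, 171, 171, 166], [166, 172, 178, 165, 179, 172, 167, 176],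 [179, 173, 173, 173, 166, 180, 168, 177], [174, 174, 167, 174, 181, 169, 178, 174], [168, 175, 181, 175, 167, 175, 179, 175], [171, 176, 182, 170, 183, 176, 176, 172], [183, 177, 177, 177, 171, 184, 177, 173], [178, 178, 172, 178, 185, 178, 174, 182], [173, 179, 185, 179, 172, 186, 175, 183]]

def levE8_7_Tc3 : List (List ℕ) :=
  [[186, 180, 180, 180, 180, 173, 180, 184], [181, 181, 175, 187, 174, 181, 185, 181], [182, 182, 176, 182, 188, 182, 182, 178], [177, 183, 188, 183, 176, 189, 183, 179], [189, 184, 184, 184, 184, 177, 190, 180], [185, 185, 179, 191, 178, 192, 181, 188], [180, 186, 192, 186, 186, 179, 186, 189], [187, 193, 187, 181, 187, 187, 191, 187], [188, 188, 183, 194, 182, 195, 188, 185], [184, 189, 195, 189, 189, 183, 196, 186],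 [196, 190, 190, 190, 190, 190, 184, 190], [191, 197, 191, 185, 191, 198, 187, 194], [192, 192, 186, 198, 192, 185, 192, 195], [193, 187, 193, 193, 193, 193, 197, 193], [194, 199, 194, 188, 194, 200, 194, 191], [195, 195, 189, 200, 195, 188, 201, 192], [190, 196, 201, 196, 196, 196, 189, 196], [197, 191, 197, 197, 197, 202, 193, 199], [198, 202, 198, 192, 203, 191, 198, 200], [199, 194, 199, 199, 199, 204, 199, 197], [200, 204, 200, 195, 205, 194, 206, 198], [201, 201, 196, 206, 201, 201, 195, 201], [202, 198, 202, 202, 207, 197, 202, 204], [203, 207, 203, 203, 198, 203, 203, 205], [204, 200, 204, 204, 208, 199, 209, 202], [205, 208, 205, 205, 200, 205, 210, 203], [206, 209, 206, 201, 210, 206, 200, 206], [207, 203, 207, 211, 202, 207, 207, 208],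 [208, 205, 208, 212, 204, 208, 213, 207], [209, 206, 209, 209, 213, 209, 204, 209], [210, 213, 210, 210, 206, 214, 205, 210], [211, 211, 215, 207, 211, 211, 211, 212], [212, 212, 216, 208, 212, 212, 217, 211], [213, 210, 213, 217, 209, 218, 208, 213], [214, 218, 214, 214, 214, 210, 214, 214], [219, 215, 211, 215, 215, 215, 215, 216], [220, 216, 212, 216, 216, 216, 221, 215], [217, 217, 221, 213, 217, 222, 212, 217], [218, 214, 218, 222, 218, 213, 218, 218], [215, 219, 219, 219, 219, 219, 219, 220], [216, 220, 220, 220, 220, 220, 223, 219], [223, 221, 217, 221, 221, 224, 216, 221], [222, 222, 224, 218, 225, 217, 222, 222], [221, 223, 223, 223, 223, 226, 220, 223], [226, 224, 222, 224, 227, 221, 224, 224], [225, 225, 227, 225, 222, 225, 225, 225],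 [224, 226, 226, 226, 228, 223, 226, 226], [228, 227, 225, 229, 224, 227, 227, 227], [227, 228, 228, 230, 226, 228, 228, 228], [230, 231, 229, 227, 229, 229, 229, 229], [229, 233, 232, 228, 230, 230, 230, 230], [233, 229, 231, 231, 231, 231, 231, 231], [232, 234, 230, 232, 232, 232, 232, 232], [231, 230, 234, 233, 233, 233, 233, 233], [234, 232, 233, 235, 234, 234, 234, 234], [235, 235, 235, 234, 236, 235, 235, 235], [236, 236, 236, 236, 235, 237, 236, 236], [237, 237, 237, 237, 237, 236, 238, 237], [238, 238, 238, 238, 238, 238, 237, 239], [239, 239, 239, 239, 239, 239, 239, 238]]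

def levE8_7_T : List (List ℕ) :=
  levE8_7_Tc0 ++ levE8_7_Tc1 ++ levE8_7_Tc2 ++ levE8_7_Tc3

def levE8_7_repsc0 : List (List ℕ) :=
  [[], [7], [6, 7], [5, 6, 7], [4, 5, 6, 7], [3, 4, 5, 6, 7], [2, 3, 4, 5, 6, 7], [1, 3, 4, 5, 6, 7], [0, 2, 3, 4, 5, 6, 7], [1, 2, 3, 4, 5, 6, 7], [1, 0, 2, 3, 4, 5, 6, 7], [3, 1, 2, 3, 4, 5, 6, 7], [3, 1, 0, 2, 3, 4, 5, 6, 7], [4, 3, 1, 2, 3, 4, 5, 6, 7], [2, 3, 1, 0, 2, 3, 4, 5, 6, 7], [4, 3, 1, 0, 2, 3, 4, 5, 6, 7], [5, 4, 3, 1, 2, 3, 4, 5, 6, 7], [4, 2, 3, 1, 0, 2, 3, 4, 5, 6, 7], [5, 4, 3, 1, 0, 2, 3, 4, 5, 6, 7], [6, 5, 4, 3, 1, 2, 3, 4, 5, 6, 7], [3, 4, 2, 3, 1, 0, 2, 3, 4, 5, 6, 7], [5, 4, 2, 3, 1, 0, 2, 3, 4, 5, 6, 7], [6, 5, 4, 3, 1, 0, 2, 3, 4, 5, 6, 7], [7, 6, 5, 4, 3, 1, 2, 3, 4, 5, 6, 7], [1, 3, 4,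 2, 3, 1, 0, 2, 3, 4, 5, 6, 7], [5, 3, 4, 2, 3, 1, 0, 2, 3, 4, 5, 6, 7], [6, 5, 4, 2, 3, 1, 0, 2, 3, 4, 5, 6, 7], [7, 6, 5, 4, 3, 1, 0, 2, 3, 4, 5, 6, 7], [5, 1, 3, 4, 2, 3, 1, 0, 2, 3, 4, 5, 6, 7], [4, 5, 3, 4, 2, 3, 1, 0, 2, 3, 4, 5, 6, 7], [6, 5, 3, 4, 2, 3, 1, 0, 2, 3, 4, 5, 6, 7], [7, 6, 5, 4, 2, 3, 1, 0, 2, 3, 4, 5, 6, 7], [4, 5, 1, 3, 4, 2, 3, 1, 0, 2, 3, 4, 5, 6, 7], [6, 5, 1, 3, 4, 2, 3, 1, 0, 2, 3, 4, 5, 6, 7], [6, 4, 5, 3, 4, 2, 3, 1, 0, 2, 3, 4, 5, 6, 7], [7, 6, 5, 3, 4, 2, 3, 1, 0, 2, 3, 4, 5, 6, 7], [3, 4, 5, 1, 3, 4, 2, 3, 1, 0, 2, 3, 4, 5, 6, 7], [6, 4, 5, 1, 3, 4, 2, 3, 1, 0, 2, 3, 4, 5, 6, 7], [7, 6, 5, 1, 3, 4, 2, 3, 1, 0, 2, 3, 4, 5, 6, 7], [5, 6, 4, 5, 3, 4, 2, 3, 1, 0, 2, 3, 4, 5, 6, 7], [7, 6, 4, 5, 3, 4, 2, 3, 1, 0, 2,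 3, 4, 5, 6, 7], [2, 3, 4, 5, 1, 3, 4, 2, 3, 1, 0, 2, 3, 4, 5, 6, 7], [6, 3, 4, 5, 1, 3, 4, 2, 3, 1, 0, 2, 3, 4, 5, 6, 7], [5, 6, 4, 5, 1, 3, 4, 2, 3, 1, 0, 2, 3, 4, 5, 6, 7], [7, 6, 4, 5, 1, 3, 4, 2, 3, 1, 0, 2, 3, 4, 5, 6, 7], [7, 5, 6, 4, 5, 3, 4, 2, 3, 1, 0, 2, 3, 4, 5, 6, 7], [0, 2, 3, 4, 5, 1, 3, 4, 2, 3, 1, 0, 2, 3, 4, 5, 6, 7], [6, 2, 3, 4, 5, 1, 3, 4, 2, 3, 1, 0, 2, 3, 4, 5, 6, 7], [5, 6, 3, 4, 5, 1, 3, 4, 2, 3, 1, 0, 2, 3, 4, 5, 6, 7], [7, 6, 3, 4, 5, 1, 3, 4, 2, 3, 1, 0, 2, 3, 4, 5, 6, 7], [7, 5, 6, 4, 5, 1, 3, 4, 2, 3, 1, 0, 2, 3, 4, 5, 6, 7], [6, 7, 5, 6, 4, 5, 3, 4, 2, 3, 1, 0, 2, 3, 4, 5, 6, 7], [6, 0, 2, 3, 4, 5, 1, 3, 4, 2, 3, 1, 0, 2, 3, 4, 5, 6, 7], [5, 6, 2, 3, 4, 5, 1, 3, 4, 2, 3, 1, 0, 2, 3, 4, 5, 6, 7], [7, 6, 2, 3, 4, 5,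 1, 3, 4, 2, 3, 1, 0, 2, 3, 4, 5, 6, 7], [4, 5, 6, 3, 4, 5, 1, 3, 4, 2, 3, 1, 0, 2, 3, 4, 5, 6, 7], [7, 5, 6, 3, 4, 5, 1, 3, 4, 2, 3, 1, 0, 2, 3, 4, 5, 6, 7], [6, 7, 5, 6, 4, 5, 1, 3, 4, 2, 3, 1, 0, 2, 3, 4, 5, 6, 7], [5, 6, 0, 2, 3, 4, 5, 1, 3, 4, 2, 3, 1, 0, 2, 3, 4, 5, 6, 7], [7, 6, 0, 2, 3, 4, 5, 1, 3, 4, 2, 3, 1, 0, 2, 3, 4, 5, 6, 7]]

def levE8_7_repsc1 : List (List ℕ) :=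
  [[4, 5, 6, 2, 3, 4, 5, 1, 3, 4, 2, 3, 1, 0, 2, 3, 4, 5, 6, 7], [7, 5, 6, 2, 3, 4, 5, 1, 3, 4, 2, 3, 1, 0, 2, 3, 4, 5, 6, 7], [7, 4, 5, 6, 3, 4, 5, 1, 3, 4, 2, 3, 1, 0, 2, 3, 4, 5, 6, 7], [6, 7, 5, 6, 3, 4, 5, 1, 3, 4, 2, 3, 1, 0, 2, 3, 4, 5, 6, 7], [4, 5, 6, 0, 2, 3, 4, 5, 1, 3, 4, 2, 3, 1, 0, 2, 3, 4, 5, 6, 7], [7, 5, 6, 0, 2, 3, 4, 5, 1, 3, 4, 2, 3, 1, 0, 2, 3, 4, 5, 6, 7], [3, 4, 5, 6, 2, 3, 4, 5, 1, 3, 4, 2, 3, 1, 0, 2, 3, 4, 5, 6, 7], [7, 4, 5, 6, 2, 3, 4, 5, 1, 3, 4, 2, 3, 1, 0, 2, 3, 4, 5, 6, 7], [6, 7, 5, 6, 2, 3, 4, 5, 1, 3, 4, 2, 3, 1, 0, 2, 3, 4, 5, 6, 7], [6, 7, 4, 5, 6, 3, 4, 5, 1, 3, 4, 2, 3, 1, 0, 2, 3, 4, 5, 6, 7], [3, 4, 5, 6, 0, 2, 3, 4, 5, 1, 3, 4, 2, 3, 1, 0, 2, 3, 4, 5, 6, 7], [7, 4, 5, 6, 0, 2, 3, 4, 5, 1, 3, 4, 2, 3,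 1, 0, 2, 3, 4, 5, 6, 7], [6, 7, 5, 6, 0, 2, 3, 4, 5, 1, 3, 4, 2, 3, 1, 0, 2, 3, 4, 5, 6, 7], [1, 3, 4, 5, 6, 2, 3, 4, 5, 1, 3, 4, 2, 3, 1, 0, 2, 3, 4, 5, 6, 7], [7, 3, 4, 5, 6, 2, 3, 4, 5, 1, 3, 4, 2, 3, 1, 0, 2, 3, 4, 5, 6, 7], [6, 7, 4, 5, 6, 2, 3, 4, 5, 1, 3, 4, 2, 3, 1, 0, 2, 3, 4, 5, 6, 7], [5, 6, 7, 4, 5, 6, 3, 4, 5, 1, 3, 4, 2, 3, 1, 0, 2, 3, 4, 5, 6, 7], [2, 3, 4, 5, 6, 0, 2, 3, 4, 5, 1, 3, 4, 2, 3, 1, 0, 2, 3, 4, 5, 6, 7], [1, 3, 4, 5, 6, 0, 2, 3, 4, 5, 1, 3, 4, 2, 3, 1, 0, 2, 3, 4, 5, 6, 7], [7, 3, 4, 5, 6, 0, 2, 3, 4, 5, 1, 3, 4, 2, 3, 1, 0, 2, 3, 4, 5, 6, 7], [6, 7, 4, 5, 6, 0, 2, 3, 4, 5, 1, 3, 4, 2, 3, 1, 0, 2, 3, 4, 5, 6, 7], [7, 1, 3, 4, 5, 6, 2, 3, 4, 5, 1, 3, 4, 2, 3, 1, 0, 2, 3, 4, 5, 6, 7], [6, 7, 3, 4, 5, 6, 2, 3, 4, 5, 1,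 3, 4, 2, 3, 1, 0, 2, 3, 4, 5, 6, 7], [5, 6, 7, 4, 5, 6, 2, 3, 4, 5, 1, 3, 4, 2, 3, 1, 0, 2, 3, 4, 5, 6, 7], [1, 2, 3, 4, 5, 6, 0, 2, 3, 4, 5, 1, 3, 4, 2, 3, 1, 0, 2, 3, 4, 5, 6, 7], [7, 2, 3, 4, 5, 6, 0, 2, 3, 4, 5, 1, 3, 4, 2, 3, 1, 0, 2, 3, 4, 5, 6, 7], [7, 1, 3, 4, 5, 6, 0, 2, 3, 4, 5, 1, 3, 4, 2, 3, 1, 0, 2, 3, 4, 5, 6, 7], [6, 7, 3, 4, 5, 6, 0, 2, 3, 4, 5, 1, 3, 4, 2, 3, 1, 0, 2, 3, 4, 5, 6, 7], [5, 6, 7, 4, 5, 6, 0, 2, 3, 4, 5, 1, 3, 4, 2, 3, 1, 0, 2, 3, 4, 5, 6, 7], [6, 7, 1, 3, 4, 5, 6, 2, 3, 4, 5, 1, 3, 4, 2, 3, 1, 0, 2, 3, 4, 5, 6, 7], [5, 6, 7, 3, 4, 5, 6, 2, 3, 4, 5, 1, 3, 4, 2, 3, 1, 0, 2, 3, 4, 5, 6, 7], [3, 1, 2, 3, 4, 5, 6, 0, 2, 3, 4, 5, 1, 3, 4, 2, 3, 1, 0, 2, 3, 4, 5, 6, 7], [7, 1, 2, 3, 4, 5, 6, 0, 2, 3, 4, 5, 1, 3, 4, 2,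 3, 1, 0, 2, 3, 4, 5, 6, 7], [6, 7, 2, 3, 4, 5, 6, 0, 2, 3, 4, 5, 1, 3, 4, 2, 3, 1, 0, 2, 3, 4, 5, 6, 7], [6, 7, 1, 3, 4, 5, 6, 0, 2, 3, 4, 5, 1, 3, 4, 2, 3, 1, 0, 2, 3, 4, 5, 6, 7], [5, 6, 7, 3, 4, 5, 6, 0, 2, 3, 4, 5, 1, 3, 4, 2, 3, 1, 0, 2, 3, 4, 5, 6, 7], [5, 6, 7, 1, 3, 4, 5, 6, 2, 3, 4, 5, 1, 3, 4, 2, 3, 1, 0, 2, 3, 4, 5, 6, 7], [4, 5, 6, 7, 3, 4, 5, 6, 2, 3, 4, 5, 1, 3, 4, 2, 3, 1, 0, 2, 3, 4, 5, 6, 7], [4, 3, 1, 2, 3, 4, 5, 6, 0, 2, 3, 4, 5, 1, 3, 4, 2, 3, 1, 0, 2, 3, 4, 5, 6, 7], [7, 3, 1, 2, 3, 4, 5, 6, 0, 2, 3, 4, 5, 1, 3, 4, 2, 3, 1, 0, 2, 3, 4, 5, 6, 7], [6, 7, 1, 2, 3, 4, 5, 6, 0, 2, 3, 4, 5, 1, 3, 4, 2, 3, 1, 0, 2, 3, 4, 5, 6, 7], [5, 6, 7, 2, 3, 4, 5, 6, 0, 2, 3, 4, 5, 1, 3, 4, 2, 3, 1, 0, 2, 3, 4, 5, 6, 7], [5, 6, 7, 1, 3, 4,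 5, 6, 0, 2, 3, 4, 5, 1, 3, 4, 2, 3, 1, 0, 2, 3, 4, 5, 6, 7], [4, 5, 6, 7, 3, 4, 5, 6, 0, 2, 3, 4, 5, 1, 3, 4, 2, 3, 1, 0, 2, 3, 4, 5, 6, 7], [4, 5, 6, 7, 1, 3, 4, 5, 6, 2, 3, 4, 5, 1, 3, 4, 2, 3, 1, 0, 2, 3, 4, 5, 6, 7], [5, 4, 3, 1, 2, 3, 4, 5, 6, 0, 2, 3, 4, 5, 1, 3, 4, 2, 3, 1, 0, 2, 3, 4, 5, 6, 7], [7, 4, 3, 1, 2, 3, 4, 5, 6, 0, 2, 3, 4, 5, 1, 3, 4, 2, 3, 1, 0, 2, 3, 4, 5, 6, 7], [6, 7, 3, 1, 2, 3, 4, 5, 6, 0, 2, 3, 4, 5, 1, 3, 4, 2, 3, 1, 0, 2, 3, 4, 5, 6, 7], [5, 6, 7, 1, 2, 3, 4, 5, 6, 0, 2, 3, 4, 5, 1, 3, 4, 2, 3, 1, 0, 2, 3, 4, 5, 6, 7], [4, 5, 6, 7, 2, 3, 4, 5, 6, 0, 2, 3, 4, 5, 1, 3, 4, 2, 3, 1, 0, 2, 3, 4, 5, 6, 7], [4, 5, 6, 7, 1, 3, 4, 5, 6, 0, 2, 3, 4, 5, 1, 3, 4, 2, 3, 1, 0, 2, 3, 4, 5, 6, 7], [3, 4, 5, 6, 7, 1, 3, 4, 5, 6, 2,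 3, 4, 5, 1, 3, 4, 2, 3, 1, 0, 2, 3, 4, 5, 6, 7], [6, 5, 4, 3, 1, 2, 3, 4, 5, 6, 0, 2, 3, 4, 5, 1, 3, 4, 2, 3, 1, 0, 2, 3, 4, 5, 6, 7], [7, 5, 4, 3, 1, 2, 3, 4, 5, 6, 0, 2, 3, 4, 5, 1, 3, 4, 2, 3, 1, 0, 2, 3, 4, 5, 6, 7], [6, 7, 4, 3, 1, 2, 3, 4, 5, 6, 0, 2, 3, 4, 5, 1, 3, 4, 2, 3, 1, 0, 2, 3, 4, 5, 6, 7], [5, 6, 7, 3, 1, 2, 3, 4, 5, 6, 0, 2, 3, 4, 5, 1, 3, 4, 2, 3, 1, 0, 2, 3, 4, 5, 6, 7], [4, 5, 6, 7, 1, 2, 3, 4, 5, 6, 0, 2, 3, 4, 5, 1, 3, 4, 2, 3, 1, 0, 2, 3, 4, 5, 6, 7], [3, 4, 5, 6, 7, 2, 3, 4, 5, 6, 0, 2, 3, 4, 5, 1, 3, 4, 2, 3, 1, 0, 2, 3, 4, 5, 6, 7], [3, 4, 5, 6, 7, 1, 3, 4, 5, 6, 0, 2, 3, 4, 5, 1, 3, 4, 2, 3, 1, 0, 2, 3, 4, 5, 6, 7], [2, 3, 4, 5, 6, 7, 1, 3, 4, 5, 6, 2, 3, 4, 5, 1, 3, 4, 2, 3, 1, 0, 2, 3, 4, 5, 6, 7]]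

def levE8_7_repsc2 : List (List ℕ) :=
  [[7, 6, 5, 4, 3, 1, 2, 3, 4, 5, 6, 0, 2, 3, 4, 5, 1, 3, 4, 2, 3, 1, 0, 2, 3, 4, 5, 6, 7], [6, 7, 5, 4, 3, 1, 2, 3, 4, 5, 6, 0, 2, 3, 4, 5, 1, 3, 4, 2, 3, 1, 0, 2, 3, 4, 5, 6, 7], [5, 6, 7, 4, 3, 1, 2, 3, 4, 5, 6, 0, 2, 3, 4, 5, 1, 3, 4, 2, 3, 1, 0, 2, 3, 4, 5, 6, 7], [4, 5, 6, 7, 3, 1, 2, 3, 4, 5, 6, 0, 2, 3, 4, 5, 1, 3, 4, 2, 3, 1, 0, 2, 3, 4, 5, 6, 7], [3, 4, 5, 6, 7, 1, 2, 3, 4, 5, 6, 0, 2, 3, 4, 5, 1, 3, 4, 2, 3, 1, 0, 2, 3, 4, 5, 6, 7], [1, 3, 4, 5, 6, 7, 2, 3, 4, 5, 6, 0, 2, 3, 4, 5, 1, 3, 4, 2, 3, 1, 0, 2, 3, 4, 5, 6, 7], [2, 3, 4, 5, 6, 7, 1, 3, 4, 5, 6, 0, 2, 3, 4, 5, 1, 3, 4, 2, 3, 1, 0, 2, 3, 4, 5, 6, 7], [0, 2, 3, 4, 5, 6, 7, 1, 3, 4, 5, 6, 2, 3, 4, 5, 1, 3, 4, 2, 3, 1, 0, 2, 3, 4, 5, 6, 7],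 [6, 7, 6, 5, 4, 3, 1, 2, 3, 4, 5, 6, 0, 2, 3, 4, 5, 1, 3, 4, 2, 3, 1, 0, 2, 3, 4, 5, 6, 7], [5, 6, 7, 5, 4, 3, 1, 2, 3, 4, 5, 6, 0, 2, 3, 4, 5, 1, 3, 4, 2, 3, 1, 0, 2, 3, 4, 5, 6, 7], [4, 5, 6, 7, 4, 3, 1, 2, 3, 4, 5, 6, 0, 2, 3, 4, 5, 1, 3, 4, 2, 3, 1, 0, 2, 3, 4, 5, 6, 7], [3, 4, 5, 6, 7, 3, 1, 2, 3, 4, 5, 6, 0, 2, 3, 4, 5, 1, 3, 4, 2, 3, 1, 0, 2, 3, 4, 5, 6, 7], [2, 3, 4, 5, 6, 7, 1, 2, 3, 4, 5, 6, 0, 2, 3, 4, 5, 1, 3, 4, 2, 3, 1, 0, 2, 3, 4, 5, 6, 7], [1, 3, 4, 5, 6, 7, 1, 2, 3, 4, 5, 6, 0, 2, 3, 4, 5, 1, 3, 4, 2, 3, 1, 0, 2, 3, 4, 5, 6, 7], [0, 2, 3, 4, 5, 6, 7, 1, 3, 4, 5, 6, 0, 2, 3, 4, 5, 1, 3, 4, 2, 3, 1, 0, 2, 3, 4, 5, 6, 7], [5, 6, 7, 6, 5, 4, 3, 1, 2, 3, 4, 5, 6, 0, 2, 3, 4, 5, 1, 3, 4, 2, 3, 1, 0, 2, 3, 4, 5, 6, 7], [4, 5, 6, 7,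 5, 4, 3, 1, 2, 3, 4, 5, 6, 0, 2, 3, 4, 5, 1, 3, 4, 2, 3, 1, 0, 2, 3, 4, 5, 6, 7], [3, 4, 5, 6, 7, 4, 3, 1, 2, 3, 4, 5, 6, 0, 2, 3, 4, 5, 1, 3, 4, 2, 3, 1, 0, 2, 3, 4, 5, 6, 7], [2, 3, 4, 5, 6, 7, 3, 1, 2, 3, 4, 5, 6, 0, 2, 3, 4, 5, 1, 3, 4, 2, 3, 1, 0, 2, 3, 4, 5, 6, 7], [1, 3, 4, 5, 6, 7, 3, 1, 2, 3, 4, 5, 6, 0, 2, 3, 4, 5, 1, 3, 4, 2, 3, 1, 0, 2, 3, 4, 5, 6, 7], [0, 2, 3, 4, 5, 6, 7, 1, 2, 3, 4, 5, 6, 0, 2, 3, 4, 5, 1, 3, 4, 2, 3, 1, 0, 2, 3, 4, 5, 6, 7], [1, 2, 3, 4, 5, 6, 7, 1, 2, 3, 4, 5, 6, 0, 2, 3, 4, 5, 1, 3, 4, 2, 3, 1, 0, 2, 3, 4, 5, 6, 7], [4, 5, 6, 7, 6, 5, 4, 3, 1, 2, 3, 4, 5, 6, 0, 2, 3, 4, 5, 1, 3, 4, 2, 3, 1, 0, 2, 3, 4, 5, 6, 7], [3, 4, 5, 6, 7, 5, 4, 3, 1, 2, 3, 4, 5, 6, 0, 2, 3, 4, 5, 1, 3, 4, 2, 3, 1, 0, 2, 3, 4, 5, 6, 7],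 [2, 3, 4, 5, 6, 7, 4, 3, 1, 2, 3, 4, 5, 6, 0, 2, 3, 4, 5, 1, 3, 4, 2, 3, 1, 0, 2, 3, 4, 5, 6, 7], [1, 3, 4, 5, 6, 7, 4, 3, 1, 2, 3, 4, 5, 6, 0, 2, 3, 4, 5, 1, 3, 4, 2, 3, 1, 0, 2, 3, 4, 5, 6, 7], [0, 2, 3, 4, 5, 6, 7, 3, 1, 2, 3, 4, 5, 6, 0, 2, 3, 4, 5, 1, 3, 4, 2, 3, 1, 0, 2, 3, 4, 5, 6, 7], [1, 2, 3, 4, 5, 6, 7, 3, 1, 2, 3, 4, 5, 6, 0, 2, 3, 4, 5, 1, 3, 4, 2, 3, 1, 0, 2, 3, 4, 5, 6, 7], [1, 0, 2, 3, 4, 5, 6, 7, 1, 2, 3, 4, 5, 6, 0, 2, 3, 4, 5, 1, 3, 4, 2, 3, 1, 0, 2, 3, 4, 5, 6, 7], [3, 4, 5, 6, 7, 6, 5, 4, 3, 1, 2, 3, 4, 5, 6, 0, 2, 3, 4, 5, 1, 3, 4, 2, 3, 1, 0, 2, 3, 4, 5, 6, 7], [2, 3, 4, 5, 6, 7, 5, 4, 3, 1, 2, 3, 4, 5, 6, 0, 2, 3, 4, 5, 1, 3, 4, 2, 3, 1, 0, 2, 3, 4, 5, 6, 7], [1, 3, 4, 5, 6, 7, 5, 4, 3, 1, 2, 3, 4, 5, 6, 0, 2, 3, 4, 5,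 1, 3, 4, 2, 3, 1, 0, 2, 3, 4, 5, 6, 7], [0, 2, 3, 4, 5, 6, 7, 4, 3, 1, 2, 3, 4, 5, 6, 0, 2, 3, 4, 5, 1, 3, 4, 2, 3, 1, 0, 2, 3, 4, 5, 6, 7], [1, 2, 3, 4, 5, 6, 7, 4, 3, 1, 2, 3, 4, 5, 6, 0, 2, 3, 4, 5, 1, 3, 4, 2, 3, 1, 0, 2, 3, 4, 5, 6, 7], [1, 0, 2, 3, 4, 5, 6, 7, 3, 1, 2, 3, 4, 5, 6, 0, 2, 3, 4, 5, 1, 3, 4, 2, 3, 1, 0, 2, 3, 4, 5, 6, 7], [3, 1, 2, 3, 4, 5, 6, 7, 3, 1, 2, 3, 4, 5, 6, 0, 2, 3, 4, 5, 1, 3, 4, 2, 3, 1, 0, 2, 3, 4, 5, 6, 7], [2, 3, 4, 5, 6, 7, 6, 5, 4, 3, 1, 2, 3, 4, 5, 6, 0, 2, 3, 4, 5, 1, 3, 4, 2, 3, 1, 0, 2, 3, 4, 5, 6, 7], [1, 3, 4, 5, 6, 7, 6, 5, 4, 3, 1, 2, 3, 4, 5, 6, 0, 2, 3, 4, 5, 1, 3, 4, 2, 3, 1, 0, 2, 3, 4, 5, 6, 7], [0, 2, 3, 4, 5, 6, 7, 5, 4, 3, 1, 2, 3, 4, 5, 6, 0, 2, 3, 4, 5, 1, 3, 4, 2, 3, 1, 0, 2, 3, 4, 5, 6,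 7], [1, 2, 3, 4, 5, 6, 7, 5, 4, 3, 1, 2, 3, 4, 5, 6, 0, 2, 3, 4, 5, 1, 3, 4, 2, 3, 1, 0, 2, 3, 4, 5, 6, 7], [1, 0, 2, 3, 4, 5, 6, 7, 4, 3, 1, 2, 3, 4, 5, 6, 0, 2, 3, 4, 5, 1, 3, 4, 2, 3, 1, 0, 2, 3, 4, 5, 6, 7], [3, 1, 2, 3, 4, 5, 6, 7, 4, 3, 1, 2, 3, 4, 5, 6, 0, 2, 3, 4, 5, 1, 3, 4, 2, 3, 1, 0, 2, 3, 4, 5, 6, 7], [3, 1, 0, 2, 3, 4, 5, 6, 7, 3, 1, 2, 3, 4, 5, 6, 0, 2, 3, 4, 5, 1, 3, 4, 2, 3, 1, 0, 2, 3, 4, 5, 6, 7], [0, 2, 3, 4, 5, 6, 7, 6, 5, 4, 3, 1, 2, 3, 4, 5, 6, 0, 2, 3, 4, 5, 1, 3, 4, 2, 3, 1, 0, 2, 3, 4, 5, 6, 7], [1, 2, 3, 4, 5, 6, 7, 6, 5, 4, 3, 1, 2, 3, 4, 5, 6, 0, 2, 3, 4, 5, 1, 3, 4, 2, 3, 1, 0, 2, 3, 4, 5, 6, 7], [1, 0, 2, 3, 4, 5, 6, 7, 5, 4, 3, 1, 2, 3, 4, 5, 6, 0, 2, 3, 4, 5, 1, 3, 4, 2, 3, 1, 0, 2, 3, 4, 5, 6, 7], [3, 1, 2, 3,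 4, 5, 6, 7, 5, 4, 3, 1, 2, 3, 4, 5, 6, 0, 2, 3, 4, 5, 1, 3, 4, 2, 3, 1, 0, 2, 3, 4, 5, 6, 7], [3, 1, 0, 2, 3, 4, 5, 6, 7, 4, 3, 1, 2, 3, 4, 5, 6, 0, 2, 3, 4, 5, 1, 3, 4, 2, 3, 1, 0, 2, 3, 4, 5, 6, 7], [4, 3, 1, 2, 3, 4, 5, 6, 7, 4, 3, 1, 2, 3, 4, 5, 6, 0, 2, 3, 4, 5, 1, 3, 4, 2, 3, 1, 0, 2, 3, 4, 5, 6, 7], [2, 3, 1, 0, 2, 3, 4, 5, 6, 7, 3, 1, 2, 3, 4, 5, 6, 0, 2, 3, 4, 5, 1, 3, 4, 2, 3, 1, 0, 2, 3, 4, 5, 6, 7], [1, 0, 2, 3, 4, 5, 6, 7, 6, 5, 4, 3, 1, 2, 3, 4, 5, 6, 0, 2, 3, 4, 5, 1, 3, 4, 2, 3, 1, 0, 2, 3, 4, 5, 6, 7], [3, 1, 2, 3, 4, 5, 6, 7, 6, 5, 4, 3, 1, 2, 3, 4, 5, 6, 0, 2, 3, 4, 5, 1, 3, 4, 2, 3, 1, 0, 2, 3, 4, 5, 6, 7], [3, 1, 0, 2, 3, 4, 5, 6, 7, 5, 4, 3, 1, 2, 3, 4, 5, 6, 0, 2, 3, 4, 5, 1, 3, 4, 2, 3, 1, 0, 2, 3, 4, 5, 6, 7], [4, 3,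 1, 2, 3, 4, 5, 6, 7, 5, 4, 3, 1, 2, 3, 4, 5, 6, 0, 2, 3, 4, 5, 1, 3, 4, 2, 3, 1, 0, 2, 3, 4, 5, 6, 7], [2, 3, 1, 0, 2, 3, 4, 5, 6, 7, 4, 3, 1, 2, 3, 4, 5, 6, 0, 2, 3, 4, 5, 1, 3, 4, 2, 3, 1, 0, 2, 3, 4, 5, 6, 7], [4, 3, 1, 0, 2, 3, 4, 5, 6, 7, 4, 3, 1, 2, 3, 4, 5, 6, 0, 2, 3, 4, 5, 1, 3, 4, 2, 3, 1, 0, 2, 3, 4, 5, 6, 7], [3, 1, 0, 2, 3, 4, 5, 6, 7, 6, 5, 4, 3, 1, 2, 3, 4, 5, 6, 0, 2, 3, 4, 5, 1, 3, 4, 2, 3, 1, 0, 2, 3, 4, 5, 6, 7], [4, 3, 1, 2, 3, 4, 5, 6, 7, 6, 5, 4, 3, 1, 2, 3, 4, 5, 6, 0, 2, 3, 4, 5, 1, 3, 4, 2, 3, 1, 0, 2, 3, 4, 5, 6, 7], [2, 3, 1, 0, 2, 3, 4, 5, 6, 7, 5, 4, 3, 1, 2, 3, 4, 5, 6, 0, 2, 3, 4, 5, 1, 3, 4, 2, 3, 1, 0, 2, 3, 4, 5, 6, 7], [4, 3, 1, 0, 2, 3, 4, 5, 6, 7, 5, 4, 3, 1, 2, 3, 4, 5, 6, 0, 2, 3, 4, 5, 1, 3, 4, 2, 3, 1,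 0, 2, 3, 4, 5, 6, 7]]

def levE8_7_repsc3 : List (List ℕ) :=
  [[5, 4, 3, 1, 2, 3, 4, 5, 6, 7, 5, 4, 3, 1, 2, 3, 4, 5, 6, 0, 2, 3, 4, 5, 1, 3, 4, 2, 3, 1, 0, 2, 3, 4, 5, 6, 7], [4, 2, 3, 1, 0, 2, 3, 4, 5, 6, 7, 4, 3, 1, 2, 3, 4, 5, 6, 0, 2, 3, 4, 5, 1, 3, 4, 2, 3, 1, 0, 2, 3, 4, 5, 6, 7], [2, 3, 1, 0, 2, 3, 4, 5, 6, 7, 6, 5, 4, 3, 1, 2, 3, 4, 5, 6, 0, 2, 3, 4, 5, 1, 3, 4, 2, 3, 1, 0, 2, 3, 4, 5, 6, 7], [4, 3, 1, 0, 2, 3, 4, 5, 6, 7, 6, 5, 4, 3, 1, 2, 3, 4, 5, 6, 0, 2, 3, 4, 5, 1, 3, 4, 2, 3, 1, 0, 2, 3, 4, 5, 6, 7], [5, 4, 3, 1, 2, 3, 4, 5, 6, 7, 6, 5, 4, 3, 1, 2, 3, 4, 5, 6, 0, 2, 3, 4, 5, 1, 3, 4, 2, 3, 1, 0, 2, 3, 4, 5, 6, 7], [4, 2, 3, 1, 0, 2, 3, 4, 5, 6, 7, 5, 4, 3, 1, 2, 3, 4, 5, 6, 0, 2, 3, 4, 5, 1, 3, 4, 2, 3, 1, 0, 2, 3, 4, 5, 6, 7],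 [5, 4, 3, 1, 0, 2, 3, 4, 5, 6, 7, 5, 4, 3, 1, 2, 3, 4, 5, 6, 0, 2, 3, 4, 5, 1, 3, 4, 2, 3, 1, 0, 2, 3, 4, 5, 6, 7], [3, 4, 2, 3, 1, 0, 2, 3, 4, 5, 6, 7, 4, 3, 1, 2, 3, 4, 5, 6, 0, 2, 3, 4, 5, 1, 3, 4, 2, 3, 1, 0, 2, 3, 4, 5, 6, 7], [4, 2, 3, 1, 0, 2, 3, 4, 5, 6, 7, 6, 5, 4, 3, 1, 2, 3, 4, 5, 6, 0, 2, 3, 4, 5, 1, 3, 4, 2, 3, 1, 0, 2, 3, 4, 5, 6, 7], [5, 4, 3, 1, 0, 2, 3, 4, 5, 6, 7, 6, 5, 4, 3, 1, 2, 3, 4, 5, 6, 0, 2, 3, 4, 5, 1, 3, 4, 2, 3, 1, 0, 2, 3, 4, 5, 6, 7], [6, 5, 4, 3, 1, 2, 3, 4, 5, 6, 7, 6, 5, 4, 3, 1, 2, 3, 4, 5, 6, 0, 2, 3, 4, 5, 1, 3, 4, 2, 3, 1, 0, 2, 3, 4, 5, 6, 7], [3, 4, 2, 3, 1, 0, 2, 3, 4, 5, 6, 7, 5, 4, 3, 1, 2, 3, 4, 5, 6, 0, 2, 3, 4, 5, 1, 3, 4, 2, 3, 1, 0, 2, 3, 4, 5, 6, 7], [5, 4, 2, 3, 1, 0, 2, 3, 4, 5, 6, 7, 5, 4, 3,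 1, 2, 3, 4, 5, 6, 0, 2, 3, 4, 5, 1, 3, 4, 2, 3, 1, 0, 2, 3, 4, 5, 6, 7], [1, 3, 4, 2, 3, 1, 0, 2, 3, 4, 5, 6, 7, 4, 3, 1, 2, 3, 4, 5, 6, 0, 2, 3, 4, 5, 1, 3, 4, 2, 3, 1, 0, 2, 3, 4, 5, 6, 7], [3, 4, 2, 3, 1, 0, 2, 3, 4, 5, 6, 7, 6, 5, 4, 3, 1, 2, 3, 4, 5, 6, 0, 2, 3, 4, 5, 1, 3, 4, 2, 3, 1, 0, 2, 3, 4, 5, 6, 7], [5, 4, 2, 3, 1, 0, 2, 3, 4, 5, 6, 7, 6, 5, 4, 3, 1, 2, 3, 4, 5, 6, 0, 2, 3, 4, 5, 1, 3, 4, 2, 3, 1, 0, 2, 3, 4, 5, 6, 7], [6, 5, 4, 3, 1, 0, 2, 3, 4, 5, 6, 7, 6, 5, 4, 3, 1, 2, 3, 4, 5, 6, 0, 2, 3, 4, 5, 1, 3, 4, 2, 3, 1, 0, 2, 3, 4, 5, 6, 7], [1, 3, 4, 2, 3, 1, 0, 2, 3, 4, 5, 6, 7, 5, 4, 3, 1, 2, 3, 4, 5, 6, 0, 2, 3, 4, 5, 1, 3, 4, 2, 3, 1, 0, 2, 3, 4, 5, 6, 7], [5, 3, 4, 2, 3, 1, 0, 2, 3, 4, 5, 6, 7, 5, 4, 3, 1, 2, 3, 4, 5, 6, 0, 2,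 3, 4, 5, 1, 3, 4, 2, 3, 1, 0, 2, 3, 4, 5, 6, 7], [1, 3, 4, 2, 3, 1, 0, 2, 3, 4, 5, 6, 7, 6, 5, 4, 3, 1, 2, 3, 4, 5, 6, 0, 2, 3, 4, 5, 1, 3, 4, 2, 3, 1, 0, 2, 3, 4, 5, 6, 7], [5, 3, 4, 2, 3, 1, 0, 2, 3, 4, 5, 6, 7, 6, 5, 4, 3, 1, 2, 3, 4, 5, 6, 0, 2, 3, 4, 5, 1, 3, 4, 2, 3, 1, 0, 2, 3, 4, 5, 6, 7], [6, 5, 4, 2, 3, 1, 0, 2, 3, 4, 5, 6, 7, 6, 5, 4, 3, 1, 2, 3, 4, 5, 6, 0, 2, 3, 4, 5, 1, 3, 4, 2, 3, 1, 0, 2, 3, 4, 5, 6, 7], [5, 1, 3, 4, 2, 3, 1, 0, 2, 3, 4, 5, 6, 7, 5, 4, 3, 1, 2, 3, 4, 5, 6, 0, 2, 3, 4, 5, 1, 3, 4, 2, 3, 1, 0, 2, 3, 4, 5, 6, 7], [4, 5, 3, 4, 2, 3, 1, 0, 2, 3, 4, 5, 6, 7, 5, 4, 3, 1, 2, 3, 4, 5, 6, 0, 2, 3, 4, 5, 1, 3, 4, 2, 3, 1, 0, 2, 3, 4, 5, 6, 7], [5, 1, 3, 4, 2, 3, 1, 0, 2, 3, 4, 5, 6, 7, 6, 5, 4, 3, 1, 2, 3, 4, 5, 6, 0, 2,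 3, 4, 5, 1, 3, 4, 2, 3, 1, 0, 2, 3, 4, 5, 6, 7], [4, 5, 3, 4, 2, 3, 1, 0, 2, 3, 4, 5, 6, 7, 6, 5, 4, 3, 1, 2, 3, 4, 5, 6, 0, 2, 3, 4, 5, 1, 3, 4, 2, 3, 1, 0, 2, 3, 4, 5, 6, 7], [6, 5, 3, 4, 2, 3, 1, 0, 2, 3, 4, 5, 6, 7, 6, 5, 4, 3, 1, 2, 3, 4, 5, 6, 0, 2, 3, 4, 5, 1, 3, 4, 2, 3, 1, 0, 2, 3, 4, 5, 6, 7], [4, 5, 1, 3, 4, 2, 3, 1, 0, 2, 3, 4, 5, 6, 7, 5, 4, 3, 1, 2, 3, 4, 5, 6, 0, 2, 3, 4, 5, 1, 3, 4, 2, 3, 1, 0, 2, 3, 4, 5, 6, 7], [4, 5, 1, 3, 4, 2, 3, 1, 0, 2, 3, 4, 5, 6, 7, 6, 5, 4, 3, 1, 2, 3, 4, 5, 6, 0, 2, 3, 4, 5, 1, 3, 4, 2, 3, 1, 0, 2, 3, 4, 5, 6, 7], [6, 5, 1, 3, 4, 2, 3, 1, 0, 2, 3, 4, 5, 6, 7, 6, 5, 4, 3, 1, 2, 3, 4, 5, 6, 0, 2, 3, 4, 5, 1, 3, 4, 2, 3, 1, 0, 2, 3, 4, 5, 6, 7], [6, 4, 5, 3, 4, 2, 3, 1, 0, 2, 3, 4, 5, 6, 7, 6, 5, 4, 3,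 1, 2, 3, 4, 5, 6, 0, 2, 3, 4, 5, 1, 3, 4, 2, 3, 1, 0, 2, 3, 4, 5, 6, 7], [3, 4, 5, 1, 3, 4, 2, 3, 1, 0, 2, 3, 4, 5, 6, 7, 5, 4, 3, 1, 2, 3, 4, 5, 6, 0, 2, 3, 4, 5, 1, 3, 4, 2, 3, 1, 0, 2, 3, 4, 5, 6, 7], [3, 4, 5, 1, 3, 4, 2, 3, 1, 0, 2, 3, 4, 5, 6, 7, 6, 5, 4, 3, 1, 2, 3, 4, 5, 6, 0, 2, 3, 4, 5, 1, 3, 4, 2, 3, 1, 0, 2, 3, 4, 5, 6, 7], [6, 4, 5, 1, 3, 4, 2, 3, 1, 0, 2, 3, 4, 5, 6, 7, 6, 5, 4, 3, 1, 2, 3, 4, 5, 6, 0, 2, 3, 4, 5, 1, 3, 4, 2, 3, 1, 0, 2, 3, 4, 5, 6, 7], [5, 6, 4, 5, 3, 4, 2, 3, 1, 0, 2, 3, 4, 5, 6, 7, 6, 5, 4, 3, 1, 2, 3, 4, 5, 6, 0, 2, 3, 4, 5, 1, 3, 4, 2, 3, 1, 0, 2, 3, 4, 5, 6, 7], [2, 3, 4, 5, 1, 3, 4, 2, 3, 1, 0, 2, 3, 4, 5, 6, 7, 5, 4, 3, 1, 2, 3, 4, 5, 6, 0, 2, 3, 4, 5, 1, 3, 4, 2, 3, 1, 0, 2, 3, 4, 5, 6, 7], [2, 3, 4, 5,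 1, 3, 4, 2, 3, 1, 0, 2, 3, 4, 5, 6, 7, 6, 5, 4, 3, 1, 2, 3, 4, 5, 6, 0, 2, 3, 4, 5, 1, 3, 4, 2, 3, 1, 0, 2, 3, 4, 5, 6, 7], [6, 3, 4, 5, 1, 3, 4, 2, 3, 1, 0, 2, 3, 4, 5, 6, 7, 6, 5, 4, 3, 1, 2, 3, 4, 5, 6, 0, 2, 3, 4, 5, 1, 3, 4, 2, 3, 1, 0, 2, 3, 4, 5, 6, 7], [5, 6, 4, 5, 1, 3, 4, 2, 3, 1, 0, 2, 3, 4, 5, 6, 7, 6, 5, 4, 3, 1, 2, 3, 4, 5, 6, 0, 2, 3, 4, 5, 1, 3, 4, 2, 3, 1, 0, 2, 3, 4, 5, 6, 7], [0, 2, 3, 4, 5, 1, 3, 4, 2, 3, 1, 0, 2, 3, 4, 5, 6, 7, 5, 4, 3, 1, 2, 3, 4, 5, 6, 0, 2, 3, 4, 5, 1, 3, 4, 2, 3, 1, 0, 2, 3, 4, 5, 6, 7], [0, 2, 3, 4, 5, 1, 3, 4, 2, 3, 1, 0, 2, 3, 4, 5, 6, 7, 6, 5, 4, 3, 1, 2, 3, 4, 5, 6, 0, 2, 3, 4, 5, 1, 3, 4, 2, 3, 1, 0, 2, 3, 4, 5, 6, 7], [6, 2, 3, 4, 5, 1, 3, 4, 2, 3, 1, 0, 2, 3, 4, 5, 6, 7, 6, 5, 4, 3, 1, 2, 3, 4,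 5, 6, 0, 2, 3, 4, 5, 1, 3, 4, 2, 3, 1, 0, 2, 3, 4, 5, 6, 7], [5, 6, 3, 4, 5, 1, 3, 4, 2, 3, 1, 0, 2, 3, 4, 5, 6, 7, 6, 5, 4, 3, 1, 2, 3, 4, 5, 6, 0, 2, 3, 4, 5, 1, 3, 4, 2, 3, 1, 0, 2, 3, 4, 5, 6, 7], [6, 0, 2, 3, 4, 5, 1, 3, 4, 2, 3, 1, 0, 2, 3, 4, 5, 6, 7, 6, 5, 4, 3, 1, 2, 3, 4, 5, 6, 0, 2, 3, 4, 5, 1, 3, 4, 2, 3, 1, 0, 2, 3, 4, 5, 6, 7], [5, 6, 2, 3, 4, 5, 1, 3, 4, 2, 3, 1, 0, 2, 3, 4, 5, 6, 7, 6, 5, 4, 3, 1, 2, 3, 4, 5, 6, 0, 2, 3, 4, 5, 1, 3, 4, 2, 3, 1, 0, 2, 3, 4, 5, 6, 7], [4, 5, 6, 3, 4, 5, 1, 3, 4, 2, 3, 1, 0, 2, 3, 4, 5, 6, 7, 6, 5, 4, 3, 1, 2, 3, 4, 5, 6, 0, 2, 3, 4, 5, 1, 3, 4, 2, 3, 1, 0, 2, 3, 4, 5, 6, 7], [5, 6, 0, 2, 3, 4, 5, 1, 3, 4, 2, 3, 1, 0, 2, 3, 4, 5, 6, 7, 6, 5, 4, 3, 1, 2, 3, 4, 5, 6, 0, 2, 3, 4, 5, 1, 3, 4, 2, 3, 1,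 0, 2, 3, 4, 5, 6, 7], [4, 5, 6, 2, 3, 4, 5, 1, 3, 4, 2, 3, 1, 0, 2, 3, 4, 5, 6, 7, 6, 5, 4, 3, 1, 2, 3, 4, 5, 6, 0, 2, 3, 4, 5, 1, 3, 4, 2, 3, 1, 0, 2, 3, 4, 5, 6, 7], [4, 5, 6, 0, 2, 3, 4, 5, 1, 3, 4, 2, 3, 1, 0, 2, 3, 4, 5, 6, 7, 6, 5, 4, 3, 1, 2, 3, 4, 5, 6, 0, 2, 3, 4, 5, 1, 3, 4, 2, 3, 1, 0, 2, 3, 4, 5, 6, 7], [3, 4, 5, 6, 2, 3, 4, 5, 1, 3, 4, 2, 3, 1, 0, 2, 3, 4, 5, 6, 7, 6, 5, 4, 3, 1, 2, 3, 4, 5, 6, 0, 2, 3, 4, 5, 1, 3, 4, 2, 3, 1, 0, 2, 3, 4, 5, 6, 7], [3, 4, 5, 6, 0, 2, 3, 4, 5, 1, 3, 4, 2, 3, 1, 0, 2, 3, 4, 5, 6, 7, 6, 5, 4, 3, 1, 2, 3, 4, 5, 6, 0, 2, 3, 4, 5, 1, 3, 4, 2, 3, 1, 0, 2, 3, 4, 5, 6, 7], [1, 3, 4, 5, 6, 2, 3, 4, 5, 1, 3, 4, 2, 3, 1, 0, 2, 3, 4, 5, 6, 7, 6, 5, 4, 3, 1, 2, 3, 4, 5, 6, 0, 2, 3, 4, 5, 1, 3, 4, 2, 3, 1, 0, 2,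 3, 4, 5, 6, 7], [2, 3, 4, 5, 6, 0, 2, 3, 4, 5, 1, 3, 4, 2, 3, 1, 0, 2, 3, 4, 5, 6, 7, 6, 5, 4, 3, 1, 2, 3, 4, 5, 6, 0, 2, 3, 4, 5, 1, 3, 4, 2, 3, 1, 0, 2, 3, 4, 5, 6, 7], [1, 3, 4, 5, 6, 0, 2, 3, 4, 5, 1, 3, 4, 2, 3, 1, 0, 2, 3, 4, 5, 6, 7, 6, 5, 4, 3, 1, 2, 3, 4, 5, 6, 0, 2, 3, 4, 5, 1, 3, 4, 2, 3, 1, 0, 2, 3, 4, 5, 6, 7], [1, 2, 3, 4, 5, 6, 0, 2, 3, 4, 5, 1, 3, 4, 2, 3, 1, 0, 2, 3, 4, 5, 6, 7, 6, 5, 4, 3, 1, 2, 3, 4, 5, 6, 0, 2, 3, 4, 5, 1, 3, 4, 2, 3, 1, 0, 2, 3, 4, 5, 6, 7], [3, 1, 2, 3, 4, 5, 6, 0, 2, 3, 4, 5, 1, 3, 4, 2, 3, 1, 0, 2, 3, 4, 5, 6, 7, 6, 5, 4, 3, 1, 2, 3, 4, 5, 6, 0, 2, 3, 4, 5, 1, 3, 4, 2, 3, 1, 0, 2, 3, 4, 5, 6, 7], [4, 3, 1, 2, 3, 4, 5, 6, 0, 2, 3, 4, 5, 1, 3, 4, 2, 3, 1, 0, 2, 3, 4, 5, 6, 7, 6, 5, 4, 3, 1, 2, 3, 4, 5, 6,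 0, 2, 3, 4, 5, 1, 3, 4, 2, 3, 1, 0, 2, 3, 4, 5, 6, 7], [5, 4, 3, 1, 2, 3, 4, 5, 6, 0, 2, 3, 4, 5, 1, 3, 4, 2, 3, 1, 0, 2, 3, 4, 5, 6, 7, 6, 5, 4, 3, 1, 2, 3, 4, 5, 6, 0, 2, 3, 4, 5, 1, 3, 4, 2, 3, 1, 0, 2, 3, 4, 5, 6, 7], [6, 5, 4, 3, 1, 2, 3, 4, 5, 6, 0, 2, 3, 4, 5, 1, 3, 4, 2, 3, 1, 0, 2, 3, 4, 5, 6, 7, 6, 5, 4, 3, 1, 2, 3, 4, 5, 6, 0, 2, 3, 4, 5, 1, 3, 4, 2, 3, 1, 0, 2, 3, 4, 5, 6, 7], [7, 6, 5, 4, 3, 1, 2, 3, 4, 5, 6, 0, 2, 3, 4, 5, 1, 3, 4, 2, 3, 1, 0, 2, 3, 4, 5, 6, 7, 6, 5, 4, 3, 1, 2, 3, 4, 5, 6, 0, 2, 3, 4, 5, 1, 3, 4, 2, 3, 1, 0, 2, 3, 4, 5, 6, 7]]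

def levE8_7_reps : List (List ℕ) :=
  levE8_7_repsc0 ++ levE8_7_repsc1 ++ levE8_7_repsc2 ++ levE8_7_repsc3

def levE8_7_dedsc0 : List (ℕ × ℕ × ℕ) :=
  [(0, 0, 1), (0, 2, 1), (0, 3, 1), (0, 1, 1), (0, 4, 1), (0, 5, 1), (0, 6, 1), (0, 7, 0), (1, 6, 0), (2, 5, 0), (3, 4, 0), (4, 3, 0), (5, 2, 0), (5, 1, 0), (6, 0, 0), (6, 1, 0), (8, 1, 0), (9, 3, 0), (10, 3, 0), (11, 4, 0), (12, 2, 0), (12, 4, 0), (13, 5, 0), (14, 4, 0), (15, 5, 0), (16, 6, 0), (17, 3, 0), (17, 5, 0), (18, 6, 0), (19, 7, 0), (20, 1, 0), (20, 5, 0), (21, 6, 0), (22, 7, 0), (24, 5, 0), (25, 4, 0), (25, 6, 0), (26, 7, 0), (28, 4, 0), (28, 6, 0), (29, 6, 0), (30, 7, 0), (32, 3, 0), (32, 6, 0), (33, 7, 0), (34, 5, 0), (34, 7, 0), (36, 2, 0), (36, 6, 0), (37, 5, 0), (37, 7, 0), (39,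 7, 0), (41, 0, 0), (41, 6, 0), (42, 5, 0), (42, 7, 0), (43, 7, 0), (45, 6, 0), (46, 6, 0), (47, 5, 0), (47, 7, 0), (48, 4, 0), (48, 7, 0), (50, 6, 0), (52, 5, 0), (52, 7, 0), (53, 4, 0), (53, 7, 0), (55, 7, 0), (56, 6, 0), (58, 4, 0), (58, 7, 0), (60, 3, 0), (60, 7, 0), (61, 6, 0), (62, 6, 0), (64, 3, 0), (64, 7, 0), (65, 6, 0), (66, 1, 0), (66, 7, 0), (67, 6, 0), (69, 5, 0), (70, 2, 0), (70, 1, 0), (70, 7, 0), (71, 6, 0), (73, 7, 0), (74, 6, 0), (75, 5, 0), (77, 1, 0), (77, 7, 0), (78, 7, 0), (79, 6, 0), (80, 5, 0), (81, 6, 0), (82, 5, 0), (84, 3, 0), (84, 7, 0), (85, 6, 0)]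

def levE8_7_dedsc1 : List (ℕ × ℕ × ℕ) :=
  [(86, 6, 0), (87, 5, 0), (89, 5, 0), (90, 4, 0), (91, 4, 0), (91, 7, 0), (92, 6, 0), (93, 5, 0), (94, 5, 0), (95, 4, 0), (96, 4, 0), (98, 5, 0), (98, 7, 0), (99, 6, 0), (100, 5, 0), (101, 4, 0), (102, 4, 0), (104, 3, 0), (105, 6, 0), (105, 7, 0), (106, 6, 0), (107, 5, 0), (108, 4, 0), (109, 3, 0), (110, 3, 0), (111, 2, 0), (112, 7, 0), (113, 6, 0), (114, 5, 0), (115, 4, 0), (116, 3, 0), (117, 1, 0), (118, 2, 0), (119, 0, 0), (120, 6, 0), (121, 5, 0), (122, 4, 0), (123, 3, 0), (124, 2, 0), (124, 1, 0), (126, 0, 0), (128, 5, 0), (129, 4, 0), (130, 3, 0), (131, 2, 0), (131, 1, 0), (132, 0, 0), (132, 1, 0), (135, 4, 0), (136, 3, 0), (137, 2, 0), (137, 1, 0), (138, 0, 0), (138, 1, 0), (140, 1, 0), (142,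 3, 0), (143, 2, 0), (143, 1, 0), (144, 0, 0), (144, 1, 0), (146, 1, 0), (147, 3, 0), (149, 2, 0), (149, 1, 0), (150, 0, 0), (150, 1, 0), (152, 1, 0), (153, 3, 0), (154, 3, 0), (156, 0, 0), (156, 1, 0), (158, 1, 0), (159, 3, 0), (160, 3, 0), (161, 4, 0), (162, 2, 0), (163, 1, 0), (164, 3, 0), (165, 3, 0), (166, 4, 0), (167, 2, 0), (167, 4, 0), (170, 3, 0), (171, 4, 0), (172, 2, 0), (172, 4, 0), (173, 5, 0), (174, 4, 0), (176, 2, 0), (176, 4, 0), (177, 5, 0), (178, 4, 0), (179, 5, 0), (181, 3, 0), (182, 4, 0), (183, 5, 0), (184, 6, 0), (185, 3, 0), (185, 5, 0), (187, 1, 0)]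

def levE8_7_dedsc2 : List (ℕ × ℕ × ℕ) :=
  [(188, 3, 0), (188, 5, 0), (189, 6, 0), (191, 1, 0), (191, 5, 0), (194, 1, 0), (194, 5, 0), (195, 6, 0), (197, 5, 0), (198, 4, 0), (199, 5, 0), (200, 4, 0), (200, 6, 0), (202, 4, 0), (204, 4, 0), (204, 6, 0), (205, 6, 0), (207, 3, 0), (208, 3, 0), (208, 6, 0), (210, 5, 0), (211, 2, 0), (212, 2, 0), (212, 6, 0), (213, 5, 0), (215, 0, 0), (216, 0, 0), (216, 6, 0), (217, 5, 0), (220, 6, 0), (221, 5, 0), (222, 4, 0), (223, 5, 0), (224, 4, 0), (226, 4, 0), (227, 3, 0), (228, 3, 0), (229, 1, 0), (230, 2, 0), (230, 1, 0), (232, 1, 0), (234, 3, 0), (235, 4, 0), (236, 5, 0), (237, 6, 0), (238, 7, 0), (1, 0, 8), (1, 1, 15), (1, 2, 22), (1, 3, 29), (1, 4, 36), (1, 5, 43), (2, 0, 7), (2, 1, 14), (2, 2, 21), (2,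 3, 28), (2, 4, 35), (2, 7, 57), (3, 0, 6), (3, 1, 13), (3, 2, 20), (3, 3, 27), (3, 6, 49), (3, 7, 56), (4, 0, 5), (4, 1, 12), (4, 2, 19), (4, 5, 41), (4, 6, 48), (4, 7, 55), (5, 0, 4), (5, 4, 33), (5, 5, 40), (5, 6, 47), (5, 7, 54), (6, 3, 25), (6, 4, 32), (6, 5, 39), (6, 6, 46), (6, 7, 53), (7, 0, 2), (7, 2, 17), (7, 3, 24), (7, 4, 31), (7, 5, 38), (7, 6, 45), (7, 7, 52), (8, 2, 16), (8, 3, 23), (8, 4, 30), (8, 5, 37), (8, 6, 44), (8, 7, 51), (9, 0, 2), (9, 4, 31), (9, 5, 38), (9, 6, 45), (9, 7, 52), (10, 2, 16), (10, 4, 30)]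

def levE8_7_dedsc3 : List (ℕ × ℕ × ℕ) :=
  [(10, 5, 37), (10, 6, 44), (10, 7, 51), (11, 0, 4), (11, 1, 11), (11, 2, 18), (11, 5, 40), (11, 6, 47), (11, 7, 54), (12, 1, 9), (12, 5, 37), (12, 6, 44), (12, 7, 51), (13, 0, 5), (13, 1, 12), (13, 2, 19), (13, 3, 26), (13, 6, 48), (13, 7, 55), (14, 0, 3), (14, 1, 10), (14, 3, 25), (14, 5, 39), (14, 6, 46), (14, 7, 53), (15, 1, 9), (15, 2, 19), (15, 3, 23), (15, 6, 44), (15, 7, 51), (16, 0, 6), (16, 1, 13), (16, 2, 20), (16, 3, 27), (16, 4, 34), (16, 7, 56), (17, 0, 3), (17, 1, 10), (17, 6, 46), (17, 7, 53), (18, 1, 9), (18, 2, 20), (18, 3, 23), (18, 4, 30), (18, 7, 51), (19, 0, 7), (19, 1, 14), (19, 2, 21), (19, 3, 28), (19, 4, 35), (19, 5, 42), (20, 0, 4), (20, 2, 18), (20, 4, 33), (20, 6, 47), (20,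 7, 54), (21, 0, 3), (21, 1, 10), (21, 3, 27), (21, 4, 32), (21, 7, 53), (22, 1, 9), (22, 2, 21), (22, 3, 23), (22, 4, 30), (22, 5, 37), (23, 0, 8), (23, 1, 15), (23, 2, 22), (23, 3, 29), (23, 4, 36), (23, 5, 43), (23, 6, 50), (24, 0, 2), (24, 2, 17), (24, 3, 24), (24, 4, 31), (24, 6, 45), (24, 7, 52), (25, 0, 4), (25, 1, 13), (25, 2, 18), (25, 7, 54), (26, 0, 3), (26, 1, 10), (26, 3, 28), (26, 4, 32), (26, 5, 39), (27, 1, 9), (27, 2, 22), (27, 3, 23), (27, 4, 30), (27, 5, 37), (27, 6, 44), (28, 0, 2), (28, 2, 17), (28, 3, 24), (28, 7, 52), (29, 0, 5), (29, 1, 12)]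

def levE8_7_dedsc4 : List (ℕ × ℕ × ℕ) :=
  [(29, 2, 19), (29, 3, 26), (29, 5, 41), (29, 7, 55), (30, 0, 4), (30, 1, 14), (30, 2, 18), (30, 4, 35), (30, 5, 40), (31, 0, 3), (31, 1, 10), (31, 3, 29), (31, 4, 32), (31, 5, 39), (31, 6, 46), (32, 0, 2), (32, 2, 17), (32, 5, 38), (32, 7, 52), (33, 0, 2), (33, 2, 17), (33, 3, 24), (33, 4, 35), (33, 5, 38), (34, 0, 5), (34, 1, 12), (34, 2, 19), (34, 3, 26), (35, 0, 4), (35, 1, 15), (35, 2, 18), (35, 4, 36), (35, 5, 40), (35, 6, 47), (36, 0, 4), (36, 1, 11), (36, 4, 33), (36, 5, 40), (36, 7, 54), (37, 0, 2), (37, 2, 17), (37, 3, 28), (38, 0, 2), (38, 2, 17), (38, 3, 24), (38, 4, 36), (38, 5, 38), (38, 6, 45), (39, 0, 6), (39, 1, 13), (39, 2, 20), (39, 3, 27), (39, 4, 34), (39, 6, 49), (40, 0, 5), (40,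 1, 12), (40, 2, 19), (40, 3, 26), (40, 5, 43), (40, 6, 48), (41, 1, 10), (41, 3, 25), (41, 4, 32), (41, 5, 39), (41, 7, 53), (42, 0, 4), (42, 1, 11), (42, 2, 21), (42, 4, 33), (43, 0, 2), (43, 2, 17), (43, 3, 27), (43, 4, 31), (43, 6, 45), (44, 0, 2), (44, 2, 17), (44, 3, 29), (44, 5, 43), (44, 6, 45), (45, 0, 6), (45, 1, 13), (45, 2, 20), (45, 3, 27), (45, 4, 34), (46, 1, 9), (46, 2, 16), (46, 3, 23), (46, 4, 30), (46, 5, 37), (46, 7, 51), (47, 0, 7), (47, 1, 10), (47, 3, 25), (47, 4, 32), (48, 0, 4), (48, 1, 11), (48, 2, 20), (48, 6, 47), (49, 0, 4), (49, 1, 11)]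

def levE8_7_dedsc5 : List (ℕ × ℕ × ℕ) :=
  [(49, 2, 22), (49, 4, 33), (49, 5, 43), (49, 6, 47), (50, 0, 2), (50, 2, 17), (50, 3, 27), (50, 4, 31), (51, 0, 7), (51, 1, 14), (51, 2, 21), (51, 3, 28), (51, 4, 35), (51, 5, 42), (51, 7, 57), (52, 1, 9), (52, 2, 16), (52, 3, 23), (52, 4, 30), (53, 0, 6), (53, 1, 10), (53, 3, 25), (53, 6, 46), (54, 0, 8), (54, 1, 10), (54, 3, 25), (54, 4, 32), (54, 5, 43), (54, 6, 46), (55, 0, 5), (55, 1, 12), (55, 2, 19), (55, 3, 26), (55, 5, 41), (55, 6, 48), (56, 0, 4), (56, 1, 11), (56, 2, 20), (56, 4, 36), (57, 0, 2), (57, 2, 17), (57, 3, 28), (57, 4, 31), (57, 5, 38), (57, 7, 52), (58, 1, 9), (58, 2, 16), (58, 3, 23), (58, 6, 44), (59, 1, 9), (59, 2, 16), (59, 3, 23), (59, 4, 30), (59, 5, 43), (59, 6, 44), (60,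 0, 5), (60, 1, 10), (60, 5, 39), (60, 6, 46), (61, 0, 6), (61, 1, 10), (61, 3, 25), (61, 4, 36), (62, 0, 5), (62, 1, 12), (62, 2, 19), (62, 3, 26), (62, 5, 41), (63, 0, 4), (63, 1, 11), (63, 2, 21), (63, 4, 35), (63, 5, 40), (63, 7, 54), (64, 1, 9), (64, 2, 16), (64, 5, 37), (64, 6, 44), (65, 1, 9), (65, 2, 16), (65, 3, 23), (65, 4, 36), (66, 0, 4), (66, 2, 18), (66, 4, 33), (66, 5, 40), (66, 6, 47), (67, 0, 5), (67, 1, 10), (67, 3, 29), (67, 5, 39), (68, 0, 7), (68, 1, 10), (68, 3, 25), (68, 4, 35), (68, 5, 39), (68, 7, 53), (69, 0, 5), (69, 1, 12), (69, 2, 19)]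

def levE8_7_dedsc6 : List (ℕ × ℕ × ℕ) :=
  [(69, 3, 26), (69, 7, 55), (70, 4, 30), (70, 5, 37), (70, 6, 44), (71, 1, 9), (71, 2, 16), (71, 3, 29), (71, 5, 37), (72, 1, 9), (72, 2, 16), (72, 3, 23), (72, 4, 35), (72, 5, 37), (72, 7, 51), (73, 0, 2), (73, 2, 17), (73, 3, 24), (73, 4, 31), (73, 5, 38), (73, 6, 45), (74, 0, 4), (74, 1, 15), (74, 2, 18), (74, 4, 33), (74, 5, 40), (75, 0, 5), (75, 1, 10), (75, 3, 28), (75, 7, 53), (76, 0, 6), (76, 1, 13), (76, 2, 20), (76, 3, 27), (76, 4, 34), (76, 6, 49), (76, 7, 56), (77, 0, 3), (77, 3, 25), (77, 4, 32), (77, 5, 39), (77, 6, 46), (78, 2, 17), (78, 3, 23), (78, 4, 30), (78, 5, 37), (78, 6, 44), (79, 1, 15), (79, 2, 22), (79, 4, 30), (79, 5, 37), (80, 1, 9), (80, 2, 16), (80, 3, 28), (80, 7, 51),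 (81, 0, 2), (81, 2, 17), (81, 3, 24), (81, 4, 31), (81, 5, 38), (82, 0, 4), (82, 1, 14), (82, 2, 18), (82, 4, 33), (82, 7, 54), (83, 0, 6), (83, 1, 10), (83, 3, 27), (83, 4, 32), (83, 6, 46), (83, 7, 53), (84, 0, 2), (84, 4, 31), (84, 5, 38), (84, 6, 45), (85, 0, 3), (85, 1, 15), (85, 3, 25), (85, 4, 32), (85, 5, 39), (86, 2, 17), (86, 3, 23), (86, 4, 30), (86, 5, 37), (87, 1, 14), (87, 2, 21), (87, 4, 30), (87, 7, 51), (88, 1, 9), (88, 2, 16), (88, 3, 27), (88, 4, 30), (88, 6, 44), (88, 7, 51), (89, 0, 2), (89, 2, 17), (89, 3, 24), (89, 4, 31), (89, 7, 52), (90, 0, 4)]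

def levE8_7_dedsc7 : List (ℕ × ℕ × ℕ) :=
  [(90, 1, 13), (90, 2, 18), (90, 6, 47), (90, 7, 54), (91, 0, 4), (91, 1, 11), (91, 2, 18), (91, 5, 40), (91, 6, 47), (92, 0, 2), (92, 3, 29), (92, 4, 31), (92, 5, 38), (93, 0, 3), (93, 1, 14), (93, 3, 25), (93, 4, 32), (93, 7, 53), (94, 2, 17), (94, 3, 23), (94, 4, 30), (94, 7, 51), (95, 1, 13), (95, 2, 20), (95, 6, 44), (95, 7, 51), (96, 0, 2), (96, 2, 17), (96, 3, 24), (96, 6, 45), (96, 7, 52), (97, 0, 5), (97, 1, 12), (97, 2, 19), (97, 3, 26), (97, 5, 41), (97, 6, 48), (97, 7, 55), (98, 0, 5), (98, 1, 12), (98, 2, 19), (98, 3, 26), (98, 6, 48), (99, 0, 4), (99, 1, 11), (99, 2, 18), (99, 4, 36), (99, 5, 40), (100, 0, 2), (100, 3, 28), (100, 4, 31), (100, 7, 52), (101, 0, 3), (101, 1, 13), (101, 3,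 25), (101, 6, 46), (101, 7, 53), (102, 2, 17), (102, 3, 23), (102, 6, 44), (102, 7, 51), (103, 1, 12), (103, 2, 19), (103, 3, 23), (103, 5, 37), (103, 6, 44), (103, 7, 51), (104, 0, 2), (104, 2, 17), (104, 5, 38), (104, 6, 45), (104, 7, 52), (105, 0, 6), (105, 1, 13), (105, 2, 20), (105, 3, 27), (105, 4, 34), (106, 0, 5), (106, 1, 12), (106, 2, 19), (106, 3, 26), (106, 5, 43), (107, 0, 4), (107, 1, 11), (107, 2, 18), (107, 4, 35), (107, 7, 54), (108, 0, 2), (108, 3, 27), (108, 6, 45), (108, 7, 52), (109, 0, 3), (109, 1, 12), (109, 5, 39), (109, 6, 46), (109, 7, 53), (110, 2, 17), (110, 5, 37), (110, 6, 44), (110, 7, 51)]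

def levE8_7_dedsc8 : List (ℕ × ℕ × ℕ) :=
  [(111, 0, 4), (111, 1, 11), (111, 4, 33), (111, 5, 40), (111, 6, 47), (111, 7, 54), (112, 0, 7), (112, 1, 14), (112, 2, 21), (112, 3, 28), (112, 4, 35), (112, 5, 42), (113, 0, 6), (113, 1, 13), (113, 2, 20), (113, 3, 27), (113, 4, 34), (114, 0, 5), (114, 1, 12), (114, 2, 19), (114, 3, 26), (114, 7, 55), (115, 0, 4), (115, 1, 11), (115, 2, 18), (115, 6, 47), (115, 7, 54), (116, 0, 2), (116, 5, 38), (116, 6, 45), (116, 7, 52), (117, 0, 4), (117, 2, 18), (117, 4, 33), (117, 5, 40), (117, 6, 47), (117, 7, 54), (118, 1, 9), (118, 4, 30), (118, 5, 37), (118, 6, 44), (118, 7, 51), (119, 1, 10), (119, 3, 25), (119, 4, 32), (119, 5, 39), (119, 6, 46), (119, 7, 53), (120, 0, 8), (120, 1, 15), (120, 2, 22), (120,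 3, 29), (120, 4, 36), (120, 5, 43), (121, 0, 7), (121, 1, 14), (121, 2, 21), (121, 3, 28), (121, 4, 35), (121, 7, 57), (122, 0, 6), (122, 1, 13), (122, 2, 20), (122, 3, 27), (122, 6, 49), (122, 7, 56), (123, 0, 5), (123, 1, 12), (123, 2, 19), (123, 5, 41), (123, 6, 48), (123, 7, 55), (124, 0, 4), (124, 4, 33), (124, 5, 40), (124, 6, 47), (124, 7, 54), (125, 0, 2), (125, 2, 17), (125, 3, 24), (125, 4, 31), (125, 5, 38), (125, 6, 45), (125, 7, 52), (126, 1, 10), (126, 3, 25), (126, 4, 32), (126, 5, 39), (126, 6, 46), (126, 7, 53), (127, 1, 9), (127, 2, 16), (127, 3, 23), (127, 4, 30), (127, 5, 37), (127, 6, 44), (127, 7, 51), (128, 0, 7), (128, 1, 14), (128, 2, 21)]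

def levE8_7_dedsc9 : List (ℕ × ℕ × ℕ) :=
  [(128, 3, 28), (128, 4, 35), (129, 0, 6), (129, 1, 13), (129, 2, 20), (129, 3, 27), (129, 7, 56), (130, 0, 5), (130, 1, 12), (130, 2, 19), (130, 6, 48), (130, 7, 55), (131, 0, 4), (131, 5, 40), (131, 6, 47), (131, 7, 54), (132, 4, 32), (132, 5, 39), (132, 6, 46), (132, 7, 53), (133, 0, 2), (133, 2, 17), (133, 4, 31), (133, 5, 38), (133, 6, 45), (133, 7, 52), (134, 1, 9), (134, 3, 23), (134, 4, 30), (134, 5, 37), (134, 6, 44), (134, 7, 51), (135, 0, 6), (135, 1, 13), (135, 2, 20), (135, 3, 27), (135, 6, 49), (136, 0, 5), (136, 1, 12), (136, 2, 19), (136, 5, 41), (136, 7, 55), (137, 0, 4), (137, 4, 33), (137, 6, 47), (137, 7, 54), (138, 3, 25), (138, 5, 39), (138, 6, 46), (138, 7, 53), (139, 0, 2), (139,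 2, 17), (139, 3, 24), (139, 5, 38), (139, 6, 45), (139, 7, 52), (140, 2, 16), (140, 4, 30), (140, 5, 37), (140, 6, 44), (140, 7, 51), (141, 0, 2), (141, 3, 24), (141, 4, 31), (141, 5, 38), (141, 6, 45), (141, 7, 52), (142, 0, 5), (142, 1, 12), (142, 2, 19), (142, 5, 41), (142, 6, 48), (143, 0, 4), (143, 4, 33), (143, 5, 40), (143, 7, 54), (144, 3, 25), (144, 4, 32), (144, 6, 46), (144, 7, 53), (145, 0, 2), (145, 2, 17), (145, 3, 24), (145, 4, 31), (145, 6, 45), (145, 7, 52), (146, 2, 16), (146, 3, 23), (146, 5, 37), (146, 6, 44), (146, 7, 51), (147, 0, 2), (147, 5, 38), (147, 6, 45), (147, 7, 52), (148, 2, 16), (148, 3, 23), (148, 4, 30), (148, 5, 37), (148, 6, 44)]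

def levE8_7_dedsc10 : List (ℕ × ℕ × ℕ) :=
  [(148, 7, 51), (149, 0, 4), (149, 4, 33), (149, 5, 40), (149, 6, 47), (150, 3, 25), (150, 4, 32), (150, 5, 39), (150, 7, 53), (151, 0, 2), (151, 2, 17), (151, 3, 24), (151, 4, 31), (151, 5, 38), (151, 7, 52), (152, 2, 16), (152, 3, 23), (152, 4, 30), (152, 6, 44), (152, 7, 51), (153, 0, 2), (153, 4, 31), (153, 6, 45), (153, 7, 52), (154, 2, 16), (154, 5, 37), (154, 6, 44), (154, 7, 51), (155, 0, 4), (155, 1, 11), (155, 2, 18), (155, 4, 33), (155, 5, 40), (155, 6, 47), (155, 7, 54), (156, 3, 25), (156, 4, 32), (156, 5, 39), (156, 6, 46), (157, 0, 2), (157, 2, 17), (157, 3, 24), (157, 4, 31), (157, 5, 38), (157, 6, 45), (158, 2, 16), (158, 3, 23), (158, 4, 30), (158, 5, 37), (158, 7, 51), (159, 0, 2),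 (159, 4, 31), (159, 5, 38), (159, 7, 52), (160, 2, 16), (160, 4, 30), (160, 6, 44), (160, 7, 51), (161, 0, 4), (161, 1, 11), (161, 2, 18), (161, 6, 47), (161, 7, 54), (162, 1, 9), (162, 4, 30), (162, 5, 37), (162, 6, 44), (162, 7, 51), (163, 2, 16), (163, 3, 23), (163, 4, 30), (163, 5, 37), (163, 6, 44), (164, 0, 2), (164, 4, 31), (164, 5, 38), (164, 6, 45), (165, 2, 16), (165, 4, 30), (165, 5, 37), (165, 7, 51), (166, 0, 4), (166, 1, 11), (166, 2, 18), (166, 5, 40), (166, 7, 54), (167, 1, 9), (167, 6, 44), (167, 7, 51), (168, 0, 5), (168, 1, 12), (168, 2, 19), (168, 3, 26), (168, 5, 41), (168, 6, 48), (168, 7, 55), (169, 0, 3), (169, 1, 10), (169, 3, 25), (169, 4, 32)]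

def levE8_7_dedsc11 : List (ℕ × ℕ × ℕ) :=
  [(169, 5, 39), (169, 6, 46), (169, 7, 53), (170, 2, 16), (170, 4, 30), (170, 5, 37), (170, 6, 44), (171, 0, 4), (171, 1, 11), (171, 2, 18), (171, 5, 40), (171, 6, 47), (172, 1, 9), (172, 5, 37), (172, 7, 51), (173, 0, 5), (173, 1, 12), (173, 2, 19), (173, 3, 26), (173, 7, 55), (174, 0, 3), (174, 1, 10), (174, 3, 25), (174, 6, 46), (174, 7, 53), (175, 1, 9), (175, 2, 19), (175, 3, 23), (175, 5, 37), (175, 6, 44), (175, 7, 51), (176, 1, 9), (176, 5, 37), (176, 6, 44), (177, 0, 5), (177, 1, 12), (177, 2, 19), (177, 3, 26), (177, 6, 48), (178, 0, 3), (178, 1, 10), (178, 3, 25), (178, 5, 39), (178, 7, 53), (179, 1, 9), (179, 2, 19), (179, 3, 23), (179, 7, 51), (180, 0, 6), (180, 1, 13), (180, 2, 20), (180,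 3, 27), (180, 4, 34), (180, 6, 49), (180, 7, 56), (181, 0, 3), (181, 1, 10), (181, 5, 39), (181, 6, 46), (181, 7, 53), (182, 0, 3), (182, 1, 10), (182, 3, 25), (182, 5, 39), (182, 6, 46), (183, 1, 9), (183, 2, 19), (183, 3, 23), (183, 6, 44), (184, 0, 6), (184, 1, 13), (184, 2, 20), (184, 3, 27), (184, 4, 34), (185, 0, 3), (185, 1, 10), (185, 7, 53), (186, 1, 9), (186, 2, 20), (186, 3, 23), (186, 4, 30), (186, 6, 44), (186, 7, 51), (187, 0, 4), (187, 2, 18), (187, 4, 33), (187, 5, 40), (187, 6, 47), (187, 7, 54), (188, 0, 3), (188, 1, 10), (188, 6, 46), (189, 1, 9), (189, 2, 20), (189, 3, 23), (189, 4, 30), (190, 0, 7), (190, 1, 14), (190, 2, 21), (190, 3, 28)]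

def levE8_7_dedsc12 : List (ℕ × ℕ × ℕ) :=
  [(190, 4, 35), (190, 5, 42), (190, 7, 57), (191, 0, 4), (191, 2, 18), (191, 4, 33), (191, 7, 54), (192, 0, 3), (192, 1, 10), (192, 3, 27), (192, 4, 32), (192, 6, 46), (192, 7, 53), (193, 0, 2), (193, 2, 17), (193, 3, 24), (193, 4, 31), (193, 5, 38), (193, 6, 45), (193, 7, 52), (194, 0, 4), (194, 2, 18), (194, 4, 33), (194, 6, 47), (195, 0, 3), (195, 1, 10), (195, 3, 27), (195, 4, 32), (196, 1, 9), (196, 2, 21), (196, 3, 23), (196, 4, 30), (196, 5, 37), (196, 7, 51), (197, 0, 2), (197, 2, 17), (197, 3, 24), (197, 4, 31), (197, 7, 52), (198, 0, 4), (198, 1, 13), (198, 2, 18), (198, 6, 47), (198, 7, 54), (199, 0, 2), (199, 2, 17), (199, 3, 24), (199, 4, 31), (199, 6, 45), (200, 0, 4), (200, 1, 13), (200,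 2, 18), (201, 0, 3), (201, 1, 10), (201, 3, 28), (201, 4, 32), (201, 5, 39), (201, 7, 53), (202, 0, 2), (202, 2, 17), (202, 3, 24), (202, 6, 45), (202, 7, 52), (203, 0, 5), (203, 1, 12), (203, 2, 19), (203, 3, 26), (203, 5, 41), (203, 6, 48), (203, 7, 55), (204, 0, 2), (204, 2, 17), (204, 3, 24), (205, 0, 5), (205, 1, 12), (205, 2, 19), (205, 3, 26), (205, 5, 41), (206, 0, 4), (206, 1, 14), (206, 2, 18), (206, 4, 35), (206, 5, 40), (206, 7, 54), (207, 0, 2), (207, 2, 17), (207, 5, 38), (207, 6, 45), (207, 7, 52), (208, 0, 2), (208, 2, 17), (208, 5, 38), (209, 0, 2), (209, 2, 17), (209, 3, 24), (209, 4, 35), (209, 5, 38), (209, 7, 52), (210, 0, 5), (210, 1, 12)]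

def levE8_7_dedsc13 : List (ℕ × ℕ × ℕ) :=
  [(210, 2, 19), (210, 3, 26), (210, 7, 55), (211, 0, 4), (211, 1, 11), (211, 4, 33), (211, 5, 40), (211, 6, 47), (211, 7, 54), (212, 0, 4), (212, 1, 11), (212, 4, 33), (212, 5, 40), (213, 0, 2), (213, 2, 17), (213, 3, 28), (213, 7, 52), (214, 0, 6), (214, 1, 13), (214, 2, 20), (214, 3, 27), (214, 4, 34), (214, 6, 49), (214, 7, 56), (215, 1, 10), (215, 3, 25), (215, 4, 32), (215, 5, 39), (215, 6, 46), (215, 7, 53), (216, 1, 10), (216, 3, 25), (216, 4, 32), (216, 5, 39), (217, 0, 4), (217, 1, 11), (217, 2, 21), (217, 4, 33), (217, 7, 54), (218, 0, 2), (218, 2, 17), (218, 3, 27), (218, 4, 31), (218, 6, 45), (218, 7, 52), (219, 1, 9), (219, 2, 16), (219, 3, 23), (219, 4, 30), (219, 5, 37), (219, 6, 44),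 (219, 7, 51), (220, 1, 9), (220, 2, 16), (220, 3, 23), (220, 4, 30), (220, 5, 37), (221, 0, 7), (221, 1, 10), (221, 3, 25), (221, 4, 32), (221, 7, 53), (222, 0, 4), (222, 1, 11), (222, 2, 20), (222, 6, 47), (222, 7, 54), (223, 1, 9), (223, 2, 16), (223, 3, 23), (223, 4, 30), (223, 7, 51), (224, 0, 6), (224, 1, 10), (224, 3, 25), (224, 6, 46), (224, 7, 53), (225, 0, 5), (225, 1, 12), (225, 2, 19), (225, 3, 26), (225, 5, 41), (225, 6, 48), (225, 7, 55), (226, 1, 9), (226, 2, 16), (226, 3, 23), (226, 6, 44), (226, 7, 51), (227, 0, 5), (227, 1, 10), (227, 5, 39), (227, 6, 46), (227, 7, 53), (228, 1, 9), (228, 2, 16), (228, 5, 37), (228, 6, 44), (228, 7, 51), (229, 0, 4)]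

def levE8_7_dedsc14 : List (ℕ × ℕ × ℕ) :=
  [(229, 2, 18), (229, 4, 33), (229, 5, 40), (229, 6, 47), (229, 7, 54), (230, 4, 30), (230, 5, 37), (230, 6, 44), (230, 7, 51), (231, 0, 2), (231, 2, 17), (231, 3, 24), (231, 4, 31), (231, 5, 38), (231, 6, 45), (231, 7, 52), (232, 0, 3), (232, 3, 25), (232, 4, 32), (232, 5, 39), (232, 6, 46), (232, 7, 53), (233, 2, 17), (233, 3, 23), (233, 4, 30), (233, 5, 37), (233, 6, 44), (233, 7, 51), (234, 0, 2), (234, 4, 31), (234, 5, 38), (234, 6, 45), (234, 7, 52), (235, 0, 4), (235, 1, 11), (235, 2, 18), (235, 5, 40), (235, 6, 47), (235, 7, 54), (236, 0, 5), (236, 1, 12), (236, 2, 19), (236, 3, 26), (236, 6, 48), (236, 7, 55), (237, 0, 6), (237, 1, 13), (237, 2, 20), (237, 3, 27), (237, 4, 34), (237, 7, 56),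 (238, 0, 7), (238, 1, 14), (238, 2, 21), (238, 3, 28), (238, 4, 35), (238, 5, 42), (239, 0, 8), (239, 1, 15), (239, 2, 22), (239, 3, 29), (239, 4, 36), (239, 5, 43), (239, 6, 50)]

def levE8_7_deds : List (ℕ × ℕ × ℕ) :=
  levE8_7_dedsc0 ++ levE8_7_dedsc1 ++ levE8_7_dedsc2 ++ levE8_7_dedsc3 ++ levE8_7_dedsc4 ++ levE8_7_dedsc5 ++ levE8_7_dedsc6 ++ levE8_7_dedsc7 ++ levE8_7_dedsc8 ++ levE8_7_dedsc9 ++ levE8_7_dedsc10 ++ levE8_7_dedsc11 ++ levE8_7_dedsc12 ++ levE8_7_dedsc13 ++ levE8_7_dedsc14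

def levE8_7_ptsc0 : List (List ℤ) :=
  [[0, 0, 0, 0, 0, 0, 0, 1], [0, 0, 0, 0, 0, 0, 1, -1], [0, 0, 0, 0, 0, 1, -1, 0], [0, 0, 0, 0, 1, -1, 0, 0], [0, 0, 0, 1, -1, 0, 0, 0], [0, 1, 1, -1, 0, 0, 0, 0], [1, 1, -1, 0, 0, 0, 0, 0], [0, -1, 1, 0, 0, 0, 0, 0], [-1, 1, 0, 0, 0, 0, 0, 0], [1, -1, -1, 1, 0, 0, 0, 0], [-1, -1, 0, 1, 0, 0, 0, 0], [1, 0, 0, -1, 1, 0, 0, 0], [-1, 0, 1, -1, 1, 0, 0, 0], [1, 0, 0, 0, -1, 1, 0, 0], [0, 0, -1, 0, 1, 0, 0, 0], [-1, 0, 1, 0, -1, 1, 0, 0], [1, 0, 0, 0, 0, -1, 1, 0], [0, 0, -1, 1, -1, 1, 0, 0], [-1, 0, 1, 0, 0, -1, 1, 0], [1, 0, 0, 0, 0, 0, -1, 1], [0, 1, 0, -1, 0, 1, 0, 0], [0, 0, -1, 1, 0, -1, 1, 0], [-1, 0, 1, 0, 0, 0, -1, 1], [1, 0, 0, 0, 0, 0, 0, -1], [0, -1, 0, 0, 0, 1, 0, 0], [0, 1, 0, -1, 1, -1, 1, 0], [0,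 0, -1, 1, 0, 0, -1, 1], [-1, 0, 1, 0, 0, 0, 0, -1], [0, -1, 0, 0, 1, -1, 1, 0], [0, 1, 0, 0, -1, 0, 1, 0], [0, 1, 0, -1, 1, 0, -1, 1], [0, 0, -1, 1, 0, 0, 0, -1], [0, -1, 0, 1, -1, 0, 1, 0], [0, -1, 0, 0, 1, 0, -1, 1], [0, 1, 0, 0, -1, 1, -1, 1], [0, 1, 0, -1, 1, 0, 0, -1], [0, 0, 1, -1, 0, 0, 1, 0], [0, -1, 0, 1, -1, 1, -1, 1], [0, -1, 0, 0, 1, 0, 0, -1], [0, 1, 0, 0, 0, -1, 0, 1], [0, 1, 0, 0, -1, 1, 0, -1], [1, 0, -1, 0, 0, 0, 1, 0], [0, 0, 1, -1, 0, 1, -1, 1], [0, -1, 0, 1, 0, -1, 0, 1], [0, -1, 0, 1, -1, 1, 0, -1], [0, 1, 0, 0, 0, -1, 1, -1], [-1, 0, 0, 0, 0, 0, 1, 0], [1, 0, -1, 0, 0, 1, -1, 1], [0, 0, 1, -1, 1, -1, 0, 1], [0, 0, 1, -1, 0, 1, 0, -1], [0, -1, 0, 1, 0, -1, 1, -1], [0, 1, 0, 0, 0, 0, -1, 0], [-1, 0, 0, 0, 0, 1, -1, 1], [1,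 0, -1, 0, 1, -1, 0, 1], [1, 0, -1, 0, 0, 1, 0, -1], [0, 0, 1, 0, -1, 0, 0, 1], [0, 0, 1, -1, 1, -1, 1, -1], [0, -1, 0, 1, 0, 0, -1, 0], [-1, 0, 0, 0, 1, -1, 0, 1], [-1, 0, 0, 0, 0, 1, 0, -1]]

def levE8_7_ptsc1 : List (List ℤ) :=
  [[1, 0, -1, 1, -1, 0, 0, 1], [1, 0, -1, 0, 1, -1, 1, -1], [0, 0, 1, 0, -1, 0, 1, -1], [0, 0, 1, -1, 1, 0, -1, 0], [-1, 0, 0, 1, -1, 0, 0, 1], [-1, 0, 0, 0, 1, -1, 1, -1], [1, 1, 0, -1, 0, 0, 0, 1], [1, 0, -1, 1, -1, 0, 1, -1], [1, 0, -1, 0, 1, 0, -1, 0], [0, 0, 1, 0, -1, 1, -1, 0], [-1, 1, 1, -1, 0, 0, 0, 1], [-1, 0, 0, 1, -1, 0, 1, -1], [-1, 0, 0, 0, 1, 0, -1, 0], [1, -1, 0, 0, 0, 0, 0, 1], [1, 1, 0, -1, 0, 0, 1, -1], [1, 0, -1, 1, -1, 1, -1, 0], [0, 0, 1, 0, 0, -1, 0, 0], [0, 1, -1, 0, 0, 0, 0, 1], [-1, -1, 1, 0,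 0, 0, 0, 1], [-1, 1, 1, -1, 0, 0, 1, -1], [-1, 0, 0, 1, -1, 1, -1, 0], [1, -1, 0, 0, 0, 0, 1, -1], [1, 1, 0, -1, 0, 1, -1, 0], [1, 0, -1, 1, 0, -1, 0, 0], [0, -1, -1, 1, 0, 0, 0, 1], [0, 1, -1, 0, 0, 0, 1, -1], [-1, -1, 1, 0, 0, 0, 1, -1], [-1, 1, 1, -1, 0, 1, -1, 0], [-1, 0, 0, 1, 0, -1, 0, 0], [1, -1, 0, 0, 0, 1, -1, 0], [1, 1, 0, -1, 1, -1, 0, 0], [0, 0, 0, -1, 1, 0, 0, 1], [0, -1, -1, 1, 0, 0, 1, -1], [0, 1, -1, 0, 0, 1, -1, 0], [-1, -1, 1, 0, 0, 1, -1, 0], [-1, 1, 1, -1, 1, -1, 0, 0], [1, -1, 0, 0, 1, -1, 0, 0], [1, 1, 0, 0, -1, 0, 0, 0], [0, 0, 0, 0, -1, 1, 0, 1], [0, 0, 0, -1, 1, 0, 1, -1], [0, -1, -1, 1, 0, 1, -1, 0], [0, 1, -1, 0, 1, -1, 0, 0], [-1, -1, 1, 0, 1, -1, 0, 0], [-1, 1, 1, 0, -1, 0, 0, 0], [1, -1, 0, 1, -1, 0, 0, 0], [0, 0,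 0, 0, 0, -1, 1, 1], [0, 0, 0, 0, -1, 1, 1, -1], [0, 0, 0, -1, 1, 1, -1, 0], [0, -1, -1, 1, 1, -1, 0, 0], [0, 1, -1, 1, -1, 0, 0, 0], [-1, -1, 1, 1, -1, 0, 0, 0], [1, 0, 1, -1, 0, 0, 0, 0], [0, 0, 0, 0, 0, 0, -1, 2], [0, 0, 0, 0, 0, -1, 2, -1], [0, 0, 0, 0, -1, 2, -1, 0], [0, 0, 0, -1, 2, -1, 0, 0], [0, -1, -1, 2, -1, 0, 0, 0], [0, 2, 0, -1, 0, 0, 0, 0], [-1, 0, 2, -1, 0, 0, 0, 0], [2, 0, -1, 0, 0, 0, 0, 0]]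

def levE8_7_ptsc2 : List (List ℤ) :=
  [[0, 0, 0, 0, 0, 0, 1, -2], [0, 0, 0, 0, 0, 1, -2, 1], [0, 0, 0, 0, 1, -2, 1, 0], [0, 0, 0, 1, -2, 1, 0, 0], [0, 1, 1, -2, 1, 0, 0, 0], [0, -2, 0, 1, 0, 0, 0, 0], [1, 0, -2, 1, 0, 0, 0, 0], [-2, 0, 1, 0, 0, 0, 0, 0], [0, 0, 0, 0, 0, 1, -1, -1], [0, 0, 0, 0, 1, -1, -1, 1], [0, 0, 0, 1, -1, -1, 1, 0], [0, 1, 1, -1, -1, 1, 0, 0], [1, 1, -1, -1, 1, 0, 0, 0], [0, -1, 1, -1, 1, 0, 0, 0], [-1, 0, -1, 1, 0, 0, 0, 0], [0, 0, 0, 0, 1, -1, 0, -1], [0, 0, 0, 1, -1, 0, -1, 1], [0, 1, 1, -1, 0, -1, 1, 0], [1, 1, -1, 0, -1, 1, 0, 0], [0, -1, 1, 0, -1, 1, 0, 0], [-1, 1, 0, -1, 1, 0, 0, 0], [1, -1, -1, 0, 1, 0, 0, 0], [0, 0, 0, 1, -1, 0, 0, -1], [0, 1, 1, -1, 0, 0, -1, 1], [1, 1, -1, 0, 0, -1, 1, 0], [0, -1, 1, 0, 0, -1,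 1, 0], [-1, 1, 0, 0, -1, 1, 0, 0], [1, -1, -1, 1, -1, 1, 0, 0], [-1, -1, 0, 0, 1, 0, 0, 0], [0, 1, 1, -1, 0, 0, 0, -1], [1, 1, -1, 0, 0, 0, -1, 1], [0, -1, 1, 0, 0, 0, -1, 1], [-1, 1, 0, 0, 0, -1, 1, 0], [1, -1, -1, 1, 0, -1, 1, 0], [-1, -1, 0, 1, -1, 1, 0, 0], [1, 0, 0, -1, 0, 1, 0, 0], [1, 1, -1, 0, 0, 0, 0, -1], [0, -1, 1, 0, 0, 0, 0, -1], [-1, 1, 0, 0, 0, 0, -1, 1], [1, -1, -1, 1, 0, 0, -1, 1], [-1, -1, 0, 1, 0, -1, 1, 0], [1, 0, 0, -1, 1, -1, 1, 0], [-1, 0, 1, -1, 0, 1, 0, 0], [-1, 1, 0, 0, 0, 0, 0, -1], [1, -1, -1, 1, 0, 0, 0, -1], [-1, -1, 0, 1, 0, 0, -1, 1], [1, 0, 0, -1, 1, 0, -1, 1], [-1, 0, 1, -1, 1, -1, 1, 0], [1, 0, 0, 0, -1, 0, 1, 0], [0, 0, -1, 0, 0, 1, 0, 0], [-1, -1, 0, 1, 0, 0, 0, -1], [1, 0, 0, -1, 1, 0, 0, -1], [-1, 0, 1,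 -1, 1, 0, -1, 1], [1, 0, 0, 0, -1, 1, -1, 1], [0, 0, -1, 0, 1, -1, 1, 0], [-1, 0, 1, 0, -1, 0, 1, 0], [-1, 0, 1, -1, 1, 0, 0, -1], [1, 0, 0, 0, -1, 1, 0, -1], [0, 0, -1, 0, 1, 0, -1, 1], [-1, 0, 1, 0, -1, 1, -1, 1]]

def levE8_7_ptsc3 : List (List ℤ) :=
  [[1, 0, 0, 0, 0, -1, 0, 1], [0, 0, -1, 1, -1, 0, 1, 0], [0, 0, -1, 0, 1, 0, 0, -1], [-1, 0, 1, 0, -1, 1, 0, -1], [1, 0, 0, 0, 0, -1, 1, -1], [0, 0, -1, 1, -1, 1, -1, 1], [-1, 0, 1, 0, 0, -1, 0, 1], [0, 1, 0, -1, 0, 0, 1, 0], [0, 0, -1, 1, -1, 1, 0, -1], [-1, 0, 1, 0, 0, -1, 1, -1], [1, 0, 0, 0, 0, 0, -1, 0], [0, 1, 0, -1, 0, 1, -1, 1], [0, 0, -1, 1, 0, -1, 0, 1], [0, -1, 0, 0, 0, 0, 1, 0], [0, 1, 0, -1, 0, 1, 0, -1], [0, 0, -1, 1, 0, -1, 1, -1], [-1, 0, 1, 0, 0, 0, -1, 0], [0, -1, 0, 0, 0, 1,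 -1, 1], [0, 1, 0, -1, 1, -1, 0, 1], [0, -1, 0, 0, 0, 1, 0, -1], [0, 1, 0, -1, 1, -1, 1, -1], [0, 0, -1, 1, 0, 0, -1, 0], [0, -1, 0, 0, 1, -1, 0, 1], [0, 1, 0, 0, -1, 0, 0, 1], [0, -1, 0, 0, 1, -1, 1, -1], [0, 1, 0, 0, -1, 0, 1, -1], [0, 1, 0, -1, 1, 0, -1, 0], [0, -1, 0, 1, -1, 0, 0, 1], [0, -1, 0, 1, -1, 0, 1, -1], [0, -1, 0, 0, 1, 0, -1, 0], [0, 1, 0, 0, -1, 1, -1, 0], [0, 0, 1, -1, 0, 0, 0, 1], [0, 0, 1, -1, 0, 0, 1, -1], [0, -1, 0, 1, -1, 1, -1, 0], [0, 1, 0, 0, 0, -1, 0, 0], [1, 0, -1, 0, 0, 0, 0, 1], [1, 0, -1, 0, 0, 0, 1, -1], [0, 0, 1, -1, 0, 1, -1, 0], [0, -1, 0, 1, 0, -1, 0, 0], [-1, 0, 0, 0, 0, 0, 0, 1], [-1, 0, 0, 0, 0, 0, 1, -1], [1, 0, -1, 0, 0, 1, -1, 0], [0, 0, 1, -1, 1, -1, 0, 0], [-1, 0, 0, 0, 0, 1, -1, 0], [1, 0, -1, 0, 1,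 -1, 0, 0], [0, 0, 1, 0, -1, 0, 0, 0], [-1, 0, 0, 0, 1, -1, 0, 0], [1, 0, -1, 1, -1, 0, 0, 0], [-1, 0, 0, 1, -1, 0, 0, 0], [1, 1, 0, -1, 0, 0, 0, 0], [-1, 1, 1, -1, 0, 0, 0, 0], [1, -1, 0, 0, 0, 0, 0, 0], [0, 1, -1, 0, 0, 0, 0, 0], [-1, -1, 1, 0, 0, 0, 0, 0], [0, -1, -1, 1, 0, 0, 0, 0], [0, 0, 0, -1, 1, 0, 0, 0], [0, 0, 0, 0, -1, 1, 0, 0], [0, 0, 0, 0, 0, -1, 1, 0], [0, 0, 0, 0, 0, 0, -1, 1], [0, 0, 0, 0, 0, 0, 0, -1]]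

def levE8_7_pts : List (List ℤ) :=
  levE8_7_ptsc0 ++ levE8_7_ptsc1 ++ levE8_7_ptsc2 ++ levE8_7_ptsc3

/-- Level 7 of the chain for E8. -/
def levelE8_7 : Level where
  node := 7
  T := levE8_7_T
  reps := levE8_7_reps
  deds := levE8_7_deds
  pts := levE8_7_pts

/-- The certificate for type E8. -/
def certE8 : Cert 8 where
  A := [[2, 0, -1, 0, 0, 0, 0, 0], [0, 2, 0, -1, 0, 0, 0, 0], [-1, 0, 2, -1, 0, 0, 0, 0], [0, -1, -1, 2, -1, 0, 0, 0], [0, 0, 0, -1, 2, -1, 0, 0], [0, 0, 0, 0, -1, 2, -1, 0], [0, 0, 0, 0, 0, -1, 2, -1], [0, 0, 0, 0, 0, 0, -1, 2]]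
  levels := [levelE8_0, levelE8_1, levelE8_2, levelE8_3, levelE8_4, levelE8_5, levelE8_6, levelE8_7]

theorem certE8_good : certE8.Good CoxeterMatrix.E₈ where
  rels := by decide +kernel
  chain := by decide +kernel

end CfsgLib.Weyl
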