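import Cfsg.Agent.Weyl.CoxeterElement
import Cfsg.Agent.Weyl.DataB2
import Cfsg.Agent.Weyl.DataG2
import Cfsg.Agent.Weyl.DataD4
import Cfsg.Agent.Weyl.DataF4
import Cfsg.Agent.Weyl.DataE6
import Cfsg.Agent.Weyl.DataE7
import Cfsg.Agent.Weyl.DataE8

/-! Orders of the Coxeter elements of the exceptional types (generated trajectories). -/

namespace CfsgLib.Weyl

def coxBasisB2 : List (List (List ℤ)) :=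
  [[[1, 0], [-1, 1], [-1, 0], [1, -1], [1, 0]], [[0, 1], [-2, 1], [0, -1], [2, -1], [0, 1]]]

def coxFreeB2 : List (List ℤ) :=
  [[1, 1], [-3, 2], [-1, -1], [3, -2]]

theorem orderOf_coxeterB2 :
    orderOf ((List.finRange 2).map (CoxeterMatrix.B 2).simple).prod = 4 :=
  orderOf_coxeterElement certB2_good (h := 4) (basis := coxBasisB2) (free := coxFreeB2) (by decide +kernel)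

def coxBasisG2 : List (List (List ℤ)) :=
  [[[1, 0], [-1, 1], [-2, 1], [-1, 0], [1, -1], [2, -1], [1, 0]], [[0, 1], [-3, 2], [-3, 1], [0, -1], [3, -2], [3, -1], [0, 1]]]

def coxFreeG2 : List (List ℤ) :=
  [[1, 1], [-4, 3], [-5, 2], [-1, -1], [4, -3], [5, -2]]

theorem orderOf_coxeterG2 :
    orderOf ((List.finRange 2).map CoxeterMatrix.G₂.simple).prod = 6 :=
  orderOf_coxeterElement certG2_good (h := 6) (basis := coxBasisG2) (free := coxFreeG2) (by decide +kernel)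

def coxBasisD4 : List (List (List ℤ)) :=
  [[[1, 0, 0, 0], [-1, 1, 0, 0], [0, -1, 1, 1], [-1, 0, 0, 0], [1, -1, 0, 0], [0, 1, -1, -1], [1, 0, 0, 0]], [[0, 1, 0, 0], [-1, 0, 1, 1], [-1, -1, 1, 1], [0, -1, 0, 0], [1, 0, -1, -1], [1, 1, -1, -1], [0, 1, 0, 0]], [[0, 0, 1, 0], [-1, 0, 0, 1], [0, -1, 1, 0], [0, 0, -1, 0], [1, 0, 0, -1], [0, 1, -1, 0], [0, 0, 1, 0]], [[0, 0, 0, 1], [-1, 0, 1, 0], [0, -1, 0, 1], [0, 0, 0, -1], [1, 0, -1, 0], [0, 1, 0, -1], [0, 0, 0, 1]]]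

def coxFreeD4 : List (List ℤ) :=
  [[1, 1, 1, 1], [-4, 1, 2, 2], [-1, -4, 3, 3], [-1, -1, -1, -1], [4, -1, -2, -2], [1, 4, -3, -3]]

theorem orderOf_coxeterD4 :
    orderOf ((List.finRange 4).map Cfsg.Lie.coxeterD4.simple).prod = 6 :=
  orderOf_coxeterElement certD4_good (h := 6) (basis := coxBasisD4) (free := coxFreeD4) (by decide +kernel)

def coxBasisF4 : List (List (List ℤ)) :=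
  [[[1, 0, 0, 0], [-1, 1, 0, 0], [0, -1, 1, 0], [-1, 0, 0, 1], [-1, -1, 1, 0], [0, -1, 0, 1], [-1, 0, 0, 0], [1, -1, 0, 0], [0, 1, -1, 0], [1, 0, 0, -1], [1, 1, -1, 0], [0, 1, 0, -1], [1, 0, 0, 0]], [[0, 1, 0, 0], [-1, 0, 1, 0], [-1, -1, 1, 1], [-2, -1, 1, 1], [-1, -2, 1, 1], [-1, -1, 0, 1], [0, -1, 0, 0], [1, 0, -1, 0], [1, 1, -1, -1], [2, 1, -1, -1], [1, 2, -1, -1], [1, 1, 0, -1], [0, 1, 0, 0]], [[0, 0, 1, 0], [-2, 0, 1, 1], [-2, -2, 2, 1], [-2, -2, 1, 2], [-2, -2, 1, 1], [0, -2, 0, 1], [0, 0, -1, 0], [2, 0, -1, -1], [2, 2, -2, -1], [2, 2, -1, -2], [2, 2, -1, -1], [0, 2, 0, -1], [0, 0, 1, 0]], [[0, 0, 0, 1], [-2, 0, 1, 0], [0, -2, 1, 1], [-2, 0, 0, 1], [0, -2, 1, 0], [0, 0, -1, 1], [0, 0, 0, -1], [2, 0, -1, 0], [0, 2, -1, -1],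 [2, 0, 0, -1], [0, 2, -1, 0], [0, 0, 1, -1], [0, 0, 0, 1]]]

def coxFreeF4 : List (List ℤ) :=
  [[1, 1, 1, 1], [-6, 1, 3, 1], [-3, -6, 5, 3], [-7, -3, 2, 5], [-4, -7, 4, 2], [-1, -4, -1, 4], [-1, -1, -1, -1], [6, -1, -3, -1], [3, 6, -5, -3], [7, 3, -2, -5], [4, 7, -4, -2], [1, 4, 1, -4]]

theorem orderOf_coxeterF4 :
    orderOf ((List.finRange 4).map CoxeterMatrix.F₄.simple).prod = 12 :=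
  orderOf_coxeterElement certF4_good (h := 12) (basis := coxBasisF4) (free := coxFreeF4) (by decide +kernel)

def coxBasisE6 : List (List (List ℤ)) :=
  [[[1, 0, 0, 0, 0, 0], [-1, 0, 1, 0, 0, 0], [0, 0, -1, 1, 0, 0], [0, -1, 0, 0, 1, 0], [-1, 0, 0, 0, 0, 1], [0, -1, -1, 1, 0, 0], [0, 0, 0, -1, 1, 0], [0, 0, 0, 0, -1, 1], [0, 0, 0, 0, 0, -1], [1, 1, 0, -1, 0, 0], [0, 0, 1, 0, -1, 0], [0, 1, 0, 0, 0, -1], [1, 0, 0, 0, 0, 0]], [[0, 1, 0, 0, 0, 0], [0, -1, 0, 1, 0, 0], [-1, 0, 0, 0, 1, 0], [0, -1, -1, 1, 0, 1], [-1, -1, 0, 0, 1, 0], [0, 0, -1, 0, 0, 1], [0, -1, 0, 0, 0, 0], [0, 1, 0, -1, 0, 0], [1, 0, 0, 0, -1, 0], [0, 1, 1, -1, 0, -1], [1, 1, 0, 0, -1, 0], [0, 0, 1, 0, 0, -1], [0, 1, 0, 0, 0, 0]], [[0, 0, 1, 0, 0, 0], [-1, 0, 0, 1,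 0, 0], [0, -1, -1, 1, 1, 0], [-1, -1, 0, 0, 1, 1], [-1, -1, -1, 1, 0, 1], [0, -1, -1, 0, 1, 0], [0, 0, 0, -1, 0, 1], [0, 0, 0, 0, -1, 0], [1, 1, 0, -1, 0, -1], [1, 1, 1, -1, -1, 0], [0, 1, 1, 0, -1, -1], [1, 1, 0, 0, 0, -1], [0, 0, 1, 0, 0, 0]], [[0, 0, 0, 1, 0, 0], [-1, -1, 0, 1, 1, 0], [-1, -1, -1, 1, 1, 1], [-1, -2, -1, 1, 1, 1], [-1, -1, -1, 0, 1, 1], [0, -1, -1, 0, 0, 1], [0, 0, 0, -1, 0, 0], [1, 1, 0, -1, -1, 0], [1, 1, 1, -1, -1, -1], [1, 2, 1, -1, -1, -1], [1, 1, 1, 0, -1, -1], [0, 1, 1, 0, 0, -1], [0, 0, 0, 1, 0, 0]], [[0, 0, 0, 0, 1, 0], [-1, -1, 0, 1, 0, 1], [-1, -1, -1, 1, 1, 0], [0, -1, -1, 0, 1, 1], [-1, -1, 0, 0, 0, 1], [0, 0, -1, 0, 0, 0], [1, 0, 0, -1, 0, 0], [0, 1, 1, -1, -1, 0], [1, 1, 0, 0, -1, -1], [1, 1, 1,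 -1, 0, -1], [0, 1, 1, 0, -1, 0], [0, 0, 0, 1, 0, -1], [0, 0, 0, 0, 1, 0]], [[0, 0, 0, 0, 0, 1], [-1, -1, 0, 1, 0, 0], [0, 0, -1, 0, 1, 0], [0, -1, 0, 0, 0, 1], [-1, 0, 0, 0, 0, 0], [1, 0, -1, 0, 0, 0], [0, 0, 1, -1, 0, 0], [0, 1, 0, 0, -1, 0], [1, 0, 0, 0, 0, -1], [0, 1, 1, -1, 0, 0], [0, 0, 0, 1, -1, 0], [0, 0, 0, 0, 1, -1], [0, 0, 0, 0, 0, 1]]]

def coxFreeE6 : List (List ℤ) :=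
  [[1, 1, 1, 1, 1, 1], [-5, -4, 1, 5, 1, 1], [-3, -3, -5, 4, 5, 1], [-2, -7, -3, 2, 4, 5], [-6, -4, -2, 1, 2, 4], [1, -3, -6, 1, 1, 2], [1, -1, 1, -5, 1, 1], [1, 4, 1, -3, -5, 1], [5, 3, 1, -2, -3, -5], [4, 7, 5, -6, -2, -3], [2, 4, 4, 1, -6, -2], [1, 3, 2, 1, 1, -6]]

theorem orderOf_coxeterE6 :
    orderOf ((List.finRange 6).map CoxeterMatrix.E₆.simple).prod = 12 :=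
  orderOf_coxeterElement certE6_good (h := 12) (basis := coxBasisE6) (free := coxFreeE6) (by decide +kernel)

def coxBasisE7 : List (List (List ℤ)) :=
  [[[1, 0, 0, 0, 0, 0, 0], [-1, 0, 1, 0, 0, 0, 0], [0, 0, -1, 1, 0, 0, 0], [0, -1, 0, 0, 1, 0, 0], [-1, 0, 0, 0, 0, 1, 0], [0, -1, -1, 1, 0, 0, 1], [-1, -1, 0, 0, 1, 0, 0], [0, 0, -1, 0, 0, 1, 0], [0, -1, 0, 0, 0, 0, 1], [-1, 0, 0, 0, 0, 0, 0], [1, 0, -1, 0, 0, 0, 0], [0, 0, 1, -1, 0, 0, 0], [0, 1, 0, 0, -1, 0, 0], [1, 0, 0, 0, 0, -1, 0], [0, 1, 1, -1, 0, 0, -1], [1, 1, 0, 0, -1, 0, 0], [0, 0, 1, 0, 0, -1, 0], [0, 1, 0, 0, 0, 0, -1], [1, 0, 0, 0, 0, 0, 0]], [[0, 1, 0, 0, 0, 0, 0], [0, -1, 0, 1, 0, 0, 0], [-1, 0, 0, 0, 1, 0, 0], [0, -1, -1, 1, 0, 1, 0], [-1, -1, 0, 0, 1, 0, 1], [-1,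 -1, -1, 1, 0, 1, 0], [0, -1, -1, 0, 1, 0, 1], [-1, -1, 0, 0, 0, 1, 0], [0, 0, -1, 0, 0, 0, 1], [0, -1, 0, 0, 0, 0, 0], [0, 1, 0, -1, 0, 0, 0], [1, 0, 0, 0, -1, 0, 0], [0, 1, 1, -1, 0, -1, 0], [1, 1, 0, 0, -1, 0, -1], [1, 1, 1, -1, 0, -1, 0], [0, 1, 1, 0, -1, 0, -1], [1, 1, 0, 0, 0, -1, 0], [0, 0, 1, 0, 0, 0, -1], [0, 1, 0, 0, 0, 0, 0]], [[0, 0, 1, 0, 0, 0, 0], [-1, 0, 0, 1, 0, 0, 0], [0, -1, -1, 1, 1, 0, 0], [-1, -1, 0, 0, 1, 1, 0], [-1, -1, -1, 1, 0, 1, 1], [-1, -2, -1, 1, 1, 0, 1], [-1, -1, -1, 0, 1, 1, 0], [0, -1, -1, 0, 0, 1, 1], [-1, -1, 0, 0, 0, 0, 1], [0, 0, -1, 0, 0, 0, 0], [1, 0, 0, -1, 0, 0, 0], [0, 1, 1, -1, -1, 0, 0], [1, 1, 0, 0, -1, -1, 0], [1, 1, 1, -1, 0, -1, -1], [1, 2, 1, -1, -1, 0, -1], [1, 1, 1, 0, -1, -1, 0],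 [0, 1, 1, 0, 0, -1, -1], [1, 1, 0, 0, 0, 0, -1], [0, 0, 1, 0, 0, 0, 0]], [[0, 0, 0, 1, 0, 0, 0], [-1, -1, 0, 1, 1, 0, 0], [-1, -1, -1, 1, 1, 1, 0], [-1, -2, -1, 1, 1, 1, 1], [-2, -2, -1, 1, 1, 1, 1], [-1, -2, -2, 1, 1, 1, 1], [-1, -2, -1, 0, 1, 1, 1], [-1, -1, -1, 0, 0, 1, 1], [0, -1, -1, 0, 0, 0, 1], [0, 0, 0, -1, 0, 0, 0], [1, 1, 0, -1, -1, 0, 0], [1, 1, 1, -1, -1, -1, 0], [1, 2, 1, -1, -1, -1, -1], [2, 2, 1, -1, -1, -1, -1], [1, 2, 2, -1, -1, -1, -1], [1, 2, 1, 0, -1, -1, -1], [1, 1, 1, 0, 0, -1, -1], [0, 1, 1, 0, 0, 0, -1], [0, 0, 0, 1, 0, 0, 0]], [[0, 0, 0, 0, 1, 0, 0], [-1, -1, 0, 1, 0, 1, 0], [-1, -1, -1, 1, 1, 0, 1], [-1, -2, -1, 1, 1, 1, 0], [-1, -1, -1, 0, 1, 1, 1], [-1, -2, -1, 1, 0, 1, 1], [-1, -1, -1, 0, 1, 0, 1], [0,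 -1, -1, 0, 0, 1, 0], [0, 0, 0, -1, 0, 0, 1], [0, 0, 0, 0, -1, 0, 0], [1, 1, 0, -1, 0, -1, 0], [1, 1, 1, -1, -1, 0, -1], [1, 2, 1, -1, -1, -1, 0], [1, 1, 1, 0, -1, -1, -1], [1, 2, 1, -1, 0, -1, -1], [1, 1, 1, 0, -1, 0, -1], [0, 1, 1, 0, 0, -1, 0], [0, 0, 0, 1, 0, 0, -1], [0, 0, 0, 0, 1, 0, 0]], [[0, 0, 0, 0, 0, 1, 0], [-1, -1, 0, 1, 0, 0, 1], [-1, -1, -1, 1, 1, 0, 0], [0, -1, -1, 0, 1, 1, 0], [-1, -1, 0, 0, 0, 1, 1], [-1, -1, -1, 1, 0, 0, 1], [0, -1, -1, 0, 1, 0, 0], [0, 0, 0, -1, 0, 1, 0], [0, 0, 0, 0, -1, 0, 1], [0, 0, 0, 0, 0, -1, 0], [1, 1, 0, -1, 0, 0, -1], [1, 1, 1, -1, -1, 0, 0], [0, 1, 1, 0, -1, -1, 0], [1, 1, 0, 0, 0, -1, -1], [1, 1, 1, -1, 0, 0, -1], [0, 1, 1, 0, -1, 0, 0], [0, 0, 0, 1, 0, -1, 0], [0, 0, 0, 0, 1, 0, -1],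 [0, 0, 0, 0, 0, 1, 0]], [[0, 0, 0, 0, 0, 0, 1], [-1, -1, 0, 1, 0, 0, 0], [0, 0, -1, 0, 1, 0, 0], [0, -1, 0, 0, 0, 1, 0], [-1, 0, 0, 0, 0, 0, 1], [0, -1, -1, 1, 0, 0, 0], [0, 0, 0, -1, 1, 0, 0], [0, 0, 0, 0, -1, 1, 0], [0, 0, 0, 0, 0, -1, 1], [0, 0, 0, 0, 0, 0, -1], [1, 1, 0, -1, 0, 0, 0], [0, 0, 1, 0, -1, 0, 0], [0, 1, 0, 0, 0, -1, 0], [1, 0, 0, 0, 0, 0, -1], [0, 1, 1, -1, 0, 0, 0], [0, 0, 0, 1, -1, 0, 0], [0, 0, 0, 0, 1, -1, 0], [0, 0, 0, 0, 0, 1, -1], [0, 0, 0, 0, 0, 0, 1]]]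

def coxFreeE7 : List (List ℤ) :=
  [[1, 1, 1, 1, 1, 1, 1], [-6, -5, 1, 6, 1, 1, 1], [-4, -4, -6, 5, 6, 1, 1], [-3, -9, -4, 3, 5, 6, 1], [-8, -6, -3, 2, 3, 5, 6], [-5, -10, -8, 7, 2, 3, 5], [-4, -7, -5, -1, 7, 2, 3], [-2, -4, -4, -1, -1, 7, 2], [-1, -3, -2, -1, -1, -1, 7], [-1, -1, -1, -1, -1, -1, -1], [6, 5, -1, -6, -1, -1, -1], [4, 4, 6, -5, -6, -1, -1], [3, 9, 4, -3, -5, -6, -1], [8, 6, 3, -2, -3, -5, -6], [5, 10, 8, -7, -2, -3, -5], [4, 7, 5, 1, -7, -2, -3], [2, 4, 4, 1, 1, -7, -2], [1, 3, 2, 1, 1, 1, -7]]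

theorem orderOf_coxeterE7 :
    orderOf ((List.finRange 7).map CoxeterMatrix.E₇.simple).prod = 18 :=
  orderOf_coxeterElement certE7_good (h := 18) (basis := coxBasisE7) (free := coxFreeE7) (by decide +kernel)

def coxBasisE8 : List (List (List ℤ)) :=
  [[[1, 0, 0, 0, 0, 0, 0, 0], [-1, 0, 1, 0, 0, 0, 0, 0], [0, 0, -1, 1, 0, 0, 0, 0], [0, -1, 0, 0, 1, 0, 0, 0], [-1, 0, 0, 0, 0, 1, 0, 0], [0, -1, -1, 1, 0, 0, 1, 0], [-1, -1, 0, 0, 1, 0, 0, 1], [-1, -1, -1, 1, 0, 1, 0, 0], [0, -1, -1, 0, 1, 0, 1, 0], [-1, -1, 0, 0, 0, 1, 0, 1], [-1, -1, -1, 1, 0, 0, 1, 0], [0, -1, -1, 0, 1, 0, 0, 1], [-1, -1, 0, 0, 0, 1, 0, 0], [0, 0, -1, 0, 0, 0, 1, 0], [0, -1, 0, 0, 0, 0, 0, 1], [-1, 0, 0, 0, 0, 0, 0, 0], [1, 0, -1, 0, 0, 0, 0, 0], [0, 0, 1, -1,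 0, 0, 0, 0], [0, 1, 0, 0, -1, 0, 0, 0], [1, 0, 0, 0, 0, -1, 0, 0], [0, 1, 1, -1, 0, 0, -1, 0], [1, 1, 0, 0, -1, 0, 0, -1], [1, 1, 1, -1, 0, -1, 0, 0], [0, 1, 1, 0, -1, 0, -1, 0], [1, 1, 0, 0, 0, -1, 0, -1], [1, 1, 1, -1, 0, 0, -1, 0], [0, 1, 1, 0, -1, 0, 0, -1], [1, 1, 0, 0, 0, -1, 0, 0], [0, 0, 1, 0, 0, 0, -1, 0], [0, 1, 0, 0, 0, 0, 0, -1], [1, 0, 0, 0, 0, 0, 0, 0]], [[0, 1, 0, 0, 0, 0, 0, 0], [0, -1, 0, 1, 0, 0, 0, 0], [-1, 0, 0, 0, 1, 0, 0, 0], [0, -1, -1, 1, 0, 1, 0, 0], [-1, -1, 0, 0, 1, 0, 1, 0], [-1, -1, -1, 1, 0, 1, 0, 1], [-1, -2, -1, 1, 1, 0, 1, 0], [-1, -1, -1, 0, 1, 1, 0, 1], [-1, -2, -1, 1, 0, 1, 1, 0], [-1, -1, -1, 0, 1, 0, 1, 1], [-1, -2, -1, 1, 0, 1, 0, 1], [-1, -1, -1, 0, 1, 0, 1, 0], [0, -1, -1, 0, 0, 1, 0, 1],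 [-1, -1, 0, 0, 0, 0, 1, 0], [0, 0, -1, 0, 0, 0, 0, 1], [0, -1, 0, 0, 0, 0, 0, 0], [0, 1, 0, -1, 0, 0, 0, 0], [1, 0, 0, 0, -1, 0, 0, 0], [0, 1, 1, -1, 0, -1, 0, 0], [1, 1, 0, 0, -1, 0, -1, 0], [1, 1, 1, -1, 0, -1, 0, -1], [1, 2, 1, -1, -1, 0, -1, 0], [1, 1, 1, 0, -1, -1, 0, -1], [1, 2, 1, -1, 0, -1, -1, 0], [1, 1, 1, 0, -1, 0, -1, -1], [1, 2, 1, -1, 0, -1, 0, -1], [1, 1, 1, 0, -1, 0, -1, 0], [0, 1, 1, 0, 0, -1, 0, -1], [1, 1, 0, 0, 0, 0, -1, 0], [0, 0, 1, 0, 0, 0, 0, -1], [0, 1, 0, 0, 0, 0, 0, 0]], [[0, 0, 1, 0, 0, 0, 0, 0], [-1, 0, 0, 1, 0, 0, 0, 0], [0, -1, -1, 1, 1, 0, 0, 0], [-1, -1, 0, 0, 1, 1, 0, 0], [-1, -1, -1, 1, 0, 1, 1, 0], [-1, -2, -1, 1, 1, 0, 1, 1], [-2, -2, -1, 1, 1, 1, 0, 1], [-1, -2, -2, 1, 1, 1, 1, 0], [-1, -2, -1,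 0, 1, 1, 1, 1], [-2, -2, -1, 1, 0, 1, 1, 1], [-1, -2, -2, 1, 1, 0, 1, 1], [-1, -2, -1, 0, 1, 1, 0, 1], [-1, -1, -1, 0, 0, 1, 1, 0], [0, -1, -1, 0, 0, 0, 1, 1], [-1, -1, 0, 0, 0, 0, 0, 1], [0, 0, -1, 0, 0, 0, 0, 0], [1, 0, 0, -1, 0, 0, 0, 0], [0, 1, 1, -1, -1, 0, 0, 0], [1, 1, 0, 0, -1, -1, 0, 0], [1, 1, 1, -1, 0, -1, -1, 0], [1, 2, 1, -1, -1, 0, -1, -1], [2, 2, 1, -1, -1, -1, 0, -1], [1, 2, 2, -1, -1, -1, -1, 0], [1, 2, 1, 0, -1, -1, -1, -1], [2, 2, 1, -1, 0, -1, -1, -1], [1, 2, 2, -1, -1, 0, -1, -1], [1, 2, 1, 0, -1, -1, 0, -1], [1, 1, 1, 0, 0, -1, -1, 0], [0, 1, 1, 0, 0, 0, -1, -1], [1, 1, 0, 0, 0, 0, 0, -1], [0, 0, 1, 0, 0, 0, 0, 0]], [[0, 0, 0, 1, 0, 0, 0, 0], [-1, -1, 0, 1, 1, 0, 0, 0], [-1, -1, -1, 1, 1, 1, 0, 0], [-1, -2,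 -1, 1, 1, 1, 1, 0], [-2, -2, -1, 1, 1, 1, 1, 1], [-2, -3, -2, 2, 1, 1, 1, 1], [-2, -3, -2, 1, 2, 1, 1, 1], [-2, -3, -2, 1, 1, 2, 1, 1], [-2, -3, -2, 1, 1, 1, 2, 1], [-2, -3, -2, 1, 1, 1, 1, 2], [-2, -3, -2, 1, 1, 1, 1, 1], [-1, -2, -2, 0, 1, 1, 1, 1], [-1, -2, -1, 0, 0, 1, 1, 1], [-1, -1, -1, 0, 0, 0, 1, 1], [0, -1, -1, 0, 0, 0, 0, 1], [0, 0, 0, -1, 0, 0, 0, 0], [1, 1, 0, -1, -1, 0, 0, 0], [1, 1, 1, -1, -1, -1, 0, 0], [1, 2, 1, -1, -1, -1, -1, 0], [2, 2, 1, -1, -1, -1, -1, -1], [2, 3, 2, -2, -1, -1, -1, -1], [2, 3, 2, -1, -2, -1, -1, -1], [2, 3, 2, -1, -1, -2, -1, -1], [2, 3, 2, -1, -1, -1, -2, -1], [2, 3, 2, -1, -1, -1, -1, -2], [2, 3, 2, -1, -1, -1, -1, -1], [1, 2, 2, 0, -1, -1, -1, -1], [1, 2, 1, 0, 0, -1, -1, -1], [1, 1, 1, 0,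 0, 0, -1, -1], [0, 1, 1, 0, 0, 0, 0, -1], [0, 0, 0, 1, 0, 0, 0, 0]], [[0, 0, 0, 0, 1, 0, 0, 0], [-1, -1, 0, 1, 0, 1, 0, 0], [-1, -1, -1, 1, 1, 0, 1, 0], [-1, -2, -1, 1, 1, 1, 0, 1], [-2, -2, -1, 1, 1, 1, 1, 0], [-1, -2, -2, 1, 1, 1, 1, 1], [-2, -3, -1, 1, 1, 1, 1, 1], [-2, -2, -2, 1, 1, 1, 1, 1], [-1, -3, -2, 1, 1, 1, 1, 1], [-2, -2, -1, 0, 1, 1, 1, 1], [-1, -2, -2, 1, 0, 1, 1, 1], [-1, -2, -1, 0, 1, 0, 1, 1], [-1, -1, -1, 0, 0, 1, 0, 1], [0, -1, -1, 0, 0, 0, 1, 0], [0, 0, 0, -1, 0, 0, 0, 1], [0, 0, 0, 0, -1, 0, 0, 0], [1, 1, 0, -1, 0, -1, 0, 0], [1, 1, 1, -1, -1, 0, -1, 0], [1, 2, 1, -1, -1, -1, 0, -1], [2, 2, 1, -1, -1, -1, -1, 0], [1, 2, 2, -1, -1, -1, -1, -1], [2, 3, 1, -1, -1, -1, -1, -1], [2, 2, 2, -1, -1, -1, -1, -1], [1,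 3, 2, -1, -1, -1, -1, -1], [2, 2, 1, 0, -1, -1, -1, -1], [1, 2, 2, -1, 0, -1, -1, -1], [1, 2, 1, 0, -1, 0, -1, -1], [1, 1, 1, 0, 0, -1, 0, -1], [0, 1, 1, 0, 0, 0, -1, 0], [0, 0, 0, 1, 0, 0, 0, -1], [0, 0, 0, 0, 1, 0, 0, 0]], [[0, 0, 0, 0, 0, 1, 0, 0], [-1, -1, 0, 1, 0, 0, 1, 0], [-1, -1, -1, 1, 1, 0, 0, 1], [-1, -2, -1, 1, 1, 1, 0, 0], [-1, -1, -1, 0, 1, 1, 1, 0], [-1, -2, -1, 1, 0, 1, 1, 1], [-2, -2, -1, 1, 1, 0, 1, 1], [-1, -2, -2, 1, 1, 1, 0, 1], [-1, -2, -1, 0, 1, 1, 1, 0], [-1, -1, -1, 0, 0, 1, 1, 1], [-1, -2, -1, 1, 0, 0, 1, 1], [-1, -1, -1, 0, 1, 0, 0, 1], [0, -1, -1, 0, 0, 1, 0, 0], [0, 0, 0, -1, 0, 0, 1, 0], [0, 0, 0, 0, -1, 0, 0, 1], [0, 0, 0, 0, 0, -1, 0, 0], [1, 1, 0, -1, 0, 0, -1, 0], [1, 1, 1, -1, -1, 0, 0, -1], [1,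 2, 1, -1, -1, -1, 0, 0], [1, 1, 1, 0, -1, -1, -1, 0], [1, 2, 1, -1, 0, -1, -1, -1], [2, 2, 1, -1, -1, 0, -1, -1], [1, 2, 2, -1, -1, -1, 0, -1], [1, 2, 1, 0, -1, -1, -1, 0], [1, 1, 1, 0, 0, -1, -1, -1], [1, 2, 1, -1, 0, 0, -1, -1], [1, 1, 1, 0, -1, 0, 0, -1], [0, 1, 1, 0, 0, -1, 0, 0], [0, 0, 0, 1, 0, 0, -1, 0], [0, 0, 0, 0, 1, 0, 0, -1], [0, 0, 0, 0, 0, 1, 0, 0]], [[0, 0, 0, 0, 0, 0, 1, 0], [-1, -1, 0, 1, 0, 0, 0, 1], [-1, -1, -1, 1, 1, 0, 0, 0], [0, -1, -1, 0, 1, 1, 0, 0], [-1, -1, 0, 0, 0, 1, 1, 0], [-1, -1, -1, 1, 0, 0, 1, 1], [-1, -2, -1, 1, 1, 0, 0, 1], [-1, -1, -1, 0, 1, 1, 0, 0], [0, -1, -1, 0, 0, 1, 1, 0], [-1, -1, 0, 0, 0, 0, 1, 1], [-1, -1, -1, 1, 0, 0, 0, 1], [0, -1, -1, 0, 1, 0, 0, 0], [0, 0, 0, -1, 0, 1, 0, 0], [0, 0,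 0, 0, -1, 0, 1, 0], [0, 0, 0, 0, 0, -1, 0, 1], [0, 0, 0, 0, 0, 0, -1, 0], [1, 1, 0, -1, 0, 0, 0, -1], [1, 1, 1, -1, -1, 0, 0, 0], [0, 1, 1, 0, -1, -1, 0, 0], [1, 1, 0, 0, 0, -1, -1, 0], [1, 1, 1, -1, 0, 0, -1, -1], [1, 2, 1, -1, -1, 0, 0, -1], [1, 1, 1, 0, -1, -1, 0, 0], [0, 1, 1, 0, 0, -1, -1, 0], [1, 1, 0, 0, 0, 0, -1, -1], [1, 1, 1, -1, 0, 0, 0, -1], [0, 1, 1, 0, -1, 0, 0, 0], [0, 0, 0, 1, 0, -1, 0, 0], [0, 0, 0, 0, 1, 0, -1, 0], [0, 0, 0, 0, 0, 1, 0, -1], [0, 0, 0, 0, 0, 0, 1, 0]], [[0, 0, 0, 0, 0, 0, 0, 1], [-1, -1, 0, 1, 0, 0, 0, 0], [0, 0, -1, 0, 1, 0, 0, 0], [0, -1, 0, 0, 0, 1, 0, 0], [-1, 0, 0, 0, 0, 0, 1, 0], [0, -1, -1, 1, 0, 0, 0, 1], [-1, -1, 0, 0, 1, 0, 0, 0], [0, 0, -1, 0, 0, 1, 0, 0], [0, -1, 0, 0, 0, 0, 1, 0], [-1,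 0, 0, 0, 0, 0, 0, 1], [0, -1, -1, 1, 0, 0, 0, 0], [0, 0, 0, -1, 1, 0, 0, 0], [0, 0, 0, 0, -1, 1, 0, 0], [0, 0, 0, 0, 0, -1, 1, 0], [0, 0, 0, 0, 0, 0, -1, 1], [0, 0, 0, 0, 0, 0, 0, -1], [1, 1, 0, -1, 0, 0, 0, 0], [0, 0, 1, 0, -1, 0, 0, 0], [0, 1, 0, 0, 0, -1, 0, 0], [1, 0, 0, 0, 0, 0, -1, 0], [0, 1, 1, -1, 0, 0, 0, -1], [1, 1, 0, 0, -1, 0, 0, 0], [0, 0, 1, 0, 0, -1, 0, 0], [0, 1, 0, 0, 0, 0, -1, 0], [1, 0, 0, 0, 0, 0, 0, -1], [0, 1, 1, -1, 0, 0, 0, 0], [0, 0, 0, 1, -1, 0, 0, 0], [0, 0, 0, 0, 1, -1, 0, 0], [0, 0, 0, 0, 0, 1, -1, 0], [0, 0, 0, 0, 0, 0, 1, -1], [0, 0, 0, 0, 0, 0, 0, 1]]]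

def coxFreeE8 : List (List ℤ) :=
  [[1, 1, 1, 1, 1, 1, 1, 1], [-7, -6, 1, 7, 1, 1, 1, 1], [-5, -5, -7, 6, 7, 1, 1, 1], [-4, -11, -5, 4, 6, 7, 1, 1], [-10, -8, -4, 3, 4, 6, 7, 1], [-7, -13, -10, 9, 3, 4, 6, 7], [-12, -16, -7, 6, 9, 3, 4, 6], [-9, -12, -12, 5, 6, 9, 3, 4], [-6, -15, -9, 3, 5, 6, 9, 3], [-11, -11, -6, 2, 3, 5, 6, 9], [-8, -14, -11, 8, 2, 3, 5, 6], [-5, -10, -8, -1, 8, 2, 3, 5], [-4, -7, -5, -1, -1, 8, 2, 3], [-2, -4, -4, -1, -1, -1, 8, 2], [-1, -3, -2, -1, -1, -1, -1, 8], [-1, -1, -1, -1, -1, -1, -1, -1], [7, 6, -1, -7, -1, -1, -1, -1], [5, 5, 7, -6, -7, -1, -1, -1], [4, 11, 5, -4, -6, -7, -1, -1], [10, 8, 4, -3, -4, -6, -7, -1], [7, 13, 10, -9, -3, -4, -6, -7], [12, 16, 7, -6, -9, -3, -4, -6], [9, 12, 12, -5, -6,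 -9, -3, -4], [6, 15, 9, -3, -5, -6, -9, -3], [11, 11, 6, -2, -3, -5, -6, -9], [8, 14, 11, -8, -2, -3, -5, -6], [5, 10, 8, 1, -8, -2, -3, -5], [4, 7, 5, 1, 1, -8, -2, -3], [2, 4, 4, 1, 1, 1, -8, -2], [1, 3, 2, 1, 1, 1, 1, -8]]

theorem orderOf_coxeterE8 :
    orderOf ((List.finRange 8).map CoxeterMatrix.E₈.simple).prod = 30 :=
  orderOf_coxeterElement certE8_good (h := 30) (basis := coxBasisE8) (free := coxFreeE8) (by decide +kernel)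

end CfsgLib.Weyl
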