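import Cfsg.Agent.Weyl.CosetTable
import Mathlib.GroupTheory.Coxeter.Basic
import Mathlib.LinearAlgebra.Pi
import Mathlib.LinearAlgebra.StdBasis

/-!
# Finite Coxeter groups from certified chains of coset tables

A `Cert n` consists of a Cartan matrix and, for a chain `∅ ⊂ J₁ ⊂ … ⊂ all nodes` of sets of
nodes, a coset table of `W_{J_k}` in `W_{J_{k+1}}` whose rows are the orbit of the fundamental
weight of the new node.  `Cert.Good` is a decidable condition giving a faithful linear
representation of the presented Coxeter group on the weight lattice and its order.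
-/

namespace CfsgLib.Weyl

variable {n : ℕ}

/-- One step of the chain. -/
structure Level where
  node : ℕ
  T : List (List ℕ)
  reps : List (List ℕ)
  deds : List (ℕ × ℕ × ℕ)
  pts : List (List ℤ)

/-- A Cartan matrix and a chain of levels. -/
structure Cert (n : ℕ) where
  A : List (List ℤ)
  levels : List Level

/-- Entry `⟨α_i, α_k^∨⟩` of the Cartan matrix. -/
def Cert.a (C : Cert n) (k i : ℕ) : ℤ := (C.A.getD k []).getD i 0

/-- The simple reflection on weight coordinates. -/
def Cert.reflFun (C : Cert n) (i : Fin n) (v : Fin n → ℤ) : Fin n → ℤ :=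
  fun k => if C.a k i = 0 then v k else v k - v i * C.a k i

/-- The simple reflection as a linear map. -/
def Cert.refl (C : Cert n) (i : Fin n) : Module.End ℤ (Fin n → ℤ) where
  toFun := C.reflFun i
  map_add' v w := by
    ext k; simp only [Cert.reflFun, Pi.add_apply]; split <;> ring
  map_smul' c v := by
    ext k; simp only [Cert.reflFun, Pi.smul_apply, smul_eq_mul, RingHom.id_apply]
    split <;> ring

/-- The alternating relators of a Coxeter matrix. -/
def relWords (M : CoxeterMatrix (Fin n)) : List (List ℕ) :=
  (List.finRange n).flatMap fun a => ((List.finRange n).filter (fun b => b != a)).map fun b =>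
    (List.replicate (M a b) [(a : ℕ), (b : ℕ)]).flatten

/-- A list as a vector. -/
def toVec (n : ℕ) (l : List ℤ) : Fin n → ℤ := fun k => l.getD k 0

/-- The check of one level over the nodes `base`. -/
def Level.ok (C : Cert n) (M : CoxeterMatrix (Fin n)) (base : List ℕ) (L : Level) : Bool :=
  checkTable n L.T L.reps (relWords M) base (base ++ [L.node]) L.deds &&
  decide (L.node < n) &&
  decide (L.pts.length = L.T.length) && L.pts.all (fun p => decide (p.length = n)) &&
  decide L.pts.Nodup &&
  (List.finRange n).all (fun k =>
    decide ((L.pts.getD 0 []).getD k 0 = if (k : ℕ) = L.node then 1 else 0)) &&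
  base.all (fun j => decide (step L.T j 0 = 0)) &&
  (List.finRange n).all fun i => !((base ++ [L.node]).contains (i : ℕ)) ||
    (List.range L.T.length).all fun r => (List.finRange n).all fun k =>
      decide (C.reflFun i (toVec n (L.pts.getD r [])) k = toVec n (L.pts.getD (step L.T i r) []) k)

/-- The check of a chain of levels over `base`, ending with all nodes. -/
def chainOk (C : Cert n) (M : CoxeterMatrix (Fin n)) : List ℕ → List Level → Bool
  | base, [] => (List.range n).all base.contains
  | base, L :: Ls => L.ok C M base && chainOk C M (base ++ [L.node]) Ls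

/-- The Coxeter relations hold for the reflections. -/
def relsOk (C : Cert n) (M : CoxeterMatrix (Fin n)) : Bool :=
  (List.finRange n).all fun i => (List.finRange n).all fun j => (List.finRange n).all fun k =>
    (List.finRange n).all fun l =>
      decide ((C.reflFun i ∘ C.reflFun j)^[M i j] (Pi.single k 1) l = (Pi.single k 1 : Fin n → ℤ) l)

/-- A certificate is good for a Coxeter matrix. -/
structure Cert.Good (C : Cert n) (M : CoxeterMatrix (Fin n)) : Prop where
  rels : relsOk C M = true
  chain : chainOk C M [] C.levels = true

/-- Simple reflections of the presented group indexed by naturals. -/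
def simpleNat (M : CoxeterMatrix (Fin n)) (j : ℕ) : M.Group :=
  if h : j < n then M.simple ⟨j, h⟩ else 1

theorem simpleNat_of_lt (M : CoxeterMatrix (Fin n)) (i : Fin n) : simpleNat M i = M.simple i := by
  simp [simpleNat]

theorem simpleNat_mul_self (M : CoxeterMatrix (Fin n)) (j : ℕ) :
    simpleNat M j * simpleNat M j = 1 := by
  unfold simpleNat
  split
  · exact M.toCoxeterSystem.simple_mul_simple_self _
  · exact one_mul 1

theorem wordProd_relWords (M : CoxeterMatrix (Fin n)) :
    ∀ w ∈ relWords M, wordProd (simpleNat M) w = 1 := by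
  intro w hw
  simp only [relWords, List.mem_flatMap, List.mem_map, List.mem_filter] at hw
  obtain ⟨a, -, b, -, rfl⟩ := hw
  have : ∀ m : ℕ, wordProd (simpleNat M) (List.replicate m [(a : ℕ), (b : ℕ)]).flatten =
      (M.simple a * M.simple b) ^ m := by
    intro m
    induction m with
    | zero => rfl
    | succ m ih =>
      simp only [wordProd] at ih ⊢
      rw [List.replicate_succ, List.flatten_cons, List.map_append, List.prod_append, ih, pow_succ']
      simp [simpleNat_of_lt]
  rw [this]
  exact M.toCoxeterSystem.simple_mul_simple_pow a b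

theorem genSub_all (M : CoxeterMatrix (Fin n)) {l : List ℕ}
    (h : ∀ j < n, j ∈ l) : genSub (simpleNat M) l = ⊤ := by
  rw [eq_top_iff, ← M.toCoxeterSystem.subgroup_closure_range_simple, CoxeterMatrix.toCoxeterSystem_simple]
  refine Subgroup.closure_mono ?_
  rintro x ⟨i, rfl⟩
  exact ⟨i, h i i.2, simpleNat_of_lt M i⟩

namespace Cert.Good

variable {C : Cert n} {M : CoxeterMatrix (Fin n)} (h : C.Good M)
include h

theorem liftable : M.IsLiftable C.refl := by
  intro i j
  have hr := h.rels
  simp only [relsOk, List.all_eq_true, List.mem_finRange, decide_eq_true_eq, forall_const] at hr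
  refine LinearMap.pi_ext' fun k => LinearMap.ext_ring ?_
  ext l
  simp only [LinearMap.coe_comp, LinearMap.coe_single, Function.comp_apply]
  rw [Module.End.coe_pow]
  exact hr i j k l

/-- The reflection representation of the Coxeter group on the weight lattice. -/
def rep : M.Group →* Module.End ℤ (Fin n → ℤ) :=
  M.toCoxeterSystem.lift ⟨C.refl, h.liftable⟩

@[simp]
theorem rep_simple (i : Fin n) : h.rep (M.simple i) = C.refl i := by
  rw [← CoxeterMatrix.toCoxeterSystem_simple]
  exact M.toCoxeterSystem.lift_apply_simple h.liftable i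

/-- The representation as an action on points. -/
def repFun : M.Group →* Function.End (Fin n → ℤ) where
  toFun g := ⇑(h.rep g)
  map_one' := by rw [map_one]; rfl
  map_mul' x y := by rw [map_mul]; rfl

omit h in
/-- The hypotheses on one level. -/
theorem level_facts {base : List ℕ} {L : Level} (hL : L.ok C M base = true) :
    checkTable n L.T L.reps (relWords M) base (base ++ [L.node]) L.deds = true ∧ L.node < n ∧
    (∀ i < L.T.length, ∀ i' < L.T.length,
      toVec n (L.pts.getD i []) = toVec n (L.pts.getD i' []) → i = i') ∧
    (∀ k : Fin n, toVec n (L.pts.getD 0 []) k = if (k : ℕ) = L.node then 1 else 0) ∧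
    (∀ j ∈ base, step L.T j 0 = 0) ∧
    ∀ i : Fin n, (i : ℕ) ∈ base ++ [L.node] → ∀ r < L.T.length,
      C.reflFun i (toVec n (L.pts.getD r [])) = toVec n (L.pts.getD (step L.T i r) []) := by
  simp only [Level.ok, Bool.and_eq_true, decide_eq_true_eq, List.all_eq_true, List.mem_finRange,
    forall_const, Bool.or_eq_true, Bool.not_eq_true', List.contains_eq_mem,
    decide_eq_false_iff_not, List.mem_range] at hL
  obtain ⟨⟨⟨⟨⟨⟨⟨hT, hnode⟩, hlen⟩, hlens⟩, hnd⟩, hw⟩, hb⟩, hact⟩ := hL
  refine ⟨hT, hnode, ?_, hw, hb, fun i hi r hr => ?_⟩
  · intro i hi i' hi' he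
    rw [← hlen] at hi hi'
    rw [List.getD_eq_getElem _ _ hi, List.getD_eq_getElem _ _ hi'] at he
    refine (hnd.getElem_inj_iff (hi := hi) (hj := hi')).mp (List.ext_getElem ?_ fun k hk hk' => ?_)
    · rw [hlens _ (List.getElem_mem hi), hlens _ (List.getElem_mem hi')]
    · have hkn : k < n := by rw [← hlens _ (List.getElem_mem hi)]; exact hk
      have := congrFun he ⟨k, hkn⟩
      simpa [toVec, List.getD_eq_getElem?_getD, List.getElem?_eq_getElem hk, List.getElem?_eq_getElem hk'] using this
  · rcases hact i with h' | h'
    · exact absurd hi h'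
    · funext k; exact h' r hr k

theorem level_hP {base : List ℕ} {L : Level} (hL : L.ok C M base = true) (hb : ∀ j ∈ base, j < n) :
    ∀ r < L.T.length, ∀ j ∈ base ++ [L.node],
      h.repFun (simpleNat M j) (toVec n (L.pts.getD r [])) =
        toVec n (L.pts.getD (step L.T j r) []) := by
  obtain ⟨-, hnode, -, -, -, hact⟩ := level_facts hL
  intro r hr j hj
  have hjn : j < n := by
    rcases List.mem_append.mp hj with h' | h'
    · exact hb j h'
    · rw [List.mem_singleton.mp h']; exact hnode
  show h.rep (simpleNat M j) _ = _
  rw [simpleNat, dif_pos hjn, h.rep_simple]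
  exact hact ⟨j, hjn⟩ hj r hr

theorem level_hfix {base : List ℕ} {L : Level} (hL : L.ok C M base = true) (hb : ∀ j ∈ base, j < n) :
    ∀ j ∈ base, h.repFun (simpleNat M j) (toVec n (L.pts.getD 0 [])) =
      toVec n (L.pts.getD 0 []) := by
  obtain ⟨hT, -, -, -, h0, -⟩ := level_facts hL
  have hpos : 0 < L.T.length := by
    simp only [checkTable, Bool.and_eq_true, decide_eq_true_eq] at hT
    exact hT.1.1.1.2
  intro j hj
  rw [h.level_hP hL hb 0 hpos j (List.mem_append_left _ hj), h0 j hj]

/-- One step of the order formula. -/
theorem level_card {base : List ℕ} {L : Level} (hL : L.ok C M base = true) (hb : ∀ j ∈ base, j < n) :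
    Nat.card (genSub (simpleNat M) (base ++ [L.node])) =
      L.T.length * Nat.card (genSub (simpleNat M) base) := by
  obtain ⟨hT, -, hinj, -⟩ := level_facts hL
  exact card_genSub_eq (simpleNat_mul_self M) (wordProd_relWords M) hT h.repFun
    (fun r => toVec n (L.pts.getD r [])) (h.level_hP hL hb) (h.level_hfix hL hb) hinj

/-- The stabiliser of a fundamental weight in one step of the chain. -/
theorem level_stab {base : List ℕ} {L : Level} (hL : L.ok C M base = true) (hb : ∀ j ∈ base, j < n)
    (hn : L.node < n) {g : M.Group} (hg : g ∈ genSub (simpleNat M) (base ++ [L.node]))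
    (hfix : h.rep g (Pi.single ⟨L.node, hn⟩ 1) = Pi.single ⟨L.node, hn⟩ 1) :
    g ∈ genSub (simpleNat M) base := by
  obtain ⟨hT, -, hinj, hw, -⟩ := level_facts hL
  have h0 : toVec n (L.pts.getD 0 []) = Pi.single ⟨L.node, hn⟩ 1 := by
    funext k; rw [hw k, Pi.single_apply]; simp [Fin.ext_iff]
  exact mem_base_of_fix (simpleNat_mul_self M) (wordProd_relWords M) hT h.repFun
    (fun r => toVec n (L.pts.getD r [])) (h.level_hP hL hb) (h.level_hfix hL hb) hinj hg
    (by show h.rep g _ = _; rw [h0]; exact hfix)

theorem card_aux : ∀ (Ls : List Level) (base : List ℕ), chainOk C M base Ls = true →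
    (∀ j ∈ base, j < n) →
    Nat.card M.Group = (Ls.map fun L => L.T.length).prod * Nat.card (genSub (simpleNat M) base) := by
  intro Ls
  induction Ls with
  | nil =>
    intro base hc _
    simp only [chainOk, List.all_eq_true, List.mem_range, List.contains_iff_mem] at hc
    simp [genSub_all M hc]
  | cons L Ls ih =>
    intro base hc hb
    simp only [chainOk, Bool.and_eq_true] at hc
    have hb' : ∀ j ∈ base ++ [L.node], j < n := by
      intro j hj
      rcases List.mem_append.mp hj with h' | h'
      · exact hb j h'
      · rw [List.mem_singleton.mp h']; exact (level_facts hc.1).2.1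
    rw [ih _ hc.2 hb', h.level_card hc.1 hb]
    simp [mul_left_comm, mul_assoc]

/-- The order of the Coxeter group. -/
theorem card_group : Nat.card M.Group = (C.levels.map fun L => L.T.length).prod := by
  rw [h.card_aux C.levels [] h.chain (by simp)]
  simp [genSub]

theorem eq_one_aux : ∀ (Ls : List Level) (base : List ℕ), chainOk C M base Ls = true →
    (∀ j ∈ base, j < n) → ∀ g : M.Group, (∀ k : Fin n, h.rep g (Pi.single k 1) = Pi.single k 1) →
      g ∈ genSub (simpleNat M) base := by
  intro Ls
  induction Ls with
  | nil =>
    intro base hc _ g _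
    simp only [chainOk, List.all_eq_true, List.mem_range, List.contains_iff_mem] at hc
    simp [genSub_all M hc]
  | cons L Ls ih =>
    intro base hc hb g hg
    simp only [chainOk, Bool.and_eq_true] at hc
    have hn := (level_facts hc.1).2.1
    have hb' : ∀ j ∈ base ++ [L.node], j < n := by
      intro j hj
      rcases List.mem_append.mp hj with h' | h'
      · exact hb j h'
      · rw [List.mem_singleton.mp h']; exact hn
    exact h.level_stab hc.1 hb hn (ih _ hc.2 hb' g hg) (hg ⟨L.node, hn⟩)

/-- The reflection representation is faithful. -/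
theorem rep_injective : Function.Injective h.rep := by
  intro g g' he
  have h1 : h.rep (g⁻¹ * g') = 1 := by
    rw [map_mul, ← he, ← map_mul, inv_mul_cancel, map_one]
  have := h.eq_one_aux C.levels [] h.chain (by simp) (g⁻¹ * g') (fun k => by rw [h1]; rfl)
  simp [genSub] at this
  exact inv_mul_eq_one.mp this

end Cert.Good

end CfsgLib.Weyl
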