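import Mathlib.GroupTheory.Coset.Card
import Mathlib.GroupTheory.GroupAction.Quotient
import Mathlib.Data.Nat.Bitwise
import Mathlib.Tactic
import Mathlib.Algebra.Group.End

/-!
# Certified coset tables for groups generated by involutions

`G` is a group with a family of elements `s : ℕ → G` squaring to one and `rels` is a list of
words in them with trivial product.  A coset table for a subgroup `H` consists of rows
`T[i][j]` ("`s j` maps coset `i` to coset `T[i][j]`"), representative words, and a list of
deductions; `checkTable` verifies it.  Together with an action of `G` in which the rows are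
distinct points (`checkOrbit`), this gives `[H' : H]` and that `H` is the stabiliser in `H'`.
-/

namespace CfsgLib.Weyl

/-- The product of the generators along a word. -/
def wordProd {G : Type*} [Group G] (s : ℕ → G) (w : List ℕ) : G := (w.map s).prod

/-- Entry of a table. -/
def step (T : List (List ℕ)) (j i : ℕ) : ℕ := (T.getD i []).getD j 0

/-- Apply a word (rightmost letter first) to a point of a table. -/
def walk (T : List (List ℕ)) : List ℕ → ℕ → ℕ
  | [], i => i
  | a :: w, i => step T a (walk T w i)

/-- Bit position of the edge `(j, i)`. -/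
def edgeBit (n : ℕ) (j i : ℕ) : ℕ := i * n + j

/-- All edges met when walking a word from a point are recorded in `known`. -/
def walkKnown (n : ℕ) (T : List (List ℕ)) (known : ℕ) : List ℕ → ℕ → Bool
  | [], _ => true
  | a :: w, i => walkKnown n T known w i && decide (a < n) &&
      known.testBit (edgeBit n a (walk T w i))

/-- A deduction `(i, j, k)`: the edge at `i` labelled `j` holds by definition (`k = 0`), because
it fixes the base point (`k = 1`), or by relator number `k - 2`. -/
def dedOk (n : ℕ) (T : List (List ℕ)) (reps rels : List (List ℕ)) (base : List ℕ) (known : ℕ)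
    (d : ℕ × ℕ × ℕ) : Bool :=
  match d with
  | (i, j, 0) => decide (j :: reps.getD i [] = reps.getD (step T j i) [])
  | (i, j, 1) => decide (i = 0) && decide (step T j i = 0) && base.contains j
  | (i, j, k + 2) =>
    match rels[k]? with
    | some (a :: w) => decide (a = j) && walkKnown n T known w i && decide (walk T w i = step T j i)
    | _ => false

/-- Record an edge and its reverse. -/
def addEdge (n : ℕ) (T : List (List ℕ)) (known : ℕ) (i j : ℕ) : ℕ :=
  known ||| ((1 : ℕ) <<< edgeBit n j i) ||| ((1 : ℕ) <<< edgeBit n j (step T j i))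

/-- Run the deductions; the result is the set of proved edges. -/
def runDeds (n : ℕ) (T : List (List ℕ)) (reps rels : List (List ℕ)) (base : List ℕ) :
    List (ℕ × ℕ × ℕ) → ℕ → Option ℕ
  | [], known => some known
  | (i, j, k) :: ds, known =>
    if dedOk n T reps rels base known (i, j, k) && decide (j < n) &&
        decide (step T j (step T j i) = i) then
      runDeds n T reps rels base ds (addEdge n T known i j)
    else none

/-- Full check of a coset table for the subgroup generated by `base` inside the one generated by
`gens`. -/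
def checkTable (n : ℕ) (T : List (List ℕ)) (reps rels : List (List ℕ)) (base gens : List ℕ)
    (deds : List (ℕ × ℕ × ℕ)) : Bool :=
  decide (reps.getD 0 [] = []) && decide (0 < T.length) && base.all gens.contains &&
  (List.range T.length).all (fun i =>
    (reps.getD i []).all gens.contains && decide (walk T (reps.getD i []) 0 = i) &&
      gens.all fun j => decide (step T j i < T.length)) &&
  match runDeds n T reps rels base deds 0 with
  | none => false
  | some known => (List.range T.length).all fun i =>
      gens.all fun j => decide (j < n) && known.testBit (edgeBit n j i)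

section sound

variable {G : Type*} [Group G] {s : ℕ → G} {n : ℕ} {T : List (List ℕ)}
  {reps rels : List (List ℕ)} {base gens : List ℕ}

/-- The coset of row `i`. -/
def rowCoset (s : ℕ → G) (H : Subgroup G) (reps : List (List ℕ)) (i : ℕ) : G ⧸ H :=
  (wordProd s (reps.getD i []) : G)

/-- All recorded edges hold. -/
def Sound (s : ℕ → G) (H : Subgroup G) (n : ℕ) (T : List (List ℕ)) (reps : List (List ℕ))
    (known : ℕ) : Prop :=
  ∀ i j, j < n → known.testBit (edgeBit n j i) →
    s j • rowCoset s H reps i = rowCoset s H reps (step T j i)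

theorem wordProd_smul_of_walkKnown {H : Subgroup G} {known : ℕ}
    (h : Sound s H n T reps known) :
    ∀ (w : List ℕ) (i : ℕ), walkKnown n T known w i →
      wordProd s w • rowCoset s H reps i = rowCoset s H reps (walk T w i) := by
  intro w
  induction w with
  | nil => intro i _; simp [wordProd, walk]
  | cons a w ih =>
    intro i hw
    simp only [walkKnown, Bool.and_eq_true, decide_eq_true_eq] at hw
    have := h _ a hw.1.2 hw.2
    simp only [wordProd, List.map_cons, List.prod_cons, mul_smul, walk]
    rw [← wordProd, ih i hw.1.1]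
    exact this

theorem dedOk_sound (hs : ∀ j, s j * s j = 1) (hrels : ∀ w ∈ rels, wordProd s w = 1)
    {H : Subgroup G} (hbase : ∀ j ∈ base, s j ∈ H) (hrep : reps.getD 0 [] = [])
    {known : ℕ} (h : Sound s H n T reps known) {i j k : ℕ}
    (hd : dedOk n T reps rels base known (i, j, k)) :
    s j • rowCoset s H reps i = rowCoset s H reps (step T j i) := by
  match k, hd with
  | 0, hd =>
    simp only [dedOk, decide_eq_true_eq] at hd
    rw [rowCoset, rowCoset, ← hd, MulAction.Quotient.smul_coe]
    simp [wordProd]
  | 1, hd =>
    simp only [dedOk, Bool.and_eq_true, decide_eq_true_eq, List.contains_iff_mem] at hd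
    obtain ⟨⟨rfl, hstep⟩, hj⟩ := hd
    rw [hstep, rowCoset, hrep, MulAction.Quotient.smul_coe, smul_eq_mul]
    apply QuotientGroup.eq.mpr
    simpa [wordProd] using hbase j hj
  | k + 2, hd =>
    simp only [dedOk] at hd
    rcases hk : rels[k]? with _ | (_ | ⟨a, w⟩) <;> simp [hk] at hd
    obtain ⟨⟨rfl, hw⟩, hend⟩ := hd
    have hrel := hrels _ (List.mem_of_getElem? hk)
    simp only [wordProd, List.map_cons, List.prod_cons] at hrel
    have hinv : s a = wordProd s w := by
      rw [wordProd, ← mul_left_cancel_iff (a := s a), hrel, hs]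
    rw [← hend, hinv]
    exact wordProd_smul_of_walkKnown h w i hw

theorem runDeds_sound (hs : ∀ j, s j * s j = 1) (hrels : ∀ w ∈ rels, wordProd s w = 1)
    {H : Subgroup G} (hbase : ∀ j ∈ base, s j ∈ H) (hrep : reps.getD 0 [] = []) :
    ∀ (ds : List (ℕ × ℕ × ℕ)) (known out : ℕ), Sound s H n T reps known →
      runDeds n T reps rels base ds known = some out → Sound s H n T reps out := by
  intro ds
  induction ds with
  | nil => intro known out h he; simp only [runDeds, Option.some.injEq] at he; exact he ▸ h
  | cons d ds ih =>
    obtain ⟨i, j, k⟩ := d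
    intro known out h he
    simp only [runDeds] at he
    split at he
    · next hc =>
      simp only [Bool.and_eq_true, decide_eq_true_eq] at hc
      obtain ⟨⟨hd, hjn⟩, hinv⟩ := hc
      have hij := dedOk_sound hs hrels hbase hrep h hd
      refine ih _ _ ?_ he
      intro i' j' hj' hb
      simp only [addEdge, Nat.testBit_lor, Bool.or_eq_true, Nat.one_shiftLeft,
        Nat.testBit_two_pow, decide_eq_true_eq] at hb
      have key : ∀ x, edgeBit n j x = edgeBit n j' i' → j' = j ∧ i' = x := by
        intro x hx
        have h1 : j' = j := by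
          have := congrArg (· % n) hx
          simpa [edgeBit, Nat.mod_eq_of_lt hjn, Nat.mod_eq_of_lt hj'] using this.symm
        subst h1
        refine ⟨rfl, ?_⟩
        simp only [edgeBit, add_left_inj] at hx
        exact (Nat.eq_of_mul_eq_mul_right (by omega) hx).symm
      rcases hb with (hb | hb) | hb
      · exact h i' j' hj' hb
      · obtain ⟨rfl, rfl⟩ := key _ hb; exact hij
      · obtain ⟨rfl, rfl⟩ := key _ hb
        rw [hinv, ← hij, ← mul_smul, hs, one_smul]
    · simp at he

/-- The subgroup generated by a list of generators. -/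
def genSub (s : ℕ → G) (l : List ℕ) : Subgroup G := Subgroup.closure (s '' {j | j ∈ l})

theorem wordProd_mem_genSub {l w : List ℕ} (h : ∀ j ∈ w, j ∈ l) : wordProd s w ∈ genSub s l := by
  apply Subgroup.list_prod_mem
  intro x hx
  obtain ⟨j, hj, rfl⟩ := List.mem_map.mp hx
  exact Subgroup.subset_closure ⟨j, h j hj, rfl⟩

theorem wordProd_singleton_mem {l : List ℕ} {j : ℕ} (hj : j ∈ l) : s j ∈ genSub s l :=
  Subgroup.subset_closure ⟨j, hj, rfl⟩

variable (hs : ∀ j, s j * s j = 1) (hrels : ∀ w ∈ rels, wordProd s w = 1)
  {deds : List (ℕ × ℕ × ℕ)} (hchk : checkTable n T reps rels base gens deds)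

include hchk

theorem genSub_base_le : genSub s base ≤ genSub s gens := by
  simp only [checkTable, Bool.and_eq_true, List.all_eq_true, List.contains_iff_mem] at hchk
  exact Subgroup.closure_mono (Set.image_mono fun j hj => hchk.1.1.2 j hj)

include hs hrels

/-- Every element of the big subgroup lies in one of the cosets of the table. -/
theorem exists_row {g : G} (hg : g ∈ genSub s gens) :
    ∃ i < T.length, (g : G ⧸ genSub s base) = rowCoset s (genSub s base) reps i := by
  simp only [checkTable, Bool.and_eq_true, List.all_eq_true, decide_eq_true_eq,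
    List.contains_iff_mem, List.mem_range] at hchk
  obtain ⟨⟨⟨⟨hrep, hpos⟩, -⟩, hrow⟩, hk⟩ := hchk
  split at hk
  · simp at hk
  next known hrun =>
  simp only [List.all_eq_true, List.mem_range, Bool.and_eq_true, decide_eq_true_eq] at hk
  have hsound : Sound s (genSub s base) n T reps known :=
    runDeds_sound hs hrels (fun j hj => wordProd_singleton_mem hj) hrep deds 0 known
      (fun i j _ h => by simp at h) hrun
  have base0 : ((1 : G) : G ⧸ genSub s base) = rowCoset s (genSub s base) reps 0 := by
    simp only [rowCoset, hrep]; rfl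
  have main : ∀ i < T.length, ∀ (x : G), x ∈ genSub s gens →
      ∃ i' < T.length, x • rowCoset s (genSub s base) reps i =
        rowCoset s (genSub s base) reps i' := by
    intro i hi x hx
    induction hx using Subgroup.closure_induction'' generalizing i with
    | mem x hx =>
      obtain ⟨j, hj, rfl⟩ := hx
      exact ⟨_, (hrow i hi).2 j hj, hsound i j (hk i hi j hj).1 (hk i hi j hj).2⟩
    | inv_mem x hx =>
      obtain ⟨j, hj, rfl⟩ := hx
      rw [inv_eq_of_mul_eq_one_right (hs j)]
      exact ⟨_, (hrow i hi).2 j hj, hsound i j (hk i hi j hj).1 (hk i hi j hj).2⟩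
    | one => exact ⟨i, hi, one_smul _ _⟩
    | mul x y _ _ hx hy =>
      obtain ⟨i₁, hi₁, h₁⟩ := hy i hi
      obtain ⟨i₂, hi₂, h₂⟩ := hx i₁ hi₁
      exact ⟨i₂, hi₂, by rw [mul_smul, h₁, h₂]⟩
  obtain ⟨i', hi', h'⟩ := main 0 hpos g hg
  refine ⟨i', hi', ?_⟩
  rw [← h', ← base0, MulAction.Quotient.smul_coe, smul_eq_mul, mul_one]

omit hs hrels in
/-- The representative of a row is in the big subgroup. -/
theorem rep_mem {i : ℕ} (hi : i < T.length) : wordProd s (reps.getD i []) ∈ genSub s gens := by
  simp only [checkTable, Bool.and_eq_true, List.all_eq_true, decide_eq_true_eq,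
    List.contains_iff_mem, List.mem_range] at hchk
  exact wordProd_mem_genSub (hchk.1.2 i hi).1.1

section orbit

variable {V : Type*} (ρ : G →* Function.End V) (P : ℕ → V)
  (hP : ∀ i < T.length, ∀ j ∈ gens, ρ (s j) (P i) = P (step T j i))
  (hfix : ∀ j ∈ base, ρ (s j) (P 0) = P 0)
  (hinj : ∀ i < T.length, ∀ i' < T.length, P i = P i' → i = i')

omit hs hrels in
include hP in
theorem rep_apply {i : ℕ} (hi : i < T.length) :
    ρ (wordProd s (reps.getD i [])) (P 0) = P i := by
  simp only [checkTable, Bool.and_eq_true, List.all_eq_true, decide_eq_true_eq,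
    List.contains_iff_mem, List.mem_range] at hchk
  obtain ⟨⟨⟨⟨-, hpos⟩, -⟩, hrow⟩, -⟩ := hchk
  have key : ∀ w : List ℕ, (∀ a ∈ w, a ∈ gens) →
      walk T w 0 < T.length ∧ ρ (wordProd s w) (P 0) = P (walk T w 0) := by
    intro w
    induction w with
    | nil => exact fun _ => ⟨hpos, by simp [wordProd, walk]; rfl⟩
    | cons a w ih =>
      intro hw
      obtain ⟨h₁, h₂⟩ := ih fun b hb => hw b (List.mem_cons_of_mem _ hb)
      refine ⟨(hrow _ h₁).2 a (hw a List.mem_cons_self), ?_⟩
      show ρ (s a * wordProd s w) (P 0) = _
      rw [map_mul]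
      show ρ (s a) (ρ (wordProd s w) (P 0)) = _
      rw [h₂, hP _ h₁ a (hw a List.mem_cons_self)]
      rfl
  rw [(key _ (hrow i hi).1.1).2, (hrow i hi).1.2]

omit hs hrels hchk in
include hfix in
theorem base_fix {g : G} (hg : g ∈ genSub s base) : ρ g (P 0) = P 0 := by
  induction hg using Subgroup.closure_induction with
  | mem x hx => obtain ⟨j, hj, rfl⟩ := hx; exact hfix j hj
  | one => rw [map_one]; rfl
  | mul x y _ _ hx hy => rw [map_mul]; show ρ x (ρ y (P 0)) = _; rw [hy, hx]
  | inv x _ hx =>
    conv_lhs => rw [← hx]
    show (ρ x⁻¹ * ρ x) (P 0) = _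
    rw [← map_mul, inv_mul_cancel, map_one]
    rfl

include hP hfix hinj

/-- The stabiliser of the base point in the big subgroup is the small subgroup. -/
theorem mem_base_of_fix {g : G} (hg : g ∈ genSub s gens) (h : ρ g (P 0) = P 0) :
    g ∈ genSub s base := by
  obtain ⟨i, hi, hgi⟩ := exists_row hs hrels hchk hg
  simp only [rowCoset, QuotientGroup.eq] at hgi
  have hfixd := base_fix ρ P hfix hgi
  rw [map_mul] at hfixd
  have happ := congrArg (ρ g) hfixd
  change (ρ g * (ρ g⁻¹ * ρ (wordProd s (reps.getD i [])))) (P 0) = _ at happ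
  rw [← mul_assoc, ← map_mul ρ g, mul_inv_cancel, map_one, one_mul,
    rep_apply hchk ρ P hP hi, h] at happ
  have hi0 : i = 0 := hinj i hi 0 (by omega) happ
  subst hi0
  have hrep : reps.getD 0 [] = [] := by
    simp only [checkTable, Bool.and_eq_true, decide_eq_true_eq] at hchk
    exact hchk.1.1.1.1
  rw [hrep] at hgi
  simpa [wordProd] using hgi

/-- `|H'| = N |H|` for a certified table with `N` rows. -/
theorem card_genSub_eq :
    Nat.card (genSub s gens) = T.length * Nat.card (genSub s base) := by
  set H' := genSub s gens
  set H := genSub s base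
  have hle : H ≤ H' := genSub_base_le hchk
  rw [← Subgroup.card_mul_index (H.subgroupOf H'),
    Nat.card_congr (Subgroup.subgroupOfEquivOfLe hle).toEquiv, mul_comm]
  congr 1
  rw [Subgroup.index]
  let f : Fin T.length → H' ⧸ H.subgroupOf H' := fun i =>
    ((⟨_, rep_mem hchk i.2⟩ : H') : H' ⧸ H.subgroupOf H')
  suffices hf : Function.Bijective f by
    rw [← Nat.card_eq_of_bijective f hf, Nat.card_fin]
  constructor
  · intro i i' h
    have h' := QuotientGroup.eq.mp h
    rw [Subgroup.mem_subgroupOf] at h'
    have hfixd := base_fix ρ P hfix h'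
    simp only [Subgroup.coe_mul, Subgroup.coe_inv, map_mul] at hfixd
    have happ := congrArg (ρ (wordProd s (reps.getD i []))) hfixd
    change (ρ _ * (ρ _ * ρ _)) (P 0) = _ at happ
    rw [← mul_assoc, ← map_mul, mul_inv_cancel, map_one, one_mul,
      rep_apply hchk ρ P hP i.2, rep_apply hchk ρ P hP i'.2] at happ
    exact Fin.ext (hinj _ i.2 _ i'.2 happ.symm)
  · intro q
    induction q using QuotientGroup.induction_on with
    | _ g =>
      obtain ⟨i, hi, hgi⟩ := exists_row hs hrels hchk g.2
      refine ⟨⟨i, hi⟩, QuotientGroup.eq.mpr ?_⟩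
      rw [Subgroup.mem_subgroupOf]
      exact QuotientGroup.eq.mp hgi.symm

end orbit

end sound

end CfsgLib.Weyl
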