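import Cfsg.Agent.Weyl.Cert
import Mathlib.GroupTheory.OrderOfElement

/-!
# The order of the Coxeter element from certified trajectories
-/

namespace CfsgLib.Weyl

variable {n : ℕ}

/-- The Coxeter element on weight coordinates. -/
def coxFun (C : Cert n) (v : Fin n → ℤ) : Fin n → ℤ := (List.finRange n).foldr C.reflFun v

/-- Consecutive members of the list are related by the Coxeter element. -/
def trajOk (C : Cert n) : List (List ℤ) → Bool
  | a :: b :: rest =>
    (List.finRange n).all (fun k => decide (coxFun C (toVec n a) k = toVec n b k)) &&
      trajOk C (b :: rest)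
  | _ => true

/-- The check that the Coxeter element has order `h`: every basis vector returns after `h` steps
and the extra vector does not return earlier. -/
def coxOk (C : Cert n) (h : ℕ) (basis : List (List (List ℤ))) (free : List (List ℤ)) : Bool :=
  decide (0 < h) &&
  (List.finRange n).all (fun k =>
    let t := basis.getD k []
    trajOk C t && decide (t.length = h + 1) &&
      (List.finRange n).all fun j =>
        decide (toVec n (t.getD 0 []) j = (Pi.single k 1 : Fin n → ℤ) j) &&
        decide (toVec n (t.getD h []) j = (Pi.single k 1 : Fin n → ℤ) j)) &&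
  trajOk C free && decide (free.length = h) &&
  (List.range h).all fun m => decide (m = 0) ||
    (List.finRange n).any fun j => decide (toVec n (free.getD m []) j ≠ toVec n (free.getD 0 []) j)

theorem trajOk_iterate {C : Cert n} : ∀ (t : List (List ℤ)), trajOk C t = true →
    ∀ m < t.length, (coxFun C)^[m] (toVec n (t.getD 0 [])) = toVec n (t.getD m []) := by
  intro t
  induction t with
  | nil => intro _ m hm; simp at hm
  | cons a t ih =>
    intro ht m hm
    match m with
    | 0 => rfl
    | m + 1 =>
      match t, ht with
      | b :: rest, ht =>
        simp only [trajOk, Bool.and_eq_true, List.all_eq_true, List.mem_finRange,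
          decide_eq_true_eq, forall_const] at ht
        have hab : coxFun C (toVec n a) = toVec n b := funext ht.1
        rw [Function.iterate_succ_apply]
        simp only [List.getD_cons_zero, List.getD_cons_succ, hab]
        exact ih ht.2 m (by simpa using hm)
      | [], _ => simp at hm

variable {C : Cert n} {M : CoxeterMatrix (Fin n)} (hC : C.Good M)
include hC

theorem rep_prod_apply (l : List (Fin n)) (v : Fin n → ℤ) :
    hC.rep (l.map M.simple).prod v = l.foldr C.reflFun v := by
  induction l with
  | nil => simp
  | cons a l ih =>
    rw [List.map_cons, List.prod_cons, map_mul, Module.End.mul_apply, ih, hC.rep_simple]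
    rfl

/-- The order of the Coxeter element. -/
theorem orderOf_coxeterElement {h : ℕ} {basis : List (List (List ℤ))} {free : List (List ℤ)}
    (hk : coxOk C h basis free = true) :
    orderOf ((List.finRange n).map M.simple).prod = h := by
  simp only [coxOk, Bool.and_eq_true, Bool.or_eq_true, decide_eq_true_eq, List.all_eq_true,
    List.any_eq_true, List.mem_finRange, forall_const, true_and, List.mem_range] at hk
  obtain ⟨⟨⟨⟨h0, hb⟩, hfree⟩, hlen⟩, hne⟩ := hk
  rw [← orderOf_injective hC.rep hC.rep_injective]
  have hpow : ∀ (m : ℕ) (v : Fin n → ℤ),
      (hC.rep ((List.finRange n).map M.simple).prod ^ m) v = (coxFun C)^[m] v := by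
    intro m v
    rw [Module.End.pow_apply]
    congr 1
    funext w
    exact rep_prod_apply hC _ w
  rw [orderOf_eq_iff h0]
  constructor
  · refine LinearMap.pi_ext' fun k => LinearMap.ext_ring ?_
    obtain ⟨⟨ht, hl⟩, hj⟩ := hb k
    simp only [LinearMap.coe_comp, LinearMap.coe_single, Function.comp_apply, hpow,
      Module.End.one_apply]
    rw [← funext fun j => (hj j).1, trajOk_iterate _ ht h (by omega), funext fun j => (hj j).2]
    exact funext fun j => (hj j).1.symm
  · intro m hm hm0 he
    obtain h' | ⟨j, hj⟩ := hne m hm
    · omega
    · apply hj
      rw [← trajOk_iterate _ hfree m (by omega), ← hpow, he]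
      rfl

end CfsgLib.Weyl
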